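import Cfsg.Agent.Lib.JThreeUniq.Nums

/-!
# Certificates for double coset enumerations

The group is generated by a copy of the centralizer, given by numbers, an element `τ` and an involution `σ`, acting on
a point fixed by the centralizer. A fact `(g, (i, c), (j, d))` asserts that `g` maps the point `c • v i` to
`d • v j`; each fact is a definition of a point, or follows from earlier facts and one relation.
-/

set_option autoImplicit false

namespace CfsgLib.JThreeUniq

variable {Γ : Type*} [Group Γ]

/-- The three substitution rules and the multiplication. -/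
structure Sys (el : ℕ → Γ) (τ σ : Γ) : Prop where
  mul : ∀ a b, a < 1920 → b < 1920 → el (mulN a b) = el a * el b
  inv : ∀ a, a < 1920 → el (invN a) = (el a)⁻¹
  one : el 0 = 1
  tau : ∀ u, u < 1920 → tauN u < 1920 → τ * el u = el (tauN u) * τ
  tai : ∀ u, u < 1920 → taiN u < 1920 → τ⁻¹ * el u = el (taiN u) * τ⁻¹
  sig : ∀ u, u < 1920 → sigN u < 1920 → σ * el u = el (sigN u) * σ
  sq : σ * σ = 1

/-- The value of a letter. -/
def lv (el : ℕ → Γ) (τ σ : Γ) (u : ℕ) : Γ :=
  if u < 1920 then el u else if u = 1920 then τ else if u = 1921 then τ⁻¹ else σ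

/-- The value of a word. -/
def wv (el : ℕ → Γ) (τ σ : Γ) (w : List ℕ) : Γ := (w.map (lv el τ σ)).prod

/-- The inverse letter. -/
def linv (u : ℕ) : ℕ :=
  if Nat.blt u 1920 then invN u else if u == 1920 then 1921 else if u == 1921 then 1920 else u

/-- A letter in front of a normal word. -/
def push (u : ℕ) : List ℕ → List ℕ
  | [] => if u == 0 then [] else [u]
  | v :: r =>
    if u == 0 then v :: r
    else if Nat.blt u 1920 && Nat.blt v 1920 then
      force (mulN u v) fun p => if p == 0 then r else p :: r
    else if Nat.ble 1920 u && Nat.ble u 1922 && (linv u == v) then r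
    else u :: v :: r

/-- The normal word. -/
def nf : List ℕ → List ℕ
  | [] => []
  | u :: w => push u (nf w)

/-- The word of an outer letter. -/
def gword (g : ℕ) : List ℕ := if g == 0 then [] else [1919 + g]

/-- The reader of packed digits, least significant first. -/
def readD : ℕ → ℕ → List ℕ
  | 0, _ => []
  | n + 1, x => x % 65536 :: readD n (x >>> 16)

/-- The digits of a packed list; the first digit is the length. -/
def digs (x : ℕ) : List ℕ := readD (x % 65536) (x >>> 16)

/-- A certificate. -/
structure Dce where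
  /-- The relators. -/
  rels : List (List ℕ)
  /-- The facts, packed by 256. -/
  fct : List ℕ
  /-- The defining fact of each point, packed by 256. -/
  dvt : List ℕ

namespace Dce

variable (c : Dce)

/-- A fact. -/
def fact (k : ℕ) : ℕ := tget 48 (c.fct.getD (k / 256) 0) (k % 256)

/-- The outer letter of a fact. -/
def fg (k : ℕ) : ℕ := c.fact k % 4

/-- The first point. -/
def fi (k : ℕ) : ℕ := c.fact k / 4 % 2048

/-- The first element. -/
def fc (k : ℕ) : ℕ := c.fact k / 8192 % 2048

/-- The second point. -/
def fj (k : ℕ) : ℕ := c.fact k / 16777216 % 2048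

/-- The second element. -/
def fd (k : ℕ) : ℕ := c.fact k / 34359738368 % 2048

/-- The defining fact of a point. -/
def dv (v : ℕ) : ℕ := tget 16 (c.dvt.getD (v / 256) 0) (v % 256)

/-- The value of the outer letter of a fact. -/
def gval (el : ℕ → Γ) (τ σ : Γ) (g : ℕ) : Γ := wv el τ σ (gword g)

variable {X : Type*} [MulAction Γ X]

/-- The points. -/
def pt (el : ℕ → Γ) (τ σ : Γ) (o : X) (v : ℕ) : X :=
  if _h : c.fi (c.dv v) < v then
    (el (c.fd (c.dv v)))⁻¹ • gval el τ σ (c.fg (c.dv v)) • el (c.fc (c.dv v)) • pt el τ σ o (c.fi (c.dv v))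
  else o
termination_by v

/-- The meaning of a fact. -/
def Valid (el : ℕ → Γ) (τ σ : Γ) (o : X) (k : ℕ) : Prop :=
  c.fc k < 1920 ∧ c.fd k < 1920 ∧
    gval el τ σ (c.fg k) • el (c.fc k) • c.pt el τ σ o (c.fi k) = el (c.fd k) • c.pt el τ σ o (c.fj k)

/-- The substitution of an outer letter. -/
def autN (g u : ℕ) : ℕ :=
  if g == 0 then u else if g == 1 then tauN u else if g == 2 then taiN u else sigN u

/-- The outer letter read backwards. -/
def ginv (g : ℕ) : ℕ := if g == 1 then 2 else if g == 2 then 1 else g

/-- One step along a fact. -/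
def stepB (g e e' x : ℕ) (w : List ℕ) (cont : ℕ → List ℕ → Bool) : Bool :=
  force (mulN x (invN e)) fun u =>
    Nat.blt u 1920 && (force (autN g u) fun u' =>
      Nat.blt u' 1920 && (force (mulN u' e') fun x' =>
        Nat.blt x' 1920 && cont x' (if g == 0 then w else (1919 + g) :: w)))

/-- The moves of a fact below `k`. -/
def runB (k j d : ℕ) (exp : List ℕ) : List ℕ → ℕ → ℕ → List ℕ → Bool
  | [], i, x, w => (i == j) && (x == d) && (nf w == exp)
  | m :: ms, i, x, w =>
    force (m / 4) fun f =>
    if m % 4 == 0 then
      Nat.blt f 1920 && (force (mulN f x) fun x' => Nat.blt x' 1920 && runB k j d exp ms i x' (f :: w))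
    else if m % 4 == 1 then
      Nat.blt f k && (c.fi f == i) &&
        stepB (c.fg f) (c.fc f) (c.fd f) x w (runB k j d exp ms (c.fj f))
    else
      Nat.blt f k && (c.fj f == i) &&
        stepB (ginv (c.fg f)) (c.fd f) (c.fc f) x w (runB k j d exp ms (c.fi f))

/-- The normal word expected by a rule: `0` the letter itself, `1 + 2 * r` the relator `r` split before position
`a`, `2 + 2 * r` the relator with the letter at position `a` omitted. -/
def expW (g rule a : ℕ) : List ℕ :=
  if rule == 0 then nf (gword g)
  else
    let W := c.rels.getD ((rule - 1) / 2) []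
    let s := if (rule - 1) % 2 == 0 then 0 else 1
    nf (((W.take a).reverse.map linv) ++ ((W.drop (a + s)).reverse.map linv))

/-- The side conditions of a rule. -/
def ruleB (g rule a : ℕ) : Bool :=
  (rule == 0) || ((Nat.blt ((rule - 1) / 2) c.rels.length) && Nat.ble a (c.rels.getD ((rule - 1) / 2) []).length &&
    (if (rule - 1) % 2 == 0 then g == 0
      else ((c.rels.getD ((rule - 1) / 2) []).drop a).take 1 == gword g &&
        Nat.blt a (c.rels.getD ((rule - 1) / 2) []).length))

/-- The justification of a fact: a definition, a generator of the centralizer at the first point, or a rule with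
moves. -/
def factB (k : ℕ) : List ℕ → Bool
  | 0 :: _ => (c.dv (c.fj k) == k) && Nat.blt (c.fi k) (c.fj k) && Nat.blt (c.fc k) 1920 && Nat.blt (c.fd k) 1920
  | 1 :: _ => (c.fg k == 0) && (c.fi k == 0) && (c.fj k == 0) && !Nat.blt (c.fi (c.dv 0)) 0 &&
      Nat.blt (c.fc k) 1920 && Nat.blt (c.fd k) 1920
  | r :: a :: ms => Nat.blt (c.fc k) 1920 && Nat.blt (c.fd k) 1920 && c.ruleB (c.fg k) (r - 2) a &&
      c.runB k (c.fj k) (c.fd k) (c.expW (c.fg k) (r - 2) a) ms (c.fi k) (c.fc k) []
  | _ => false

/-- A chunk of justifications. -/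
def chunkB : ℕ → List ℕ → Bool
  | _, [] => true
  | base, x :: xs => c.factB base (digs x) && chunkB (base + 1) xs

end Dce

end CfsgLib.JThreeUniq
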