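import Cfsg.Agent.Lib.JThreeUniq.Ctx
import Cfsg.Agent.Lib.JThreeUniq.Dce
import Cfsg.Agent.Lib.JThreeUniq.Data.NormA

/-!
The action of the normalizer of the elementary abelian group of order sixteen, as numbers.
-/

set_option autoImplicit false
set_option maxRecDepth 100000

namespace CfsgLib.JThreeUniq

/-- An element of the elementary abelian group. -/
def aA (i : ℕ) : ℕ := Data.domA.getD i 0

/-- The coordinates of an element. -/
def idxA (u : ℕ) : ℕ := Data.domA.idxOf u

/-- A linear map applied to a vector. -/
def appP (p i : ℕ) : ℕ :=
  (if i % 2 == 1 then p % 16 else 0) ^^^ (if i / 2 % 2 == 1 then p / 16 % 16 else 0) ^^^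
    (if i / 4 % 2 == 1 then p / 256 % 16 else 0) ^^^ (if i / 8 % 2 == 1 then p / 4096 % 16 else 0)

/-- A linear map from the images of the basis. -/
def mkP (b : ℕ → ℕ) : ℕ := b 1 + 16 * b 2 + 256 * b 4 + 4096 * b 8

/-- The composition. -/
def compP (p q : ℕ) : ℕ := force p fun p => mkP fun i => appP p (appP q i)

/-- The identity. -/
def idP : ℕ := mkP id

/-- The product of affine maps: translation and linear part. -/
def affM (a b : ℕ) : ℕ := ((a % 16) ^^^ appP (a / 16) (b % 16)) + 16 * compP (a / 16) (b / 16)

/-- The action of an element of the centralizer of the four-group. -/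
def actU (u : ℕ) : ℕ := mkP fun i => idxA (cjN u (aA i))

/-- The translation of an element of the centralizer of the four-group. -/
def trU (u : ℕ) : ℕ := idxA (mulN u (mulN Data.omU (mulN (tauN (tauN (invN u))) (invN Data.omU))))

/-- The action of the element of order three. -/
def tauP : ℕ := mkP fun i => idxA (tauN (aA i))

/-- The translation of the element of order three. -/
def tauV : ℕ := idxA (mulN (tauN Data.omU) (invN Data.omU))

/-- The affine map of a letter. -/
def repL (u : ℕ) : ℕ :=
  if Nat.blt u 1920 then trU u + 16 * actU u
  else if u == 1920 then tauV + 16 * tauP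
  else if u == 1921 then affM (tauV + 16 * tauP) (tauV + 16 * tauP)
  else 16 * Data.sigP

/-- The affine map of a word. -/
def repW : List ℕ → ℕ
  | [] => 16 * idP
  | u :: w => force (repW w) fun r => affM (repL u) r

/-- The letters with a map. -/
def letA (u : ℕ) : Bool := Data.domV.contains u || (Nat.ble 1920 u && Nat.ble u 1922)

/-- An element of order five moving the three fixed vectors off themselves. -/
def fiveB (g : ℕ) : Bool :=
  (appP g (appP g (appP g (appP g (appP g 1)))) == 1) && force (compP g g) fun g2 => force (compP g2 g2) fun g4 =>
    (compP g g4 == idP) && !(g == idP) &&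
      [g, g2, compP g g2, g4].all fun k => [4, 8, 12].all fun v => !([4, 8, 12].contains (appP k v))

/-- The powers of an element of order five. -/
def powL (g : ℕ) : List ℕ :=
  force (compP g g) fun g2 => force (compP g2 g2) fun g4 => [idP, g, g2, compP g g2, g4]

/-- Membership in the five cosets, by a test for each power. -/
def inCos (g p : ℕ) : Bool := (powL g).any fun k => Data.actH.contains (compP k p)

end CfsgLib.JThreeUniq
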