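import Cfsg.Agent.Lib.JThreeUniq.DceSound
import Cfsg.Agent.Lib.JThreeUniq.Data.CertM
import Cfsg.Agent.Lib.JThreeUniq.Data.CertK1_
import Cfsg.Agent.Lib.JThreeUniq.Data.CertK2_
import Cfsg.Agent.Lib.JThreeUniq.Data.CertK3_
import Cfsg.Agent.Lib.JThreeUniq.Data.CertK4_
import Cfsg.Agent.Lib.JThreeUniq.Data.CertK5_
import Cfsg.Agent.Lib.JThreeUniq.Data.CertK6_
import Cfsg.Agent.Lib.JThreeUniq.Data.CertK7_
import Cfsg.Agent.Lib.JThreeUniq.Data.CertK8_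
import Cfsg.Agent.Lib.JThreeUniq.Data.CertK9_
import Cfsg.Agent.Lib.JThreeUniq.Data.CertK10_
import Cfsg.Agent.Lib.JThreeUniq.Data.CertK11_
import Cfsg.Agent.Lib.JThreeUniq.Data.CertK12_
import Cfsg.Agent.Lib.JThreeUniq.Data.CertK13_
import Cfsg.Agent.Lib.JThreeUniq.Data.CertK14_
import Cfsg.Agent.Lib.JThreeUniq.Data.CertK15_
import Cfsg.Agent.Lib.JThreeUniq.Data.CertK16_
import Cfsg.Agent.Lib.JThreeUniq.Data.CertK17_
import Cfsg.Agent.Lib.JThreeUniq.Data.CertK18_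
import Cfsg.Agent.Lib.JThreeUniq.Data.CertK19_
import Cfsg.Agent.Lib.JThreeUniq.Data.CertK20_
import Cfsg.Agent.Lib.JThreeUniq.Data.CertK21_
import Cfsg.Agent.Lib.JThreeUniq.Data.CertK22_
import Cfsg.Agent.Lib.JThreeUniq.Data.CertK23_
/-!
The certificates.
-/

set_option autoImplicit false

namespace CfsgLib.JThreeUniq

/-- Certificate M. -/
def certM : Dce := ⟨Data.relsM, Data.fctM, Data.dvM⟩

/-- Certificate K1_. -/
def certK1_ : Dce := ⟨Data.relsK1_, Data.fctK1_, Data.dvK1_⟩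

/-- Certificate K2_. -/
def certK2_ : Dce := ⟨Data.relsK2_, Data.fctK2_, Data.dvK2_⟩

/-- Certificate K3_. -/
def certK3_ : Dce := ⟨Data.relsK3_, Data.fctK3_, Data.dvK3_⟩

/-- Certificate K4_. -/
def certK4_ : Dce := ⟨Data.relsK4_, Data.fctK4_, Data.dvK4_⟩

/-- Certificate K5_. -/
def certK5_ : Dce := ⟨Data.relsK5_, Data.fctK5_, Data.dvK5_⟩

/-- Certificate K6_. -/
def certK6_ : Dce := ⟨Data.relsK6_, Data.fctK6_, Data.dvK6_⟩

/-- Certificate K7_. -/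
def certK7_ : Dce := ⟨Data.relsK7_, Data.fctK7_, Data.dvK7_⟩

/-- Certificate K8_. -/
def certK8_ : Dce := ⟨Data.relsK8_, Data.fctK8_, Data.dvK8_⟩

/-- Certificate K9_. -/
def certK9_ : Dce := ⟨Data.relsK9_, Data.fctK9_, Data.dvK9_⟩

/-- Certificate K10_. -/
def certK10_ : Dce := ⟨Data.relsK10_, Data.fctK10_, Data.dvK10_⟩

/-- Certificate K11_. -/
def certK11_ : Dce := ⟨Data.relsK11_, Data.fctK11_, Data.dvK11_⟩

/-- Certificate K12_. -/
def certK12_ : Dce := ⟨Data.relsK12_, Data.fctK12_, Data.dvK12_⟩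

/-- Certificate K13_. -/
def certK13_ : Dce := ⟨Data.relsK13_, Data.fctK13_, Data.dvK13_⟩

/-- Certificate K14_. -/
def certK14_ : Dce := ⟨Data.relsK14_, Data.fctK14_, Data.dvK14_⟩

/-- Certificate K15_. -/
def certK15_ : Dce := ⟨Data.relsK15_, Data.fctK15_, Data.dvK15_⟩

/-- Certificate K16_. -/
def certK16_ : Dce := ⟨Data.relsK16_, Data.fctK16_, Data.dvK16_⟩

/-- Certificate K17_. -/
def certK17_ : Dce := ⟨Data.relsK17_, Data.fctK17_, Data.dvK17_⟩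

/-- Certificate K18_. -/
def certK18_ : Dce := ⟨Data.relsK18_, Data.fctK18_, Data.dvK18_⟩

/-- Certificate K19_. -/
def certK19_ : Dce := ⟨Data.relsK19_, Data.fctK19_, Data.dvK19_⟩

/-- Certificate K20_. -/
def certK20_ : Dce := ⟨Data.relsK20_, Data.fctK20_, Data.dvK20_⟩

/-- Certificate K21_. -/
def certK21_ : Dce := ⟨Data.relsK21_, Data.fctK21_, Data.dvK21_⟩

/-- Certificate K22_. -/
def certK22_ : Dce := ⟨Data.relsK22_, Data.fctK22_, Data.dvK22_⟩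

/-- Certificate K23_. -/
def certK23_ : Dce := ⟨Data.relsK23_, Data.fctK23_, Data.dvK23_⟩

end CfsgLib.JThreeUniq
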