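import Cfsg.Agent.Lib.JThreeUniq.DceSound

/-!
# Counting the cosets of a finished double coset enumeration
-/

set_option autoImplicit false

namespace CfsgLib.JThreeUniq

namespace Dce

variable (c : Dce)

/-- The elements of a stabiliser from a list of pairs: a fact and an earlier element, prepended to the list. -/
def stabL (j : ℕ) : List ℕ → List ℕ → Option (List ℕ)
  | [], acc => some acc
  | f :: k :: r, acc =>
    if (c.fg f == 0) && (c.fi f == j) && (c.fj f == j) && (c.fd f == 0) && Nat.blt k acc.length then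
      force (mulN (c.fc f) (acc.getD (acc.length - 1 - k) 0)) fun e =>
        if Nat.blt e 1920 then stabL j r (e :: acc) else none
    else none
  | _, _ => none

/-- A set of numbers below 1920 as bits. -/
def maskP (rs ls : List ℕ) : ℕ :=
  rs.foldl (fun acc r => ls.foldl (fun acc s => force (acc ||| 1 <<< mulN r s) fun a => a) acc) 0

/-- The closing facts of one outer letter at one point. -/
def edgeB (g j : ℕ) (lv : List ℕ) : List ℕ → List ℕ → Bool
  | [], [] => true
  | t :: ts, f :: fs =>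
    Nat.blt t 1920 && (c.fg f == g) && (c.fi f == j) && (c.fc f == t) && lv.contains (c.fj f) && edgeB g j lv ts fs
  | _, _ => false

/-- One point: stabiliser, coset representatives, closing facts. -/
def liveB (n : ℕ) (lv repT repS : List ℕ) (j : ℕ) (st rs et es : List ℕ) : Bool :=
  (match c.stabL j st [0] with
    | none => false
    | some L => rs.all (fun r => Nat.blt r 1920) && (maskP rs L == 2 ^ 1920 - 1) &&
        (st.zipIdx.all fun p => (p.2 % 2 == 1) || Nat.blt p.1 n)) &&
  et.all (fun f => Nat.blt f n) && es.all (fun f => Nat.blt f n) &&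
  c.edgeB 1 j lv repT et && c.edgeB 3 j lv repS es

end Dce

variable {Γ : Type*} [Group Γ] {el : ℕ → Γ} {τ σ : Γ}

theorem testBit_or_shift {a i c : ℕ} (h : (a ||| 1 <<< i).testBit c = true) : a.testBit c = true ∨ c = i := by
  rw [Nat.testBit_or, Bool.or_eq_true] at h
  refine h.imp id fun h => ?_
  rw [Nat.one_shiftLeft, Nat.testBit_two_pow, decide_eq_true_eq] at h
  exact h.symm

theorem maskP_mem {rs ls : List ℕ} (h : Dce.maskP rs ls = 2 ^ 1920 - 1) {c : ℕ} (hc : c < 1920) :
    ∃ r ∈ rs, ∃ s ∈ ls, c = mulN r s := by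
  have inner : ∀ (ls : List ℕ) (r acc : ℕ),
      (ls.foldl (fun acc s => force (acc ||| 1 <<< mulN r s) fun a => a) acc).testBit c = true →
        acc.testBit c = true ∨ ∃ s ∈ ls, c = mulN r s := by
    intro ls r
    induction ls with
    | nil => exact fun acc h => Or.inl h
    | cons s ls ih =>
      intro acc h
      rw [List.foldl_cons, force_eq] at h
      rcases ih _ h with h | ⟨s', hs, e⟩
      · exact (testBit_or_shift h).imp id fun e => ⟨s, List.mem_cons_self, e⟩
      · exact Or.inr ⟨s', List.mem_cons_of_mem _ hs, e⟩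
  have outer : ∀ (rs : List ℕ) (acc : ℕ),
      (rs.foldl (fun acc r => ls.foldl (fun acc s => force (acc ||| 1 <<< mulN r s) fun a => a) acc)
        acc).testBit c = true → acc.testBit c = true ∨ ∃ r ∈ rs, ∃ s ∈ ls, c = mulN r s := by
    intro rs
    induction rs with
    | nil => exact fun acc h => Or.inl h
    | cons r rs ih =>
      intro acc h
      rw [List.foldl_cons] at h
      rcases ih _ h with h | ⟨r', hr, e⟩
      · exact (inner ls r _ h).imp id fun e => ⟨r, List.mem_cons_self, e⟩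
      · exact Or.inr ⟨r', List.mem_cons_of_mem _ hr, e⟩
  have hb : (Dce.maskP rs ls).testBit c = true := by
    rw [h, Nat.testBit_two_pow_sub_one]; simpa using hc
  refine (outer rs 0 hb).resolve_left ?_
  simp

variable {X : Type*} [MulAction Γ X] (S : Sys el τ σ) (R : Range) (c : Dce) {o : X} {n : ℕ}
  (hv : ∀ f < n, c.Valid el τ σ o f)
include S R hv

omit R in
theorem stabL_mem : ∀ (st acc L : List ℕ) (j : ℕ), c.stabL j st acc = some L →
    (st.zipIdx.all fun p => (p.2 % 2 == 1) || Nat.blt p.1 n) = true →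
    (∀ s ∈ acc, s < 1920 ∧ el s • c.pt el τ σ o j = c.pt el τ σ o j) →
    ∀ s ∈ L, s < 1920 ∧ el s • c.pt el τ σ o j = c.pt el τ σ o j
  | [], acc, L, j, h, _, ha => by
    simp only [Dce.stabL, Option.some.injEq] at h
    exact h ▸ ha
  | [f], acc, L, j, h, _, _ => by simp [Dce.stabL] at h
  | f :: k :: r, acc, L, j, h, hn, ha => by
    simp only [Dce.stabL, force_eq] at h
    split_ifs at h with h1 h2
    simp only [Bool.and_eq_true, beq_iff_eq, Nat.blt_eq] at h1
    obtain ⟨⟨⟨⟨hg, hi⟩, hj⟩, hd⟩, hk⟩ := h1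
    rw [Nat.blt_eq] at h2
    simp only [List.all_eq_true, List.mem_zipIdx_iff_getElem?] at hn
    have hf : f < n := by simpa using hn (f, 0) (by simp)
    refine stabL_mem r _ L j h ?_ ?_
    · simp only [List.all_eq_true, List.mem_zipIdx_iff_getElem?]
      rintro ⟨x, i⟩ hx
      have := hn (x, i + 2) (by simpa using hx)
      simpa using this
    · intro s hs
      rcases List.mem_cons.1 hs with rfl | hs
      · refine ⟨h2, ?_⟩
        obtain ⟨hc, -, hvv⟩ := hv f hf
        have hm : acc.getD (acc.length - 1 - k) 0 ∈ acc := by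
          rw [List.getD_eq_getElem _ _ (by omega)]; exact List.getElem_mem _
        obtain ⟨hlt, hfix⟩ := ha _ hm
        rw [hg, hi, hj, hd, S.one, one_smul] at hvv
        simp only [Dce.gval, gword, beq_self_eq_true, if_true, wv_nil, one_smul] at hvv
        rw [S.mul _ _ hc hlt, mul_smul, hfix, hvv]
      · exact ha s hs

omit S R in
theorem edge_mem : ∀ (g j : ℕ) (lv ts fs : List ℕ), c.edgeB g j lv ts fs = true → (∀ f ∈ fs, f < n) →
    ∀ t ∈ ts, t < 1920 ∧ ∃ d i, d < 1920 ∧ i ∈ lv ∧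
      Dce.gval el τ σ g • el t • c.pt el τ σ o j = el d • c.pt el τ σ o i
  | g, j, lv, [], fs, _, _, t, ht => absurd ht List.not_mem_nil
  | g, j, lv, t :: ts, [], h, _, _, _ => by simp [Dce.edgeB] at h
  | g, j, lv, t :: ts, f :: fs, h, hn, u, hu => by
    simp only [Dce.edgeB, Bool.and_eq_true, beq_iff_eq, Nat.blt_eq, List.contains_iff_mem] at h
    obtain ⟨⟨⟨⟨⟨ht, hg⟩, hi⟩, hc⟩, hj⟩, hr⟩ := h
    rcases List.mem_cons.1 hu with rfl | hu
    · obtain ⟨-, hd, hvv⟩ := hv f (hn f List.mem_cons_self)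
      rw [hg, hi, hc] at hvv
      exact ⟨ht, _, _, hd, hj, hvv⟩
    · exact edge_mem g j lv ts fs hr (fun f hf => hn f (List.mem_cons_of_mem _ hf)) u hu

/-- A finite set of cosets closed under the generators. -/
theorem exists_closed (vs repT repS : List ℕ) (domT domS : List ℕ) (rsOf : ℕ → List ℕ)
    (hT : domT.all (fun u => Nat.blt u 1920 && Nat.blt (tauN u) 1920) = true)
    (hS : domS.all (fun u => Nat.blt u 1920 && Nat.blt (sigN u) 1920) = true)
    (hTm : Dce.maskP domT repT = 2 ^ 1920 - 1) (hSm : Dce.maskP domS repS = 2 ^ 1920 - 1) (h0 : 0 ∈ vs)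
    (hlive : ∀ j ∈ vs, ∃ st et es, c.liveB n vs repT repS j st (rsOf j) et es = true) :
    ∃ P : Finset X, P.card ≤ (vs.map fun j => (rsOf j).length).sum ∧ o ∈ P ∧
      ∀ p ∈ P, τ • p ∈ P ∧ σ • p ∈ P ∧ ∀ u < 1920, el u • p ∈ P := by
  classical
  let P : Finset X := (vs.flatMap fun j => (rsOf j).map fun r => el r • c.pt el τ σ o j).toFinset
  have hmem : ∀ j ∈ vs, ∀ u < 1920, el u • c.pt el τ σ o j ∈ P := by
    intro j hj u hu
    obtain ⟨st, et, es, h⟩ := hlive j hj
    simp only [Dce.liveB, Bool.and_eq_true] at h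
    obtain ⟨⟨⟨⟨hs, -⟩, -⟩, -⟩, -⟩ := h
    rcases hL : c.stabL j st [0] with _ | L
    · rw [hL] at hs; simp at hs
    · rw [hL] at hs
      simp only [Bool.and_eq_true, beq_iff_eq, List.all_eq_true] at hs
      obtain ⟨⟨hr, hm⟩, hn⟩ := hs
      obtain ⟨r, hrr, s, hsL, rfl⟩ := maskP_mem hm hu
      obtain ⟨hs', hfix⟩ := stabL_mem S c hv st [0] L j hL (List.all_eq_true.2 hn) (fun s hs => by
        rw [List.mem_singleton.1 hs, S.one, one_smul]; exact ⟨by norm_num, rfl⟩) s hsL
      rw [S.mul r s (by simpa [Nat.blt_eq] using hr r hrr) hs', mul_smul, hfix]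
      exact List.mem_toFinset.2 (List.mem_flatMap.2 ⟨j, hj, List.mem_map.2 ⟨r, hrr, rfl⟩⟩)
  have hpt : c.pt el τ σ o 0 = o := by rw [Dce.pt, dif_neg (Nat.not_lt_zero _)]
  refine ⟨P, ?_, ?_, fun p hp => ?_⟩
  · refine (List.toFinset_card_le _).trans ?_
    simp [List.length_flatMap]
  · have := hmem 0 h0 0 (by norm_num)
    rwa [S.one, one_smul, hpt] at this
  · obtain ⟨j, hj, hp⟩ := List.mem_flatMap.1 (List.mem_toFinset.1 hp)
    obtain ⟨r, hr, rfl⟩ := List.mem_map.1 hp
    obtain ⟨st, et, es, h⟩ := hlive j hj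
    simp only [Dce.liveB, Bool.and_eq_true] at h
    obtain ⟨⟨⟨⟨hs, hnt⟩, hns⟩, hbt⟩, hbs⟩ := h
    have hr' : r < 1920 := by
      rcases hL : c.stabL j st [0] with _ | L
      · rw [hL] at hs; simp at hs
      · rw [hL] at hs
        simp only [Bool.and_eq_true, List.all_eq_true, Nat.blt_eq] at hs
        exact hs.1.1 r hr
    simp only [List.all_eq_true, Nat.blt_eq] at hnt hns
    simp only [List.all_eq_true, Bool.and_eq_true, Nat.blt_eq] at hT hS
    refine ⟨?_, ?_, fun u hu => ?_⟩
    · obtain ⟨k, hk, t, ht, rfl⟩ := maskP_mem hTm hr'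
      obtain ⟨ht', d, i, hd, hi, he⟩ := edge_mem c hv 1 j vs repT et hbt hnt t ht
      obtain ⟨hk', hk''⟩ := hT k hk
      have e1 : Dce.gval el τ σ 1 = τ := by simp [Dce.gval, gword, wv, lv]
      rw [e1] at he
      rw [S.mul k t hk' ht', mul_smul, ← mul_smul τ, S.tau k hk' hk'', mul_smul, he, ← mul_smul, ← S.mul _ _ hk'' hd]
      exact hmem i hi _ (R.mul _ _ hk'' hd)
    · obtain ⟨k, hk, t, ht, rfl⟩ := maskP_mem hSm hr'
      obtain ⟨ht', d, i, hd, hi, he⟩ := edge_mem c hv 3 j vs repS es hbs hns t ht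
      obtain ⟨hk', hk''⟩ := hS k hk
      have e1 : Dce.gval el τ σ 3 = σ := by simp [Dce.gval, gword, wv, lv]
      rw [e1] at he
      rw [S.mul k t hk' ht', mul_smul, ← mul_smul σ, S.sig k hk' hk'', mul_smul, he, ← mul_smul, ← S.mul _ _ hk'' hd]
      exact hmem i hi _ (R.mul _ _ hk'' hd)
    · rw [← mul_smul, ← S.mul u r hu hr']
      exact hmem j hj _ (R.mul u r hu hr')

end CfsgLib.JThreeUniq
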