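import Cfsg.Agent.Lib.JThreeUniq.DceSound

/-!
The numbers below 1920 are closed under the product and the inverse.
-/

set_option autoImplicit false
set_option maxRecDepth 100000

namespace CfsgLib.JThreeUniq

theorem perm_entries : (List.range 3600).all (fun i => Nat.blt (tget 6 Data.permT i) 60) = true := by decide +kernel

theorem inv_entries : (List.range 1920).all (fun a => Nat.blt (invN a) 1920) = true := by decide +kernel

theorem range_nums : Range := by
  refine ⟨fun a b ha hb => ?_, fun a ha => ?_⟩
  · unfold mulN
    simp only [force_eq]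
    have h1 : tget 6 Data.permT (a / 32 * 60 + b / 32) < 60 := by
      simpa [Nat.blt_eq] using List.all_eq_true.1 perm_entries _ (List.mem_range.2 (show a / 32 * 60 + b / 32 < 3600 by omega))
    have h2 : ∀ i, tget 5 Data.quadT i < 32 := fun i => Nat.mod_lt _ (by norm_num)
    have h3 := h2 (a / 2 % 16 * 16 + tget 5 Data.actT (a / 32 * 16 + b / 2 % 16) / 2)
    omega
  · simpa [Nat.blt_eq] using List.all_eq_true.1 inv_entries _ (List.mem_range.2 ha)

end CfsgLib.JThreeUniq
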