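import Cfsg.Agent.Lib.JThreeUniq.Variants
import Cfsg.Agent.Lib.JThreeUniq.Range
import Cfsg.Agent.Lib.JThreeUniq.Checks.K1_0
import Cfsg.Agent.Lib.JThreeUniq.Checks.K2_0
import Cfsg.Agent.Lib.JThreeUniq.Checks.K3_0
import Cfsg.Agent.Lib.JThreeUniq.Checks.K4_0
import Cfsg.Agent.Lib.JThreeUniq.Checks.K5_0
import Cfsg.Agent.Lib.JThreeUniq.Checks.K6_0
import Cfsg.Agent.Lib.JThreeUniq.Checks.K6_1
import Cfsg.Agent.Lib.JThreeUniq.Checks.K7_0
import Cfsg.Agent.Lib.JThreeUniq.Checks.K8_0
import Cfsg.Agent.Lib.JThreeUniq.Checks.K9_0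
import Cfsg.Agent.Lib.JThreeUniq.Checks.K10_0
import Cfsg.Agent.Lib.JThreeUniq.Checks.K11_0
import Cfsg.Agent.Lib.JThreeUniq.Checks.K12_0
import Cfsg.Agent.Lib.JThreeUniq.Checks.K13_0
import Cfsg.Agent.Lib.JThreeUniq.Checks.K14_0
import Cfsg.Agent.Lib.JThreeUniq.Checks.K15_0
import Cfsg.Agent.Lib.JThreeUniq.Checks.K16_0
import Cfsg.Agent.Lib.JThreeUniq.Checks.K17_0
import Cfsg.Agent.Lib.JThreeUniq.Checks.K18_0
import Cfsg.Agent.Lib.JThreeUniq.Checks.K19_0
import Cfsg.Agent.Lib.JThreeUniq.Checks.K20_0
import Cfsg.Agent.Lib.JThreeUniq.Checks.K21_0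
import Cfsg.Agent.Lib.JThreeUniq.Checks.K22_0
import Cfsg.Agent.Lib.JThreeUniq.Checks.K23_0

/-!
The collapsing certificates: with any of the last 23 candidates as relation, `τ` fixes the base point.
-/

set_option autoImplicit false
set_option maxRecDepth 100000

namespace CfsgLib.JThreeUniq

variable {Γ : Type*} [Group Γ] {el : ℕ → Γ} {τ σ : Γ} {X : Type*} [MulAction Γ X] {o : X}
  (S : Sys el τ σ) (ho : ∀ u, u < 1920 → el u • o = o)
include S ho

theorem fix_of_goal (c : Dce) {k : ℕ} (hg : c.fg k = 1) (hi : c.fi k = 0) (hj : c.fj k = 0)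
    (hv : c.Valid el τ σ o k) : τ • o = o := by
  obtain ⟨hc, hd, h⟩ := hv
  have h0 : c.pt el τ σ o 0 = o := by rw [Dce.pt, dif_neg (Nat.not_lt_zero _)]
  rw [hg, hi, hj, h0, ho _ hc, ho _ hd] at h
  simpa [Dce.gval, gword, wv, lv] using h

theorem fixK1 (hrel : ∀ w ∈ certK1_.rels, wv el τ σ w = 1) : τ • o = o := by
  have b : ∀ f < 0, certK1_.Valid el τ σ o f := fun f hf => absurd hf (Nat.not_lt_zero f)
  replace b : ∀ f < 250, certK1_.Valid el τ σ o f :=
    fun f hf => chunk_valid S range_nums certK1_ ho hrel _ 0 chkK1_0_0 b f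
      (by rw [show Data.jsK1_0_0.length = 250 by rfl]; exact hf)
  replace b : ∀ f < 367, certK1_.Valid el τ σ o f :=
    fun f hf => chunk_valid S range_nums certK1_ ho hrel _ 250 chkK1_0_1 b f
      (by rw [show Data.jsK1_0_1.length = 117 by rfl]; exact hf)
  exact fix_of_goal S ho certK1_ (k := 366) (by decide +kernel) (by decide +kernel)
    (by decide +kernel) (b _ (by norm_num))

theorem fixK2 (hrel : ∀ w ∈ certK2_.rels, wv el τ σ w = 1) : τ • o = o := by
  have b : ∀ f < 0, certK2_.Valid el τ σ o f := fun f hf => absurd hf (Nat.not_lt_zero f)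
  replace b : ∀ f < 250, certK2_.Valid el τ σ o f :=
    fun f hf => chunk_valid S range_nums certK2_ ho hrel _ 0 chkK2_0_0 b f
      (by rw [show Data.jsK2_0_0.length = 250 by rfl]; exact hf)
  replace b : ∀ f < 419, certK2_.Valid el τ σ o f :=
    fun f hf => chunk_valid S range_nums certK2_ ho hrel _ 250 chkK2_0_1 b f
      (by rw [show Data.jsK2_0_1.length = 169 by rfl]; exact hf)
  exact fix_of_goal S ho certK2_ (k := 418) (by decide +kernel) (by decide +kernel)
    (by decide +kernel) (b _ (by norm_num))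

theorem fixK3 (hrel : ∀ w ∈ certK3_.rels, wv el τ σ w = 1) : τ • o = o := by
  have b : ∀ f < 0, certK3_.Valid el τ σ o f := fun f hf => absurd hf (Nat.not_lt_zero f)
  replace b : ∀ f < 250, certK3_.Valid el τ σ o f :=
    fun f hf => chunk_valid S range_nums certK3_ ho hrel _ 0 chkK3_0_0 b f
      (by rw [show Data.jsK3_0_0.length = 250 by rfl]; exact hf)
  replace b : ∀ f < 299, certK3_.Valid el τ σ o f :=
    fun f hf => chunk_valid S range_nums certK3_ ho hrel _ 250 chkK3_0_1 b f
      (by rw [show Data.jsK3_0_1.length = 49 by rfl]; exact hf)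
  exact fix_of_goal S ho certK3_ (k := 298) (by decide +kernel) (by decide +kernel)
    (by decide +kernel) (b _ (by norm_num))

theorem fixK4 (hrel : ∀ w ∈ certK4_.rels, wv el τ σ w = 1) : τ • o = o := by
  have b : ∀ f < 0, certK4_.Valid el τ σ o f := fun f hf => absurd hf (Nat.not_lt_zero f)
  replace b : ∀ f < 250, certK4_.Valid el τ σ o f :=
    fun f hf => chunk_valid S range_nums certK4_ ho hrel _ 0 chkK4_0_0 b f
      (by rw [show Data.jsK4_0_0.length = 250 by rfl]; exact hf)
  replace b : ∀ f < 371, certK4_.Valid el τ σ o f :=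
    fun f hf => chunk_valid S range_nums certK4_ ho hrel _ 250 chkK4_0_1 b f
      (by rw [show Data.jsK4_0_1.length = 121 by rfl]; exact hf)
  exact fix_of_goal S ho certK4_ (k := 370) (by decide +kernel) (by decide +kernel)
    (by decide +kernel) (b _ (by norm_num))

theorem fixK5 (hrel : ∀ w ∈ certK5_.rels, wv el τ σ w = 1) : τ • o = o := by
  have b : ∀ f < 0, certK5_.Valid el τ σ o f := fun f hf => absurd hf (Nat.not_lt_zero f)
  replace b : ∀ f < 250, certK5_.Valid el τ σ o f :=
    fun f hf => chunk_valid S range_nums certK5_ ho hrel _ 0 chkK5_0_0 b f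
      (by rw [show Data.jsK5_0_0.length = 250 by rfl]; exact hf)
  replace b : ∀ f < 496, certK5_.Valid el τ σ o f :=
    fun f hf => chunk_valid S range_nums certK5_ ho hrel _ 250 chkK5_0_1 b f
      (by rw [show Data.jsK5_0_1.length = 246 by rfl]; exact hf)
  exact fix_of_goal S ho certK5_ (k := 495) (by decide +kernel) (by decide +kernel)
    (by decide +kernel) (b _ (by norm_num))

theorem fixK6 (hrel : ∀ w ∈ certK6_.rels, wv el τ σ w = 1) : τ • o = o := by
  have b : ∀ f < 0, certK6_.Valid el τ σ o f := fun f hf => absurd hf (Nat.not_lt_zero f)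
  replace b : ∀ f < 250, certK6_.Valid el τ σ o f :=
    fun f hf => chunk_valid S range_nums certK6_ ho hrel _ 0 chkK6_0_0 b f
      (by rw [show Data.jsK6_0_0.length = 250 by rfl]; exact hf)
  replace b : ∀ f < 500, certK6_.Valid el τ σ o f :=
    fun f hf => chunk_valid S range_nums certK6_ ho hrel _ 250 chkK6_0_1 b f
      (by rw [show Data.jsK6_0_1.length = 250 by rfl]; exact hf)
  replace b : ∀ f < 750, certK6_.Valid el τ σ o f :=
    fun f hf => chunk_valid S range_nums certK6_ ho hrel _ 500 chkK6_0_2 b f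
      (by rw [show Data.jsK6_0_2.length = 250 by rfl]; exact hf)
  replace b : ∀ f < 1000, certK6_.Valid el τ σ o f :=
    fun f hf => chunk_valid S range_nums certK6_ ho hrel _ 750 chkK6_0_3 b f
      (by rw [show Data.jsK6_0_3.length = 250 by rfl]; exact hf)
  replace b : ∀ f < 1250, certK6_.Valid el τ σ o f :=
    fun f hf => chunk_valid S range_nums certK6_ ho hrel _ 1000 chkK6_0_4 b f
      (by rw [show Data.jsK6_0_4.length = 250 by rfl]; exact hf)
  replace b : ∀ f < 1500, certK6_.Valid el τ σ o f :=
    fun f hf => chunk_valid S range_nums certK6_ ho hrel _ 1250 chkK6_0_5 b f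
      (by rw [show Data.jsK6_0_5.length = 250 by rfl]; exact hf)
  replace b : ∀ f < 1750, certK6_.Valid el τ σ o f :=
    fun f hf => chunk_valid S range_nums certK6_ ho hrel _ 1500 chkK6_1_0 b f
      (by rw [show Data.jsK6_1_0.length = 250 by rfl]; exact hf)
  replace b : ∀ f < 2000, certK6_.Valid el τ σ o f :=
    fun f hf => chunk_valid S range_nums certK6_ ho hrel _ 1750 chkK6_1_1 b f
      (by rw [show Data.jsK6_1_1.length = 250 by rfl]; exact hf)
  replace b : ∀ f < 2250, certK6_.Valid el τ σ o f :=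
    fun f hf => chunk_valid S range_nums certK6_ ho hrel _ 2000 chkK6_1_2 b f
      (by rw [show Data.jsK6_1_2.length = 250 by rfl]; exact hf)
  replace b : ∀ f < 2500, certK6_.Valid el τ σ o f :=
    fun f hf => chunk_valid S range_nums certK6_ ho hrel _ 2250 chkK6_1_3 b f
      (by rw [show Data.jsK6_1_3.length = 250 by rfl]; exact hf)
  replace b : ∀ f < 2599, certK6_.Valid el τ σ o f :=
    fun f hf => chunk_valid S range_nums certK6_ ho hrel _ 2500 chkK6_1_4 b f
      (by rw [show Data.jsK6_1_4.length = 99 by rfl]; exact hf)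
  exact fix_of_goal S ho certK6_ (k := 2598) (by decide +kernel) (by decide +kernel)
    (by decide +kernel) (b _ (by norm_num))

theorem fixK7 (hrel : ∀ w ∈ certK7_.rels, wv el τ σ w = 1) : τ • o = o := by
  have b : ∀ f < 0, certK7_.Valid el τ σ o f := fun f hf => absurd hf (Nat.not_lt_zero f)
  replace b : ∀ f < 250, certK7_.Valid el τ σ o f :=
    fun f hf => chunk_valid S range_nums certK7_ ho hrel _ 0 chkK7_0_0 b f
      (by rw [show Data.jsK7_0_0.length = 250 by rfl]; exact hf)
  replace b : ∀ f < 367, certK7_.Valid el τ σ o f :=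
    fun f hf => chunk_valid S range_nums certK7_ ho hrel _ 250 chkK7_0_1 b f
      (by rw [show Data.jsK7_0_1.length = 117 by rfl]; exact hf)
  exact fix_of_goal S ho certK7_ (k := 366) (by decide +kernel) (by decide +kernel)
    (by decide +kernel) (b _ (by norm_num))

theorem fixK8 (hrel : ∀ w ∈ certK8_.rels, wv el τ σ w = 1) : τ • o = o := by
  have b : ∀ f < 0, certK8_.Valid el τ σ o f := fun f hf => absurd hf (Nat.not_lt_zero f)
  replace b : ∀ f < 250, certK8_.Valid el τ σ o f :=
    fun f hf => chunk_valid S range_nums certK8_ ho hrel _ 0 chkK8_0_0 b f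
      (by rw [show Data.jsK8_0_0.length = 250 by rfl]; exact hf)
  replace b : ∀ f < 419, certK8_.Valid el τ σ o f :=
    fun f hf => chunk_valid S range_nums certK8_ ho hrel _ 250 chkK8_0_1 b f
      (by rw [show Data.jsK8_0_1.length = 169 by rfl]; exact hf)
  exact fix_of_goal S ho certK8_ (k := 418) (by decide +kernel) (by decide +kernel)
    (by decide +kernel) (b _ (by norm_num))

theorem fixK9 (hrel : ∀ w ∈ certK9_.rels, wv el τ σ w = 1) : τ • o = o := by
  have b : ∀ f < 0, certK9_.Valid el τ σ o f := fun f hf => absurd hf (Nat.not_lt_zero f)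
  replace b : ∀ f < 250, certK9_.Valid el τ σ o f :=
    fun f hf => chunk_valid S range_nums certK9_ ho hrel _ 0 chkK9_0_0 b f
      (by rw [show Data.jsK9_0_0.length = 250 by rfl]; exact hf)
  replace b : ∀ f < 500, certK9_.Valid el τ σ o f :=
    fun f hf => chunk_valid S range_nums certK9_ ho hrel _ 250 chkK9_0_1 b f
      (by rw [show Data.jsK9_0_1.length = 250 by rfl]; exact hf)
  replace b : ∀ f < 750, certK9_.Valid el τ σ o f :=
    fun f hf => chunk_valid S range_nums certK9_ ho hrel _ 500 chkK9_0_2 b f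
      (by rw [show Data.jsK9_0_2.length = 250 by rfl]; exact hf)
  replace b : ∀ f < 1000, certK9_.Valid el τ σ o f :=
    fun f hf => chunk_valid S range_nums certK9_ ho hrel _ 750 chkK9_0_3 b f
      (by rw [show Data.jsK9_0_3.length = 250 by rfl]; exact hf)
  replace b : ∀ f < 1250, certK9_.Valid el τ σ o f :=
    fun f hf => chunk_valid S range_nums certK9_ ho hrel _ 1000 chkK9_0_4 b f
      (by rw [show Data.jsK9_0_4.length = 250 by rfl]; exact hf)
  replace b : ∀ f < 1417, certK9_.Valid el τ σ o f :=
    fun f hf => chunk_valid S range_nums certK9_ ho hrel _ 1250 chkK9_0_5 b f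
      (by rw [show Data.jsK9_0_5.length = 167 by rfl]; exact hf)
  exact fix_of_goal S ho certK9_ (k := 1416) (by decide +kernel) (by decide +kernel)
    (by decide +kernel) (b _ (by norm_num))

theorem fixK10 (hrel : ∀ w ∈ certK10_.rels, wv el τ σ w = 1) : τ • o = o := by
  have b : ∀ f < 0, certK10_.Valid el τ σ o f := fun f hf => absurd hf (Nat.not_lt_zero f)
  replace b : ∀ f < 250, certK10_.Valid el τ σ o f :=
    fun f hf => chunk_valid S range_nums certK10_ ho hrel _ 0 chkK10_0_0 b f
      (by rw [show Data.jsK10_0_0.length = 250 by rfl]; exact hf)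
  replace b : ∀ f < 464, certK10_.Valid el τ σ o f :=
    fun f hf => chunk_valid S range_nums certK10_ ho hrel _ 250 chkK10_0_1 b f
      (by rw [show Data.jsK10_0_1.length = 214 by rfl]; exact hf)
  exact fix_of_goal S ho certK10_ (k := 463) (by decide +kernel) (by decide +kernel)
    (by decide +kernel) (b _ (by norm_num))

theorem fixK11 (hrel : ∀ w ∈ certK11_.rels, wv el τ σ w = 1) : τ • o = o := by
  have b : ∀ f < 0, certK11_.Valid el τ σ o f := fun f hf => absurd hf (Nat.not_lt_zero f)
  replace b : ∀ f < 250, certK11_.Valid el τ σ o f :=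
    fun f hf => chunk_valid S range_nums certK11_ ho hrel _ 0 chkK11_0_0 b f
      (by rw [show Data.jsK11_0_0.length = 250 by rfl]; exact hf)
  replace b : ∀ f < 500, certK11_.Valid el τ σ o f :=
    fun f hf => chunk_valid S range_nums certK11_ ho hrel _ 250 chkK11_0_1 b f
      (by rw [show Data.jsK11_0_1.length = 250 by rfl]; exact hf)
  replace b : ∀ f < 750, certK11_.Valid el τ σ o f :=
    fun f hf => chunk_valid S range_nums certK11_ ho hrel _ 500 chkK11_0_2 b f
      (by rw [show Data.jsK11_0_2.length = 250 by rfl]; exact hf)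
  replace b : ∀ f < 1000, certK11_.Valid el τ σ o f :=
    fun f hf => chunk_valid S range_nums certK11_ ho hrel _ 750 chkK11_0_3 b f
      (by rw [show Data.jsK11_0_3.length = 250 by rfl]; exact hf)
  replace b : ∀ f < 1250, certK11_.Valid el τ σ o f :=
    fun f hf => chunk_valid S range_nums certK11_ ho hrel _ 1000 chkK11_0_4 b f
      (by rw [show Data.jsK11_0_4.length = 250 by rfl]; exact hf)
  replace b : ∀ f < 1438, certK11_.Valid el τ σ o f :=
    fun f hf => chunk_valid S range_nums certK11_ ho hrel _ 1250 chkK11_0_5 b f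
      (by rw [show Data.jsK11_0_5.length = 188 by rfl]; exact hf)
  exact fix_of_goal S ho certK11_ (k := 1437) (by decide +kernel) (by decide +kernel)
    (by decide +kernel) (b _ (by norm_num))

theorem fixK12 (hrel : ∀ w ∈ certK12_.rels, wv el τ σ w = 1) : τ • o = o := by
  have b : ∀ f < 0, certK12_.Valid el τ σ o f := fun f hf => absurd hf (Nat.not_lt_zero f)
  replace b : ∀ f < 250, certK12_.Valid el τ σ o f :=
    fun f hf => chunk_valid S range_nums certK12_ ho hrel _ 0 chkK12_0_0 b f
      (by rw [show Data.jsK12_0_0.length = 250 by rfl]; exact hf)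
  replace b : ∀ f < 388, certK12_.Valid el τ σ o f :=
    fun f hf => chunk_valid S range_nums certK12_ ho hrel _ 250 chkK12_0_1 b f
      (by rw [show Data.jsK12_0_1.length = 138 by rfl]; exact hf)
  exact fix_of_goal S ho certK12_ (k := 387) (by decide +kernel) (by decide +kernel)
    (by decide +kernel) (b _ (by norm_num))

theorem fixK13 (hrel : ∀ w ∈ certK13_.rels, wv el τ σ w = 1) : τ • o = o := by
  have b : ∀ f < 0, certK13_.Valid el τ σ o f := fun f hf => absurd hf (Nat.not_lt_zero f)
  replace b : ∀ f < 250, certK13_.Valid el τ σ o f :=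
    fun f hf => chunk_valid S range_nums certK13_ ho hrel _ 0 chkK13_0_0 b f
      (by rw [show Data.jsK13_0_0.length = 250 by rfl]; exact hf)
  replace b : ∀ f < 332, certK13_.Valid el τ σ o f :=
    fun f hf => chunk_valid S range_nums certK13_ ho hrel _ 250 chkK13_0_1 b f
      (by rw [show Data.jsK13_0_1.length = 82 by rfl]; exact hf)
  exact fix_of_goal S ho certK13_ (k := 331) (by decide +kernel) (by decide +kernel)
    (by decide +kernel) (b _ (by norm_num))

theorem fixK14 (hrel : ∀ w ∈ certK14_.rels, wv el τ σ w = 1) : τ • o = o := by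
  have b : ∀ f < 0, certK14_.Valid el τ σ o f := fun f hf => absurd hf (Nat.not_lt_zero f)
  replace b : ∀ f < 250, certK14_.Valid el τ σ o f :=
    fun f hf => chunk_valid S range_nums certK14_ ho hrel _ 0 chkK14_0_0 b f
      (by rw [show Data.jsK14_0_0.length = 250 by rfl]; exact hf)
  replace b : ∀ f < 500, certK14_.Valid el τ σ o f :=
    fun f hf => chunk_valid S range_nums certK14_ ho hrel _ 250 chkK14_0_1 b f
      (by rw [show Data.jsK14_0_1.length = 250 by rfl]; exact hf)
  replace b : ∀ f < 750, certK14_.Valid el τ σ o f :=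
    fun f hf => chunk_valid S range_nums certK14_ ho hrel _ 500 chkK14_0_2 b f
      (by rw [show Data.jsK14_0_2.length = 250 by rfl]; exact hf)
  replace b : ∀ f < 1000, certK14_.Valid el τ σ o f :=
    fun f hf => chunk_valid S range_nums certK14_ ho hrel _ 750 chkK14_0_3 b f
      (by rw [show Data.jsK14_0_3.length = 250 by rfl]; exact hf)
  replace b : ∀ f < 1250, certK14_.Valid el τ σ o f :=
    fun f hf => chunk_valid S range_nums certK14_ ho hrel _ 1000 chkK14_0_4 b f
      (by rw [show Data.jsK14_0_4.length = 250 by rfl]; exact hf)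
  replace b : ∀ f < 1391, certK14_.Valid el τ σ o f :=
    fun f hf => chunk_valid S range_nums certK14_ ho hrel _ 1250 chkK14_0_5 b f
      (by rw [show Data.jsK14_0_5.length = 141 by rfl]; exact hf)
  exact fix_of_goal S ho certK14_ (k := 1390) (by decide +kernel) (by decide +kernel)
    (by decide +kernel) (b _ (by norm_num))

theorem fixK15 (hrel : ∀ w ∈ certK15_.rels, wv el τ σ w = 1) : τ • o = o := by
  have b : ∀ f < 0, certK15_.Valid el τ σ o f := fun f hf => absurd hf (Nat.not_lt_zero f)
  replace b : ∀ f < 246, certK15_.Valid el τ σ o f :=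
    fun f hf => chunk_valid S range_nums certK15_ ho hrel _ 0 chkK15_0_0 b f
      (by rw [show Data.jsK15_0_0.length = 246 by rfl]; exact hf)
  exact fix_of_goal S ho certK15_ (k := 245) (by decide +kernel) (by decide +kernel)
    (by decide +kernel) (b _ (by norm_num))

theorem fixK16 (hrel : ∀ w ∈ certK16_.rels, wv el τ σ w = 1) : τ • o = o := by
  have b : ∀ f < 0, certK16_.Valid el τ σ o f := fun f hf => absurd hf (Nat.not_lt_zero f)
  replace b : ∀ f < 250, certK16_.Valid el τ σ o f :=
    fun f hf => chunk_valid S range_nums certK16_ ho hrel _ 0 chkK16_0_0 b f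
      (by rw [show Data.jsK16_0_0.length = 250 by rfl]; exact hf)
  replace b : ∀ f < 340, certK16_.Valid el τ σ o f :=
    fun f hf => chunk_valid S range_nums certK16_ ho hrel _ 250 chkK16_0_1 b f
      (by rw [show Data.jsK16_0_1.length = 90 by rfl]; exact hf)
  exact fix_of_goal S ho certK16_ (k := 339) (by decide +kernel) (by decide +kernel)
    (by decide +kernel) (b _ (by norm_num))

theorem fixK17 (hrel : ∀ w ∈ certK17_.rels, wv el τ σ w = 1) : τ • o = o := by
  have b : ∀ f < 0, certK17_.Valid el τ σ o f := fun f hf => absurd hf (Nat.not_lt_zero f)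
  replace b : ∀ f < 250, certK17_.Valid el τ σ o f :=
    fun f hf => chunk_valid S range_nums certK17_ ho hrel _ 0 chkK17_0_0 b f
      (by rw [show Data.jsK17_0_0.length = 250 by rfl]; exact hf)
  replace b : ∀ f < 331, certK17_.Valid el τ σ o f :=
    fun f hf => chunk_valid S range_nums certK17_ ho hrel _ 250 chkK17_0_1 b f
      (by rw [show Data.jsK17_0_1.length = 81 by rfl]; exact hf)
  exact fix_of_goal S ho certK17_ (k := 330) (by decide +kernel) (by decide +kernel)
    (by decide +kernel) (b _ (by norm_num))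

theorem fixK18 (hrel : ∀ w ∈ certK18_.rels, wv el τ σ w = 1) : τ • o = o := by
  have b : ∀ f < 0, certK18_.Valid el τ σ o f := fun f hf => absurd hf (Nat.not_lt_zero f)
  replace b : ∀ f < 250, certK18_.Valid el τ σ o f :=
    fun f hf => chunk_valid S range_nums certK18_ ho hrel _ 0 chkK18_0_0 b f
      (by rw [show Data.jsK18_0_0.length = 250 by rfl]; exact hf)
  replace b : ∀ f < 388, certK18_.Valid el τ σ o f :=
    fun f hf => chunk_valid S range_nums certK18_ ho hrel _ 250 chkK18_0_1 b f
      (by rw [show Data.jsK18_0_1.length = 138 by rfl]; exact hf)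
  exact fix_of_goal S ho certK18_ (k := 387) (by decide +kernel) (by decide +kernel)
    (by decide +kernel) (b _ (by norm_num))

theorem fixK19 (hrel : ∀ w ∈ certK19_.rels, wv el τ σ w = 1) : τ • o = o := by
  have b : ∀ f < 0, certK19_.Valid el τ σ o f := fun f hf => absurd hf (Nat.not_lt_zero f)
  replace b : ∀ f < 250, certK19_.Valid el τ σ o f :=
    fun f hf => chunk_valid S range_nums certK19_ ho hrel _ 0 chkK19_0_0 b f
      (by rw [show Data.jsK19_0_0.length = 250 by rfl]; exact hf)
  replace b : ∀ f < 332, certK19_.Valid el τ σ o f :=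
    fun f hf => chunk_valid S range_nums certK19_ ho hrel _ 250 chkK19_0_1 b f
      (by rw [show Data.jsK19_0_1.length = 82 by rfl]; exact hf)
  exact fix_of_goal S ho certK19_ (k := 331) (by decide +kernel) (by decide +kernel)
    (by decide +kernel) (b _ (by norm_num))

theorem fixK20 (hrel : ∀ w ∈ certK20_.rels, wv el τ σ w = 1) : τ • o = o := by
  have b : ∀ f < 0, certK20_.Valid el τ σ o f := fun f hf => absurd hf (Nat.not_lt_zero f)
  replace b : ∀ f < 250, certK20_.Valid el τ σ o f :=
    fun f hf => chunk_valid S range_nums certK20_ ho hrel _ 0 chkK20_0_0 b f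
      (by rw [show Data.jsK20_0_0.length = 250 by rfl]; exact hf)
  replace b : ∀ f < 500, certK20_.Valid el τ σ o f :=
    fun f hf => chunk_valid S range_nums certK20_ ho hrel _ 250 chkK20_0_1 b f
      (by rw [show Data.jsK20_0_1.length = 250 by rfl]; exact hf)
  replace b : ∀ f < 621, certK20_.Valid el τ σ o f :=
    fun f hf => chunk_valid S range_nums certK20_ ho hrel _ 500 chkK20_0_2 b f
      (by rw [show Data.jsK20_0_2.length = 121 by rfl]; exact hf)
  exact fix_of_goal S ho certK20_ (k := 620) (by decide +kernel) (by decide +kernel)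
    (by decide +kernel) (b _ (by norm_num))

theorem fixK21 (hrel : ∀ w ∈ certK21_.rels, wv el τ σ w = 1) : τ • o = o := by
  have b : ∀ f < 0, certK21_.Valid el τ σ o f := fun f hf => absurd hf (Nat.not_lt_zero f)
  replace b : ∀ f < 250, certK21_.Valid el τ σ o f :=
    fun f hf => chunk_valid S range_nums certK21_ ho hrel _ 0 chkK21_0_0 b f
      (by rw [show Data.jsK21_0_0.length = 250 by rfl]; exact hf)
  replace b : ∀ f < 500, certK21_.Valid el τ σ o f :=
    fun f hf => chunk_valid S range_nums certK21_ ho hrel _ 250 chkK21_0_1 b f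
      (by rw [show Data.jsK21_0_1.length = 250 by rfl]; exact hf)
  replace b : ∀ f < 750, certK21_.Valid el τ σ o f :=
    fun f hf => chunk_valid S range_nums certK21_ ho hrel _ 500 chkK21_0_2 b f
      (by rw [show Data.jsK21_0_2.length = 250 by rfl]; exact hf)
  replace b : ∀ f < 793, certK21_.Valid el τ σ o f :=
    fun f hf => chunk_valid S range_nums certK21_ ho hrel _ 750 chkK21_0_3 b f
      (by rw [show Data.jsK21_0_3.length = 43 by rfl]; exact hf)
  exact fix_of_goal S ho certK21_ (k := 792) (by decide +kernel) (by decide +kernel)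
    (by decide +kernel) (b _ (by norm_num))

theorem fixK22 (hrel : ∀ w ∈ certK22_.rels, wv el τ σ w = 1) : τ • o = o := by
  have b : ∀ f < 0, certK22_.Valid el τ σ o f := fun f hf => absurd hf (Nat.not_lt_zero f)
  replace b : ∀ f < 250, certK22_.Valid el τ σ o f :=
    fun f hf => chunk_valid S range_nums certK22_ ho hrel _ 0 chkK22_0_0 b f
      (by rw [show Data.jsK22_0_0.length = 250 by rfl]; exact hf)
  replace b : ∀ f < 500, certK22_.Valid el τ σ o f :=
    fun f hf => chunk_valid S range_nums certK22_ ho hrel _ 250 chkK22_0_1 b f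
      (by rw [show Data.jsK22_0_1.length = 250 by rfl]; exact hf)
  replace b : ∀ f < 706, certK22_.Valid el τ σ o f :=
    fun f hf => chunk_valid S range_nums certK22_ ho hrel _ 500 chkK22_0_2 b f
      (by rw [show Data.jsK22_0_2.length = 206 by rfl]; exact hf)
  exact fix_of_goal S ho certK22_ (k := 705) (by decide +kernel) (by decide +kernel)
    (by decide +kernel) (b _ (by norm_num))

theorem fixK23 (hrel : ∀ w ∈ certK23_.rels, wv el τ σ w = 1) : τ • o = o := by
  have b : ∀ f < 0, certK23_.Valid el τ σ o f := fun f hf => absurd hf (Nat.not_lt_zero f)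
  replace b : ∀ f < 250, certK23_.Valid el τ σ o f :=
    fun f hf => chunk_valid S range_nums certK23_ ho hrel _ 0 chkK23_0_0 b f
      (by rw [show Data.jsK23_0_0.length = 250 by rfl]; exact hf)
  replace b : ∀ f < 500, certK23_.Valid el τ σ o f :=
    fun f hf => chunk_valid S range_nums certK23_ ho hrel _ 250 chkK23_0_1 b f
      (by rw [show Data.jsK23_0_1.length = 250 by rfl]; exact hf)
  replace b : ∀ f < 750, certK23_.Valid el τ σ o f :=
    fun f hf => chunk_valid S range_nums certK23_ ho hrel _ 500 chkK23_0_2 b f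
      (by rw [show Data.jsK23_0_2.length = 250 by rfl]; exact hf)
  replace b : ∀ f < 930, certK23_.Valid el τ σ o f :=
    fun f hf => chunk_valid S range_nums certK23_ ho hrel _ 750 chkK23_0_3 b f
      (by rw [show Data.jsK23_0_3.length = 180 by rfl]; exact hf)
  exact fix_of_goal S ho certK23_ (k := 929) (by decide +kernel) (by decide +kernel)
    (by decide +kernel) (b _ (by norm_num))

/-- Any candidate but the first collapses. -/
theorem fix_of_variant {i : ℕ} (hi : 1 ≤ i) (hi' : i < 24)
    (hrel : ∀ w ∈ (certAt.getD i certM).rels, wv el τ σ w = 1) : τ • o = o := by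
  interval_cases i
  exacts [fixK1 S ho hrel, fixK2 S ho hrel, fixK3 S ho hrel, fixK4 S ho hrel, fixK5 S ho hrel, fixK6 S ho hrel, fixK7 S ho hrel, fixK8 S ho hrel, fixK9 S ho hrel, fixK10 S ho hrel, fixK11 S ho hrel, fixK12 S ho hrel, fixK13 S ho hrel, fixK14 S ho hrel, fixK15 S ho hrel, fixK16 S ho hrel, fixK17 S ho hrel, fixK18 S ho hrel, fixK19 S ho hrel, fixK20 S ho hrel, fixK21 S ho hrel, fixK22 S ho hrel, fixK23 S ho hrel]

end CfsgLib.JThreeUniq
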