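import Cfsg.Agent.Lib.JThreeUniq.Ctx
import Cfsg.Agent.Lib.JTwoUniq.Signs
import Cfsg.Agent.Lib.JTwoUniq.NotWeak

/-!
Coordinates on the centralizer of an involution when all involutions are conjugate: there is an involution
outside the extraspecial subgroup, so the centralizer splits over it.
-/

set_option autoImplicit false
set_option linter.style.haveILetI false
set_option maxRecDepth 100000
set_option synthInstance.maxSize 512
set_option synthInstance.maxHeartbeats 200000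

namespace CfsgLib.JThreeUniq

open CfsgLib.JTwoUniq CfsgLib.JTwoUniq.Coset CfsgLib.HJType Subgroup

theorem five_cycle_inverter : ∀ φ : Equiv.Perm (Fin 5), Equiv.Perm.sign φ = 1 → φ ≠ 1 →
    φ * (φ * (φ * (φ * φ))) = 1 → ∃ ρ : Equiv.Perm (Fin 5), Equiv.Perm.sign ρ = 1 ∧ ρ * φ * ρ * φ = 1 ∧ ρ * ρ = 1 := by
  decide +kernel

theorem inverter_shape : ∀ φ : Equiv.Perm (Fin 5), Equiv.Perm.sign φ = 1 → φ ≠ 1 →
    φ * (φ * (φ * (φ * φ))) = 1 → ∀ ρ : Equiv.Perm (Fin 5), Equiv.Perm.sign ρ = 1 → φ * ρ * φ = ρ →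
      ρ ≠ 1 ∧ ρ * ρ = 1 ∧ ∃ m, ρ m = m ∧ φ m ≠ m ∧ φ (φ m) ≠ m ∧ φ (φ (φ m)) ≠ m ∧ φ (φ (φ (φ m))) ≠ m ∧
        φ m ≠ φ (φ m) ∧ φ m ≠ φ (φ (φ m)) ∧ φ m ≠ φ (φ (φ (φ m))) ∧ φ (φ m) ≠ φ (φ (φ m)) ∧
        φ (φ m) ≠ φ (φ (φ (φ m))) ∧ φ (φ (φ m)) ≠ φ (φ (φ (φ m))) := by decide +kernel

theorem three_conjugates : ∀ ρ : Equiv.Perm (Fin 5), Equiv.Perm.sign ρ = 1 → ρ ≠ 1 → ρ * ρ = 1 →
    ∀ m, ρ m = m → ∃ s : Equiv.Perm (Fin 5), Equiv.Perm.sign s = 1 ∧ s * s * s = 1 ∧ s ≠ 1 ∧ s m = m ∧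
      ρ * s ≠ s * ρ ∧
      ∀ τ : Equiv.Perm (Fin 5), Equiv.Perm.sign τ = 1 → τ ≠ 1 → τ * τ = 1 → τ m = m →
        τ = ρ ∨ τ = s * ρ * (s * s) ∨ τ = s * (s * ρ * (s * s)) * (s * s) := by decide +kernel

theorem perm_cube_four : ∀ s : Equiv.Perm (Fin 5), s * s * s = 1 → s * (s * (s * s)) = s := by decide +kernel

variable {G : Type*} [Group G]

/-- The setting of groups of Hall-Janko type from one class of involutions. -/
theorem setup_of [Finite G] (t : G) (ht : orderOf t = 2) (Q : Subgroup (centralizer ({t} : Set G))) [Q.Normal]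
    (hQ : Cfsg.IsExtraspecial 2 Q) (hcard : Nat.card Q = 32)
    (h2c : centralizer (Q : Set (centralizer ({t} : Set G))) ≤ Q)
    (e : (centralizer ({t} : Set G)) ⧸ Q ≃* alternatingGroup (Fin 5))
    (hone : ∀ x y : G, orderOf x = 2 → orderOf y = 2 → IsConj x y) :
    Setup t (Q.map (centralizer ({t} : Set G)).subtype) := by
  set Q' := Q.map (centralizer ({t} : Set G)).subtype with hQ'
  have eQ := Q.equivMapOfInjective (centralizer ({t} : Set G)).subtype (centralizer ({t} : Set G)).subtype_injective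
  have pre : JTwoUniq.Pre t Q' := by
    refine ⟨ht, map_subtype_le Q, ?_, CfsgLib.LargeExtra.isExtraspecial_of_mulEquiv eQ hQ, ?_, ?_, ?_⟩
    · intro h hh
      refine mem_normalizer_iff.2 fun x => ⟨?_, ?_⟩
      · rintro ⟨q, hq, rfl⟩
        exact ⟨⟨h, hh⟩ * q * ⟨h, hh⟩⁻¹, (inferInstance : Q.Normal).conj_mem q hq _, rfl⟩
      · rintro ⟨q, hq, hqe⟩
        refine ⟨⟨h, hh⟩⁻¹ * q * ⟨h, hh⟩, by simpa using (inferInstance : Q.Normal).conj_mem q hq ⟨h, hh⟩⁻¹, ?_⟩
        show h⁻¹ * (q : G) * h = x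
        rw [show (q : G) = h * x * h⁻¹ from hqe]
        group
    · rw [← Nat.card_congr eQ.toEquiv, hcard]
    · have h := card_mul_index Q
      rw [index_eq_card, Nat.card_congr e.toEquiv, CfsgLib.HJType.a5_card, hcard] at h
      rw [← h]
    · intro x hx hc
      refine ⟨⟨x, hx⟩, h2c (mem_centralizer_iff.2 fun q hq => Subtype.ext ?_), rfl⟩
      exact (hc q ⟨q, hq, rfl⟩).symm
  refine ⟨pre.hz, pre.hQH, pre.hnorm, pre.hE, pre.h32, pre.hH, pre.hself, ?_⟩
  obtain ⟨F⟩ := pre.nonempty_frame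
  obtain ⟨hxQ, hx2, hx1, hxz⟩ := F.hx 0
  obtain ⟨g, hg⟩ := isConj_iff.1 (hone t (F.x 0) ht (orderOf_two_iff.2 ⟨hx2, hx1⟩))
  exact ⟨g, hg ▸ hxQ, hg ▸ hxz⟩

variable {z : G} {Q : Subgroup G}

theorem inPair_mul (st : Setup z Q) (F : Frame z Q) {a b : Fin 5} {u v : G} (hu : F.InPair a u) (hv : F.InPair b v) :
    u * v = F.x a * F.x b ∨ u * v = z * (F.x a * F.x b) := by
  have hc := st.qz' (st.hQH (F.hx a).1)
  rcases hu with rfl | rfl <;> rcases hv with rfl | rfl
  · exact Or.inl rfl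
  · exact Or.inr (hc _)
  · exact Or.inr (mul_assoc _ _ _)
  · exact Or.inl (by rw [mul_assoc, hc, st.zzc])

theorem inPair_anti [Finite G] (st : Setup z Q) (F : Frame z Q) {a b : Fin 5} (hab : a ≠ b) {u v : G}
    (hu : F.InPair a u) (hv : F.InPair b v) : Anti z u v := by
  refine (st.comm_cases (st.inPair_mem F hu) (st.inPair_mem F hv)).resolve_left fun h => F.hnc a b hab ?_
  rcases hu with rfl | rfl <;> rcases hv with rfl | rfl
  all_goals try simp only [st.qz' (st.hQH (F.hx a).1), st.qz' (st.hQH (F.hx b).1), mul_assoc, st.zzc] at h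
  exacts [h, mul_left_cancel h, mul_left_cancel h, h]

/-- The product of elements of five different pairs is central. -/
theorem five_prod [Finite G] (st : Setup z Q) (F : Frame z Q) {a b c d i : Fin 5} (hab : a ≠ b) (hac : a ≠ c)
    (had : a ≠ d) (hbc : b ≠ c) (hbd : b ≠ d) (hcd : c ≠ d) (hia : i ≠ a) (hib : i ≠ b) (hic : i ≠ c)
    (hid : i ≠ d) {u v u' v' w : G} (hu : F.InPair a u) (hv : F.InPair b v) (hu' : F.InPair c u')
    (hv' : F.InPair d v') (hw : F.InPair i w) : w * (u * v * (u' * v')) = 1 ∨ w * (u * v * (u' * v')) = z := by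
  have h4 := st.four F hab hac had hbc hbd hcd hia hib hic hid
  have hcab := st.qz' (st.hQH (mul_mem (F.hx a).1 (F.hx b).1))
  refine st.inPair_mul_self F hw ?_
  rcases inPair_mul st F hu hv with e | e <;> rcases inPair_mul st F hu' hv' with e' | e' <;> rw [e, e']
  · exact h4
  · rw [hcab]; exact st.inPair_z F h4
  · rw [mul_assoc]; exact st.inPair_z F h4
  · rw [mul_assoc, hcab, st.zzc]; exact h4

/-- One class of involutions forces an involution outside `Q` in the centralizer. -/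
theorem exists_involution [Finite G] (st : Setup z Q)
    (hone : ∀ x y : G, orderOf x = 2 → orderOf y = 2 → IsConj x y) :
    ∃ v ∈ centralizer ({z} : Set G), v ∉ Q ∧ v * v = 1 := by
  classical
  by_contra hcon
  push Not at hcon
  obtain ⟨F⟩ := st.nonempty_frame
  haveI : Fact (Nat.Prime 5) := ⟨by norm_num⟩
  have hp1 : F.p 1 = 1 := (F.hker 1 (one_mem _)).2 (one_mem _)
  have hpinv : ∀ {g : G}, g ∈ centralizer ({z} : Set G) → F.p g⁻¹ = (F.p g)⁻¹ := fun {g} hg =>
    eq_inv_of_mul_eq_one_left (by rw [← F.hmul _ (inv_mem hg) g hg, inv_mul_cancel, hp1])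
  have hppow : ∀ {g : G}, g ∈ centralizer ({z} : Set G) → ∀ k : ℕ, F.p (g ^ k) = F.p g ^ k := by
    intro g hg k
    induction k with
    | zero => rw [pow_zero, pow_zero, hp1]
    | succ k ih => rw [pow_succ, F.hmul _ (pow_mem hg k) g hg, ih, pow_succ]
  have hpconj : ∀ {g w : G}, g ∈ centralizer ({z} : Set G) → w ∈ centralizer ({z} : Set G) →
      F.p (g * w * g⁻¹) = F.p g * F.p w * (F.p g)⁻¹ := fun {g w} hg hw => by
    rw [F.hmul _ (mul_mem hg hw) _ (inv_mem hg), F.hmul g hg w hw, hpinv hg]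
  obtain ⟨f, hf, hf5o⟩ := st.exists_five
  have hf5 : f ^ 5 = 1 := by rw [← hf5o, pow_orderOf_eq_one]
  have hfQ := st.not_mem_of_order_five hf5o
  set φ := F.p f with hφ
  have hφ1 : φ ≠ 1 := fun h => hfQ ((F.hker f hf).1 h)
  have hφ5' : φ ^ 5 = 1 := by rw [hφ, ← hppow hf, hf5, hp1]
  have hφ5 : φ * (φ * (φ * (φ * φ))) = 1 := by
    rw [← hφ5']; simp [pow_succ, mul_assoc]
  obtain ⟨ρ0, hρ0, hρφ, hρ00⟩ := five_cycle_inverter φ (F.hsign f hf) hφ1 hφ5
  obtain ⟨h0, hh0, hph0⟩ := F.hsurj ρ0 hρ0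
  -- an element inverting `f`
  let K : Subgroup G :=
    { carrier := {g | g ∈ centralizer ({z} : Set G) ∧ F.p g ∈ zpowers φ}
      one_mem' := ⟨one_mem _, by rw [hp1]; exact one_mem _⟩
      mul_mem' := fun {a b} ha hb => ⟨mul_mem ha.1 hb.1, by
        rw [F.hmul a ha.1 b hb.1]; exact mul_mem ha.2 hb.2⟩
      inv_mem' := fun {a} ha => ⟨inv_mem ha.1, by rw [hpinv ha.1]; exact inv_mem ha.2⟩ }
  have hfK : zpowers f ≤ K := zpowers_le.2 ⟨hf, mem_zpowers φ⟩
  have hρinv : ρ0⁻¹ = ρ0 := inv_eq_of_mul_eq_one_right hρ00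
  have hφ0 : ρ0 * φ * ρ0⁻¹ = φ⁻¹ := by rw [hρinv]; exact eq_inv_of_mul_eq_one_left hρφ
  have hpf0 : F.p (h0 * f * h0⁻¹) = φ⁻¹ := by rw [hpconj hh0 hf, hph0, ← hφ, hφ0]
  have hf0K : zpowers (h0 * f * h0⁻¹) ≤ K :=
    zpowers_le.2 ⟨mul_mem (mul_mem hh0 hf) (inv_mem hh0), by rw [hpf0]; exact inv_mem (mem_zpowers φ)⟩
  obtain ⟨c, hc, hcf⟩ := exists_conj_eq (p := 5) (n := 1) hfK (by rw [Nat.card_zpowers, hf5o, pow_one])
    (fun h => by
      have h2 := h.trans (card_dvd_of_le (show K ≤ centralizer ({z} : Set G) from fun g hg => hg.1))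
      rw [st.hH] at h2
      norm_num at h2)
    hf0K (by rw [Nat.card_zpowers, CfsgLib.Invol.orderOf_conj_eq, hf5o, pow_one])
  set h := c * h0 with hh
  have hhC : h ∈ centralizer ({z} : Set G) := mul_mem hc.1 hh0
  clear_value h
  have hφcomm : F.p c * φ = φ * F.p c := by
    obtain ⟨j, hj⟩ := mem_zpowers_iff.1 hc.2
    rw [← hj]
    exact ((Commute.refl φ).zpow_left j).eq
  have hpinvφ : F.p h * φ * (F.p h)⁻¹ = φ⁻¹ := by
    rw [hh, F.hmul c hc.1 h0 hh0, hph0,
      show F.p c * ρ0 * φ * (F.p c * ρ0)⁻¹ = F.p c * (ρ0 * φ * ρ0⁻¹) * (F.p c)⁻¹ by group, hφ0,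
      show F.p c * φ⁻¹ * (F.p c)⁻¹ = (F.p c * φ * (F.p c)⁻¹)⁻¹ by group, hφcomm, mul_inv_cancel_right]
  have hhf : h * f * h⁻¹ = f⁻¹ := by
    have hm := (hcf _).2 (mem_zpowers (h0 * f * h0⁻¹))
    obtain ⟨j, hj⟩ := mem_zpowers_iff.1 hm
    have hpj : F.p (f ^ j) = φ⁻¹ := by
      rw [hj, show c * (h0 * f * h0⁻¹) * c⁻¹ = h * f * h⁻¹ by rw [hh]; group, hpconj hhC hf, ← hφ, hpinvφ]
    obtain ⟨k, hk⟩ : ∃ k : ℕ, f ^ j = f ^ k := by
      obtain ⟨k, hk⟩ := mem_powers_iff_mem_zpowers.2 (⟨j, rfl⟩ : f ^ j ∈ zpowers f)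
      exact ⟨k, hk.symm⟩
    have h5 : φ ^ (k + 1) = 1 := by
      rw [hk, hppow hf, ← hφ] at hpj
      rw [pow_succ, hpj, inv_mul_cancel]
    have ho : orderOf φ = 5 := orderOf_eq_prime hφ5' hφ1
    have hdvd := orderOf_dvd_of_pow_eq_one h5
    rw [ho] at hdvd
    have hfk : f ^ (k + 1) = 1 := by
      obtain ⟨l, hl⟩ := hdvd
      rw [hl, pow_mul, hf5, one_pow]
    rw [show h * f * h⁻¹ = c * (h0 * f * h0⁻¹) * c⁻¹ by rw [hh]; group, ← hj, hk]
    exact eq_inv_of_mul_eq_one_left (by rw [← pow_succ, hfk])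
  set ρ := F.p h with hρdef
  obtain ⟨hρ1, hρρ, m, hρm, d1, d2, d3, d4, d12, d13, d14, d23, d24, d34⟩ :=
    inverter_shape φ (F.hsign f hf) hφ1 hφ5 ρ (F.hsign h hhC) (by
      calc φ * ρ * φ = φ * (ρ * φ * ρ⁻¹) * ρ := by group
        _ = ρ := by rw [hpinvφ]; group)
  have hhQ : h ∉ Q := fun hm => hρ1 ((F.hker h hhC).2 hm)
  have hh2 : h * h = z := by
    have hq : h * h ∈ Q := (F.hker _ (mul_mem hhC hhC)).1 (by rw [F.hmul h hhC h hhC, ← hρdef, hρρ])
    have hcomm : h * h * f = f * (h * h) := by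
      calc h * h * f = h * (h * f * h⁻¹) * h := by group
        _ = h * f⁻¹ * h := by rw [hhf]
        _ = (h * f * h⁻¹)⁻¹ * (h * h) := by group
        _ = f * (h * h) := by rw [hhf, inv_inv]
    obtain ⟨h10, hinv⟩ := st.cent_five hf hf5o
    rcases st.sq_cases hq with e | e
    · exact (hinv _ (st.hQH hq) hcomm e).resolve_left (hcon h hhC hhQ)
    · exfalso
      haveI : Fact (Nat.Prime 2) := ⟨Nat.prime_two⟩
      have ho : orderOf (h * h) = 4 := by
        refine orderOf_eq_prime_pow (p := 2) (n := 1) ?_ ?_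
        · norm_num
          rw [pow_two, e]
          exact st.z_ne
        · norm_num
          rw [show (h * h) ^ 4 = (h * h * (h * h)) * (h * h * (h * h)) by simp [pow_succ, mul_assoc], e, st.zz]
      have := Subgroup.orderOf_dvd_natCard (centralizer ({z} : Set G) ⊓ centralizer ({f} : Set G))
        (show h * h ∈ _ from mem_inf.2 ⟨st.hQH hq, mem_centralizer_singleton_iff.2 hcomm⟩)
      rw [h10, ho] at this
      norm_num at this
  -- `h` centralises the representative of its fixed pair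
  set x := F.x m with hx
  have hxQ : x ∈ Q := (F.hx m).1
  have hxH := st.hQH hxQ
  have hx2 : x * x = 1 := (F.hx m).2.1
  have hx1 : x ≠ 1 := (F.hx m).2.2.1
  have hxz : x ≠ z := (F.hx m).2.2.2
  have hhx : h * x = x * h := by
    have hdisj : h * x * h⁻¹ = x ∨ h * x * h⁻¹ = z * x := by
      have := F.hact h hhC m
      rwa [← hρdef, hρm] at this
    rcases hdisj with e | e
    · exact mul_inv_eq_iff_eq_mul.1 e
    exfalso
    set x1 := f * x * f⁻¹ with hx1d
    set x2 := f * x1 * f⁻¹ with hx2d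
    set x3 := f * x2 * f⁻¹ with hx3d
    set x4 := f * x3 * f⁻¹ with hx4d
    have p0 : F.InPair m x := Or.inl rfl
    have p1 : F.InPair (φ m) x1 := st.conj_inPair F hf p0
    have p2 : F.InPair (φ (φ m)) x2 := st.conj_inPair F hf p1
    have p3 : F.InPair (φ (φ (φ m))) x3 := st.conj_inPair F hf p2
    have p4 : F.InPair (φ (φ (φ (φ m)))) x4 := st.conj_inPair F hf p3
    clear_value x1 x2 x3 x4
    have hP := five_prod st F d12 d13 d14 d23 d24 d34 d1.symm d2.symm d3.symm d4.symm p1 p2 p3 p4 p0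
    set P := x * (x1 * x2 * (x3 * x4)) with hPd
    have hf4 : f * (f * (f * (f * f))) = 1 := by rw [← hf5]; simp [pow_succ, mul_assoc]
    have hback : ∀ y y' : G, h * y * h⁻¹ = z * y' → h * (f * y * f⁻¹) * h⁻¹ = z * (f⁻¹ * y' * f) := by
      intro y y' hy
      rw [show h * (f * y * f⁻¹) * h⁻¹ = (h * f * h⁻¹) * (h * y * h⁻¹) * (h * f * h⁻¹)⁻¹ by group, hhf, hy,
        inv_inv, ← mul_assoc, st.zc (inv_mem hf)]
      simp only [mul_assoc]
    have e41 : f⁻¹ * x * f = x4 := by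
      rw [hx4d, hx3d, hx2d, hx1d]
      have hfi : f⁻¹ = f * (f * (f * f)) := inv_eq_of_mul_eq_one_right hf4
      calc f⁻¹ * x * f = f⁻¹ * x * (f⁻¹)⁻¹ := by rw [inv_inv]
        _ = f * (f * (f * f)) * x * (f * (f * (f * f)))⁻¹ := by rw [hfi]
        _ = _ := by group
    have e1 : h * x1 * h⁻¹ = z * x4 := by rw [hx1d, hback x x e, e41]
    have e43 : f⁻¹ * x4 * f = x3 := by rw [hx4d]; group
    have e32 : f⁻¹ * x3 * f = x2 := by rw [hx3d]; group
    have e21 : f⁻¹ * x2 * f = x1 := by rw [hx2d]; group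
    have e2 : h * x2 * h⁻¹ = z * x3 := by rw [hx2d, hback _ _ e1, e43]
    have e3 : h * x3 * h⁻¹ = z * x2 := by rw [hx3d, hback _ _ e2, e32]
    have e4 : h * x4 * h⁻¹ = z * x1 := by rw [hx4d, hback _ _ e3, e21]
    have q1 := st.inPair_mem F p1
    have q2 := st.inPair_mem F p2
    have q3 := st.inPair_mem F p3
    have q4 := st.inPair_mem F p4
    have a43 : x4 * x3 = z * (x3 * x4) := inPair_anti st F d34.symm p4 p3
    have a21 : x2 * x1 = z * (x1 * x2) := inPair_anti st F d12.symm p2 p1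
    have hc1 : x3 * x4 * x1 = x1 * (x3 * x4) :=
      st.comm_of_anti_anti q3 (inPair_anti st F d13.symm p3 p1) (inPair_anti st F d14.symm p4 p1)
    have hc2 : x3 * x4 * x2 = x2 * (x3 * x4) :=
      st.comm_of_anti_anti q3 (inPair_anti st F d23.symm p3 p2) (inPair_anti st F d24.symm p4 p2)
    have hrev : x4 * x3 * (x2 * x1) = x1 * x2 * (x3 * x4) := by
      rw [a43, a21, mul_assoc, st.qz' (st.hQH (mul_mem q3 q4)), st.zzc, ← mul_assoc (x3 * x4), hc1, mul_assoc,
        hc2, mul_assoc]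
    have hzp : ∀ u v : G, u ∈ centralizer ({z} : Set G) → z * u * (z * v) = u * v := fun u v hu => by
      rw [mul_assoc, st.qz' hu, st.zzc]
    have hP' : h * P * h⁻¹ = z * P := by
      rw [hPd, show h * (x * (x1 * x2 * (x3 * x4))) * h⁻¹ =
        (h * x * h⁻¹) * ((h * x1 * h⁻¹) * (h * x2 * h⁻¹) * ((h * x3 * h⁻¹) * (h * x4 * h⁻¹))) by group,
        e, e1, e2, e3, e4, hzp _ _ (st.hQH q4), hzp _ _ (st.hQH q2), hrev, mul_assoc z x]
    have hPh : h * P * h⁻¹ = P := by
      rcases hP with r | r <;> rw [r]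
      · group
      · rw [st.zc hhC, mul_inv_cancel_right]
    exact st.z_ne (mul_eq_right.1 (hP'.symm.trans hPh))
  -- an element of order four commuting with `x` and inverted by `h`
  obtain ⟨j, hj⟩ : ∃ j, ρ j ≠ j := by
    by_contra hh'
    push Not at hh'
    exact hρ1 (Equiv.ext hh')
  have hjm : j ≠ m := fun e => hj (e ▸ hρm)
  have hρjm : ρ j ≠ m := fun e => hjm (ρ.injective (e.trans hρm.symm))
  set y := F.x j with hy
  have pyp : F.InPair (ρ j) (h * y * h⁻¹) := st.conj_inPair F hhC (Or.inl rfl)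
  set y' := h * y * h⁻¹ with hy'
  have hyQ : y ∈ Q := (F.hx j).1
  have hy2 : y * y = 1 := (F.hx j).2.1
  have hy'2 : y' * y' = 1 := by rw [hy', conj_mul, hy2, mul_one, mul_inv_cancel]
  set w := y * y' with hw
  have hwQ : w ∈ Q := mul_mem hyQ (st.inPair_mem F pyp)
  have hyy : y' * y = z * w := inPair_anti st F hj pyp (Or.inl rfl)
  have hy'h : h * y' * h⁻¹ = y := by
    rw [hy', show h * (h * y * h⁻¹) * h⁻¹ = (h * h) * y * (h * h)⁻¹ by group, hh2,
      ← st.qz hyQ, mul_inv_cancel_right]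
  have hhw : h * w * h⁻¹ = z * w := by
    rw [hw, show h * (y * y') * h⁻¹ = (h * y * h⁻¹) * (h * y' * h⁻¹) by group, hy'h, ← hy', hyy]
  have hw2 : w * w = z := by
    calc w * w = y * (y' * y) * y' := by rw [hw]; group
      _ = z * (y * y) * (y' * y') := by rw [hyy, st.qz' (st.hQH hyQ), hw]; group
      _ = z := by rw [hy2, hy'2, mul_one, mul_one]
  have hwx : w * x = x * w :=
    st.comm_of_anti_anti hyQ (st.anti_x F hjm) (inPair_anti st F hρjm pyp (Or.inl rfl))
  clear_value w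
  -- the elements of a given permutation in `C(x)`
  set D : Set G := {d | d ∈ centralizer ({z} : Set G) ∧ d * x = x * d} with hD
  let A : Equiv.Perm (Fin 5) → Set G := fun r => {d | d ∈ D ∧ F.p d = r}
  let Z : Equiv.Perm (Fin 5) → Set G := fun r => {d | d ∈ A r ∧ d * d = z}
  have hA16 : ∀ r, (A r).ncard ≤ 16 := by
    intro r
    rcases Set.eq_empty_or_nonempty (A r) with hE | ⟨d0, ⟨hd0, hd0x⟩, hd0p⟩
    · rw [hE, Set.ncard_empty]; norm_num
    set K2 := Q ⊓ centralizer ({x} : Set G) with hK2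
    have h16 : Nat.card K2 ≤ 16 := by
      obtain ⟨k, hk, hkk⟩ := (Nat.dvd_prime_pow Nat.prime_two).1
        (show Nat.card K2 ∣ 2 ^ 5 by norm_num; rw [← st.h32]; exact card_dvd_of_le inf_le_left)
      by_contra hlt
      have hk5 : k = 5 := by
        interval_cases k <;> simp_all
      have hQK : K2 = Q := eq_of_le_of_card_ge inf_le_left (by rw [hkk, hk5, st.h32]; norm_num)
      have : y ∈ centralizer ({x} : Set G) := (hQK ▸ hyQ : y ∈ K2).2
      exact F.hnc j m hjm (mem_centralizer_singleton_iff.1 this)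
    refine le_trans (Set.ncard_le_ncard_of_injOn (t := (K2 : Set G)) (fun d => d0⁻¹ * d) ?_ ?_ (Set.toFinite _)) ?_
    · rintro d ⟨⟨hd, hdx⟩, hdp⟩
      refine ⟨(F.hker _ (mul_mem (inv_mem hd0) hd)).1 ?_, mem_centralizer_singleton_iff.2 ?_⟩
      · rw [F.hmul _ (inv_mem hd0) d hd, hpinv hd0, hd0p, hdp, inv_mul_cancel]
      · calc d0⁻¹ * d * x = d0⁻¹ * (x * d0) * d0⁻¹ * d := by rw [mul_assoc, hdx]; group
          _ = x * (d0⁻¹ * d) := by rw [← hd0x]; group
    · exact fun a _ b _ e => mul_left_cancel e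
    · rw [← Nat.card_coe_set_eq]; exact h16
  have hX8 : ∀ r, 8 ≤ (Z r).ncard → {d | d ∈ A r ∧ d * d = x}.ncard ≤ 8 := by
    intro r hr
    have hdis : Disjoint (Z r) {d | d ∈ A r ∧ d * d = x} :=
      Set.disjoint_left.2 fun d h1 h2 => hxz (h2.2.symm.trans h1.2)
    have h1 := Set.ncard_union_eq hdis (Set.toFinite _) (Set.toFinite _)
    have h2 : (Z r ∪ {d | d ∈ A r ∧ d * d = x}).ncard ≤ (A r).ncard :=
      Set.ncard_le_ncard (Set.union_subset (fun d hd => hd.1) (fun d hd => hd.1)) (Set.toFinite _)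
    have h3 := hA16 r
    omega
  -- eight elements over `ρ`
  have hzQ := st.z_mem
  have hsmall : ∀ e : G, (e = 1 ∨ e = z ∨ e = x ∨ e = z * x) → e ∈ Q ∧ e * e = 1 ∧ h * e * h⁻¹ = e ∧
      e * x = x * e ∧ w * e = e * w := by
    have hzx : z * x * (z * x) = 1 := by rw [mul_assoc, st.qz' hxH, st.zzc, hx2]
    rintro e (rfl | rfl | rfl | rfl)
    · exact ⟨one_mem _, one_mul 1, by group, by group, by group⟩
    · exact ⟨hzQ, st.zz, by rw [st.zc hhC, mul_inv_cancel_right], (st.zc hxH).symm, st.qz hwQ⟩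
    · exact ⟨hxQ, hx2, by rw [hhx, mul_inv_cancel_right], rfl, hwx⟩
    · refine ⟨mul_mem hzQ hxQ, hzx, ?_, ?_, ?_⟩
      · rw [show h * (z * x) * h⁻¹ = (h * z * h⁻¹) * (h * x * h⁻¹) by group, st.zc hhC, hhx,
          mul_inv_cancel_right, mul_inv_cancel_right]
      · rw [mul_assoc, ← mul_assoc x, st.zc hxH, mul_assoc]
      · rw [← mul_assoc, st.qz hwQ, mul_assoc, hwx, mul_assoc]
  let S4 : Set G := {1, z, x, z * x}
  have hS4 : S4.ncard = 4 := by
    have n1 : (1 : G) ≠ z := fun e => st.z_ne e.symm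
    have n2 : (1 : G) ≠ x := fun e => hx1 e.symm
    have n3 : (1 : G) ≠ z * x := fun e => hxz (by
      calc x = z * (z * x) := (st.zzc x).symm
        _ = z := by rw [← e, mul_one])
    have n4 : z ≠ x := fun e => hxz e.symm
    have n5 : z ≠ z * x := fun e => hx1 (mul_eq_left.1 e.symm)
    have n6 : x ≠ z * x := fun e => st.z_ne (mul_eq_right.1 e.symm)
    rw [show S4 = insert 1 (insert z (insert x {z * x})) from rfl,
      Set.ncard_insert_of_notMem (by simp [n1, n2, n3]) (Set.toFinite _),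
      Set.ncard_insert_of_notMem (by simp [n4, n5]) (Set.toFinite _),
      Set.ncard_insert_of_notMem (by simp [n6]) (Set.toFinite _), Set.ncard_singleton]
  have hS4' : ∀ e ∈ S4, e ∈ Q ∧ e * e = 1 ∧ h * e * h⁻¹ = e ∧ e * x = x * e ∧ w * e = e * w :=
    fun e he => hsmall e (by simpa [S4] using he)
  let S8 : Set G := ((fun e => h * e) '' S4) ∪ ((fun e => h * (w * e)) '' S4)
  have hS8 : S8 ⊆ Z ρ := by
    rintro d (⟨e, he, rfl⟩ | ⟨e, he, rfl⟩)
    · obtain ⟨heQ, he2, heh, hex, -⟩ := hS4' e he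
      refine ⟨⟨⟨mul_mem hhC (st.hQH heQ), ?_⟩, ?_⟩, ?_⟩
      · show h * e * x = x * (h * e)
        rw [mul_assoc, hex, ← mul_assoc, hhx, mul_assoc]
      · rw [F.hmul h hhC e (st.hQH heQ), (F.hker e (st.hQH heQ)).2 heQ, mul_one]
      · calc h * e * (h * e) = (h * e * h⁻¹) * (h * h) * e := by group
          _ = e * z * e := by rw [heh, hh2]
          _ = z := by rw [st.qz heQ, mul_assoc, he2, mul_one]
    · obtain ⟨heQ, he2, heh, hex, hwe⟩ := hS4' e he
      have hweQ := mul_mem hwQ heQ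
      refine ⟨⟨⟨mul_mem hhC (st.hQH hweQ), ?_⟩, ?_⟩, ?_⟩
      · show h * (w * e) * x = x * (h * (w * e))
        rw [mul_assoc, mul_assoc, hex, ← mul_assoc w, hwx, mul_assoc, ← mul_assoc h, hhx, mul_assoc]
      · rw [F.hmul h hhC _ (st.hQH hweQ), (F.hker _ (st.hQH hweQ)).2 hweQ, mul_one]
      · calc h * (w * e) * (h * (w * e)) = (h * w * h⁻¹) * (h * e * h⁻¹) * (h * h) * (w * e) := by group
          _ = z * (w * e) * z * (w * e) := by rw [hhw, heh, hh2, mul_assoc z w e]
          _ = (w * e) * (w * e) := by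
            rw [show z * (w * e) * z * (w * e) = z * ((w * e) * z) * (w * e) by group, st.qz hweQ, st.zzc]
          _ = (w * w) * (e * e) := by
            rw [show w * e * (w * e) = w * (e * w) * e by group, ← hwe]; group
          _ = z := by rw [hw2, he2, mul_one]
  have hS8c : 8 ≤ S8.ncard := by
    have hdis : Disjoint ((fun e => h * e) '' S4) ((fun e => h * (w * e)) '' S4) := by
      refine Set.disjoint_left.2 ?_
      rintro _ ⟨e, he, rfl⟩ ⟨e', he', ee⟩
      obtain ⟨-, he2, -⟩ := hS4' e he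
      obtain ⟨-, he'2, -, -, hwe⟩ := hS4' e' he'
      have h1 : w * e' = e := mul_left_cancel ee
      refine st.z_ne ?_
      rw [← hw2]
      calc w * w = (w * w) * (e' * e') := by rw [he'2, mul_one]
        _ = w * e' * (w * e') := by rw [show w * e' * (w * e') = w * (e' * w) * e' by group, ← hwe]; group
        _ = 1 := by rw [h1, he2]
    show 8 ≤ (((fun e => h * e) '' S4) ∪ ((fun e => h * (w * e)) '' S4)).ncard
    rw [Set.ncard_union_eq hdis (Set.toFinite _) (Set.toFinite _),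
      Set.ncard_image_of_injective _ (mul_right_injective h),
      Set.ncard_image_of_injective _ (fun a b e => mul_left_cancel (mul_left_cancel e)), hS4]
  have hZρ : 8 ≤ (Z ρ).ncard := le_trans hS8c (Set.ncard_le_ncard hS8 (Set.toFinite _))
  -- an element of order three in `C(x)` moving `ρ`
  obtain ⟨s, hs, hs3, hs1, hsm, hsρ, hall⟩ := three_conjugates ρ (F.hsign h hhC) hρ1 hρρ m hρm
  obtain ⟨u, hu, hpu⟩ := F.hsurj s hs
  have hpσ : F.p (u ^ 4) = s := by
    rw [hppow hu, hpu, show s ^ 4 = s * (s * (s * s)) by simp [pow_succ, mul_assoc], perm_cube_four s hs3]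
  have hu12 : (u ^ 4) ^ 3 = 1 := by
    have hq : u ^ 3 ∈ Q := (F.hker _ (pow_mem hu 3)).1 (by
      rw [hppow hu, hpu, ← hs3, pow_succ, pow_two])
    rw [← pow_mul, show 4 * 3 = 3 * 2 * 2 from rfl, pow_mul, pow_mul]
    rcases st.sq_cases hq with e | e <;> rw [pow_two (u ^ 3), e]
    · exact one_pow 2
    · rw [pow_two]; exact st.zz
  set σ := u ^ 4 with hσdef
  have hσC : σ ∈ centralizer ({z} : Set G) := pow_mem hu 4
  have hσx : σ * x * σ⁻¹ = x := by
    have hd := F.hact σ hσC m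
    rw [hpσ, hsm] at hd
    rcases hd with e | e
    · exact e
    exfalso
    have e3 : σ ^ 3 * x * (σ ^ 3)⁻¹ = z * x := by
      rw [show σ ^ 3 * x * (σ ^ 3)⁻¹ = σ * (σ * (σ * x * σ⁻¹) * σ⁻¹) * σ⁻¹ by simp [pow_succ]; group, e,
        show σ * (z * x) * σ⁻¹ = (σ * z * σ⁻¹) * (σ * x * σ⁻¹) by group, e, st.zc hσC, mul_inv_cancel_right,
        st.zzc, e]
    rw [hu12, one_mul, inv_one, mul_one] at e3
    exact st.z_ne (mul_eq_right.1 e3.symm)
  have hσA : ∀ r, 8 ≤ (Z r).ncard → 8 ≤ (Z (s * r * (s * s))).ncard := by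
    intro r hr
    refine le_trans hr (Set.ncard_le_ncard_of_injOn (fun d => σ * d * σ⁻¹) ?_ ?_ (Set.toFinite _))
    · rintro d ⟨⟨⟨hd, hdx⟩, hdp⟩, hdz⟩
      refine ⟨⟨⟨mul_mem (mul_mem hσC hd) (inv_mem hσC), ?_⟩, ?_⟩, ?_⟩
      · show σ * d * σ⁻¹ * x = x * (σ * d * σ⁻¹)
        conv_lhs => arg 2; rw [← hσx]
        conv_rhs => arg 1; rw [← hσx]
        rw [show σ * d * σ⁻¹ * (σ * x * σ⁻¹) = σ * (d * x) * σ⁻¹ by group, hdx]
        group
      · rw [hpconj hσC hd, hpσ, hdp, show s⁻¹ = s * s from inv_eq_of_mul_eq_one_right (by rw [← mul_assoc, hs3])]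
      · rw [conj_mul, hdz, st.zc hσC, mul_inv_cancel_right]
    · exact fun a _ b _ e => mul_left_cancel (mul_right_cancel e)
  set ρ1 := s * ρ * (s * s) with hρ1d
  set ρ2 := s * ρ1 * (s * s) with hρ2d
  have hZ1 : 8 ≤ (Z ρ1).ncard := hσA ρ hZρ
  have hZ2 : 8 ≤ (Z ρ2).ncard := hσA ρ1 hZ1
  have hne : ρ ≠ ρ1 ∧ ρ1 ≠ ρ2 ∧ ρ ≠ ρ2 := by
    have key : ρ ≠ s * ρ * (s * s) := fun e => hsρ (by
      calc ρ * s = s * ρ * (s * s) * s := by rw [← e]
        _ = s * ρ * (s * s * s) := by group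
        _ = s * ρ := by rw [hs3, mul_one])
    have back : ∀ r, (s * s) * (s * r * (s * s)) * s = r := fun r => by
      rw [show (s * s) * (s * r * (s * s)) * s = (s * s * s) * r * (s * s * s) by group, hs3, one_mul, mul_one]
    refine ⟨key, fun e => key ?_, fun e => key ?_⟩
    · have := congrArg (fun r => (s * s) * r * s) e
      simp only [hρ1d, hρ2d, back] at this
      exact this
    · calc ρ = s * (s * (s * ρ * (s * s)) * (s * s)) * (s * s) := by
            rw [show s * (s * (s * ρ * (s * s)) * (s * s)) * (s * s) =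
              (s * s * s) * ρ * ((s * s * s) * (s * s * s)) by group, hs3, one_mul, one_mul, mul_one]
        _ = s * ρ2 * (s * s) := by rw [hρ2d, hρ1d]
        _ = _ := by rw [← e]
  -- the element squaring to `z` go to elements squaring to `x`
  have hzord : orderOf z = 2 := st.hz
  obtain ⟨g, hg⟩ := isConj_iff.1 (hone x z (orderOf_two_iff.2 ⟨hx2, hx1⟩) hzord)
  obtain ⟨g', hg'x, hg'z⟩ : ∃ g' : G, g' * x * g'⁻¹ = z ∧ g' * z * g'⁻¹ = x := by
    set y1 := g * z * g⁻¹ with hy1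
    have hy1C : y1 ∈ centralizer ({z} : Set G) := by
      rw [mem_centralizer_singleton_iff]
      conv_lhs => arg 2; rw [← hg]
      conv_rhs => arg 1; rw [← hg]
      rw [hy1, show g * z * g⁻¹ * (g * x * g⁻¹) = g * (z * x) * g⁻¹ by group,
        show g * x * g⁻¹ * (g * z * g⁻¹) = g * (x * z) * g⁻¹ by group, st.zc hxH]
    have hy12 : y1 * y1 = 1 := by rw [hy1, conj_mul, st.zz, mul_one, mul_inv_cancel]
    have hy1Q : y1 ∈ Q := by_contra fun hn => hcon y1 hy1C hn hy12
    have hy11 : y1 ≠ 1 := fun e => st.z_ne (conj_eq_one_iff.1 e)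
    have hy1z : y1 ≠ z := fun e => hxz (by
      have := e.trans hg.symm
      rw [hy1] at this
      exact (mul_left_cancel (mul_right_cancel this)).symm)
    obtain ⟨c1, hc1, e1⟩ := st.pair_conj hy1Q hy12 hy11 hy1z hxQ hx2 hx1 hxz
    refine ⟨c1 * g, ?_, ?_⟩
    · rw [show c1 * g * x * (c1 * g)⁻¹ = c1 * (g * x * g⁻¹) * c1⁻¹ by group, hg, st.zc hc1, mul_inv_cancel_right]
    · rw [show c1 * g * z * (c1 * g)⁻¹ = c1 * (g * z * g⁻¹) * c1⁻¹ by group, ← hy1, e1]
  let Zall : Set G := {d | d ∈ D ∧ d * d = z}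
  let Xall : Set G := {d | d ∈ D ∧ d * d = x}
  have h25 : 25 ≤ Zall.ncard := by
    have hdis : ∀ a b, a ≠ b → Disjoint (Z a) (Z b) := fun a b hab =>
      Set.disjoint_left.2 fun d h1 h2 => hab (h1.1.2.symm.trans h2.1.2)
    have hwn : w ∉ Z ρ ∪ Z ρ1 ∪ Z ρ2 := by
      have hpw : F.p w = 1 := (F.hker w (st.hQH hwQ)).2 hwQ
      have n1 : ρ1 ≠ 1 := fun e => hρ1 (by
        calc ρ = (s * s * s) * ρ * (s * s * s) := by rw [hs3, one_mul, mul_one]
          _ = (s * s) * ρ1 * s := by rw [hρ1d]; group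
          _ = 1 := by rw [e, mul_one, hs3])
      have n2 : ρ2 ≠ 1 := fun e => n1 (by
        calc ρ1 = (s * s * s) * ρ1 * (s * s * s) := by rw [hs3, one_mul, mul_one]
          _ = (s * s) * ρ2 * s := by rw [hρ2d]; group
          _ = 1 := by rw [e, mul_one, hs3])
      rintro ((h1 | h1) | h1)
      exacts [hρ1 (hpw ▸ h1.1.2.symm), n1 (hpw ▸ h1.1.2.symm), n2 (hpw ▸ h1.1.2.symm)]
    have hsub : insert w (Z ρ ∪ Z ρ1 ∪ Z ρ2) ⊆ Zall := by
      rintro d (rfl | (h1 | h1) | h1)
      · exact ⟨⟨st.hQH hwQ, hwx⟩, hw2⟩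
      all_goals exact ⟨h1.1.1, h1.2⟩
    have := Set.ncard_le_ncard hsub (Set.toFinite _)
    rw [Set.ncard_insert_of_notMem hwn (Set.toFinite _), Set.ncard_union_eq (Set.disjoint_union_left.2
      ⟨hdis _ _ hne.2.2, hdis _ _ hne.2.1⟩) (Set.toFinite _) (Set.toFinite _),
      Set.ncard_union_eq (hdis _ _ hne.1) (Set.toFinite _) (Set.toFinite _)] at this
    omega
  have h24 : Xall.ncard ≤ 24 := by
    have hsub : Xall ⊆ {d | d ∈ A ρ ∧ d * d = x} ∪ {d | d ∈ A ρ1 ∧ d * d = x} ∪ {d | d ∈ A ρ2 ∧ d * d = x} := by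
      rintro d ⟨⟨hd, hdx⟩, hd2⟩
      have hpm : F.p d m = m := by
        have hd' := F.hact d hd m
        rw [show d * F.x m * d⁻¹ = x by rw [← hx, hdx, mul_inv_cancel_right]] at hd'
        rcases hd' with e | e
        · exact (F.huniq m _ (Or.inl e.symm)).symm
        · exact (F.huniq m _ (Or.inr (by rw [show F.x m = x from rfl, e, st.zzc]))).symm
      have hp2 : F.p d * F.p d = 1 := by
        rw [← F.hmul d hd d hd, hd2]; exact (F.hker x hxH).2 hxQ
      have hpne : F.p d ≠ 1 := fun e => by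
        rcases st.sq_cases ((F.hker d hd).1 e) with h1 | h1 <;> rw [hd2] at h1
        exacts [hx1 h1, hxz h1]
      rcases hall _ (F.hsign d hd) hpne hp2 hpm with e | e | e
      exacts [Or.inl (Or.inl ⟨⟨⟨hd, hdx⟩, e⟩, hd2⟩), Or.inl (Or.inr ⟨⟨⟨hd, hdx⟩, e⟩, hd2⟩),
        Or.inr ⟨⟨⟨hd, hdx⟩, e⟩, hd2⟩]
    have h1 := Set.ncard_le_ncard hsub (Set.toFinite _)
    have h2 := Set.ncard_union_le ({d | d ∈ A ρ ∧ d * d = x} ∪ {d | d ∈ A ρ1 ∧ d * d = x})
      {d | d ∈ A ρ2 ∧ d * d = x}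
    have h3 := Set.ncard_union_le {d | d ∈ A ρ ∧ d * d = x} {d | d ∈ A ρ1 ∧ d * d = x}
    have := hX8 ρ hZρ
    have := hX8 ρ1 hZ1
    have := hX8 ρ2 hZ2
    omega
  have hmap : Zall.ncard ≤ Xall.ncard := by
    refine Set.ncard_le_ncard_of_injOn (fun d => g' * d * g'⁻¹) ?_ ?_ (Set.toFinite _)
    · rintro d ⟨⟨hd, hdx⟩, hd2⟩
      refine ⟨⟨mem_centralizer_singleton_iff.2 ?_, ?_⟩, ?_⟩
      · conv_lhs => arg 2; rw [← hg'x]
        conv_rhs => arg 1; rw [← hg'x]
        rw [show g' * d * g'⁻¹ * (g' * x * g'⁻¹) = g' * (d * x) * g'⁻¹ by group, hdx]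
        group
      · show g' * d * g'⁻¹ * x = x * (g' * d * g'⁻¹)
        conv_lhs => arg 2; rw [← hg'z]
        conv_rhs => arg 1; rw [← hg'z]
        rw [show g' * d * g'⁻¹ * (g' * z * g'⁻¹) = g' * (d * z) * g'⁻¹ by group, st.zc hd]
        group
      · rw [conj_mul, hd2, hg'z]
    · exact fun a _ b _ e => mul_left_cancel (mul_right_cancel e)
  omega

/-- Conjugating an involution outside `Q` to one with a given permutation. -/
theorem exists_involution_perm (st : Setup z Q) (F : Frame z Q) {v : G} (hv : v ∈ centralizer ({z} : Set G))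
    (hvQ : v ∉ Q) (hv2 : v * v = 1) (τ : Equiv.Perm (Fin 5)) (hs : Equiv.Perm.sign τ = 1) (h1 : τ ≠ 1)
    (h2 : τ * τ = 1) : ∃ a ∈ centralizer ({z} : Set G), a * a = 1 ∧ F.p a = τ := by
  obtain ⟨hs', hne, hpp⟩ := st.p_invol F hv hvQ hv2
  obtain ⟨ρ, hρ, e⟩ := perm_conj_invol _ hs' hne hpp τ hs h1 h2
  obtain ⟨h, hh, rfl⟩ := F.hsurj ρ hρ
  refine ⟨h * v * h⁻¹, mul_mem (mul_mem hh hv) (inv_mem hh), ?_, ?_⟩
  · rw [conj_mul, hv2, mul_one, mul_inv_cancel]
  · have hi : F.p h * F.p h⁻¹ = 1 := by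
      rw [← F.hmul h hh _ (inv_mem hh), mul_inv_cancel]
      exact (F.hker 1 (one_mem _)).2 (one_mem _)
    rw [F.hmul _ (mul_mem hh hv) _ (inv_mem hh), F.hmul h hh v hv, e, mul_assoc, hi, mul_one]

/-- Coordinates on the centralizer. -/
theorem exists_coordinates [Finite G] (st : Setup z Q)
    (hone : ∀ x y : G, orderOf x = 2 → orderOf y = 2 → IsConj x y) : ∃ f, Coords z Q f := by
  classical
  obtain ⟨v, hv, hvQ, hv2⟩ := exists_involution st hone
  obtain ⟨F⟩ := st.nonempty_frame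
  haveI : Fact (Nat.Prime 3) := ⟨by norm_num⟩
  obtain ⟨σ', hσ'⟩ := exists_prime_orderOf_dvd_card' (G := centralizer ({z} : Set G)) 3 (by rw [st.hH]; norm_num)
  obtain ⟨σ, hσH, hσo⟩ : ∃ σ ∈ centralizer ({z} : Set G), orderOf σ = 3 :=
    ⟨σ', σ'.2, by rw [orderOf_coe, hσ']⟩
  have hσz : σ * z = z * σ := st.zc hσH
  have hσ3 : σ * σ * σ = 1 := by rw [← pow_orderOf_eq_one σ, hσo, pow_three]; group
  set s := F.p σ with hs
  have hpone : F.p 1 = 1 := (F.hker 1 (one_mem _)).2 (one_mem _)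
  have hs3 : s * s * s = 1 := by
    rw [hs, ← F.hmul σ hσH σ hσH, ← F.hmul _ (mul_mem hσH hσH) σ hσH, hσ3, hpone]
  have hs1 : s ≠ 1 := fun h => by
    have hm : σ ∈ Q := (F.hker σ hσH).1 h
    have := Subgroup.orderOf_dvd_natCard Q hm
    rw [hσo, st.h32] at this
    norm_num at this
  obtain ⟨-, a, i, k, -, hsi, -⟩ := perm_three s hs1 hs3
  obtain ⟨π, hπ0, hπ⟩ := perm_relabel s (F.hsign σ hσH) hs1 hs3 i hsi
  -- an involution with the permutation of `a`
  obtain ⟨psa, pa1, pa2, ps3, pu1, pu5⟩ := perm_facts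
  obtain ⟨a0, ha0H, ha02, hpa0⟩ := exists_involution_perm st F hv hvQ hv2 (π * ab * π⁻¹)
    (by rw [map_mul, map_mul, psa, map_inv, mul_one, mul_inv_cancel])
    (fun h => pa1 (by
      calc ab = π⁻¹ * (π * ab * π⁻¹) * π := by group
        _ = 1 := by rw [h]; group))
    (by
      calc π * ab * π⁻¹ * (π * ab * π⁻¹) = π * (ab * ab) * π⁻¹ := by group
        _ = 1 := by rw [pa2]; group)
  have hsπ : s = π * sb * π⁻¹ := by
    refine Equiv.ext fun j => ?_
    have := hπ (π⁻¹ j)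
    simpa using this
  -- adjust by the centre
  obtain ⟨a, haH, ha2, hpa, hu5⟩ : ∃ a ∈ centralizer ({z} : Set G), a * a = 1 ∧ F.p a = π * ab * π⁻¹ ∧
      (σ * a) * ((σ * a) * ((σ * a) * ((σ * a) * (σ * a)))) = 1 := by
    have hu : σ * a0 ∈ centralizer ({z} : Set G) := mul_mem hσH ha0H
    have hpu : F.p (σ * a0) = π * (sb * ab) * π⁻¹ := by
      rw [F.hmul σ hσH a0 ha0H, hpa0, ← hs, hsπ]; group
    rcases five_power st F hu (by
        rw [hpu]
        intro h
        exact pu1 (by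
          calc sb * ab = π⁻¹ * (π * (sb * ab) * π⁻¹) * π := by group
            _ = 1 := by rw [h]; group))
      (by
        rw [hpu]
        calc π * (sb * ab) * π⁻¹ * (π * (sb * ab) * π⁻¹ * (π * (sb * ab) * π⁻¹ * (π * (sb * ab) * π⁻¹ *
              (π * (sb * ab) * π⁻¹))))
            = π * ((sb * ab) * ((sb * ab) * ((sb * ab) * ((sb * ab) * (sb * ab))))) * π⁻¹ := by group
          _ = 1 := by rw [pu5]; group) with h | h
    · exact ⟨a0, ha0H, ha02, hpa0, h⟩
    · refine ⟨z * a0, mul_mem st.z_mem_H ha0H, ?_, ?_, ?_⟩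
      · rw [show z * a0 * (z * a0) = z * (a0 * z) * a0 by group, st.zc ha0H,
          show z * (z * a0) * a0 = z * z * (a0 * a0) by group, st.zz, ha02, one_mul]
      · rw [F.hmul z st.z_mem_H a0 ha0H, (F.hker z st.z_mem_H).2 st.z_mem, one_mul, hpa0]
      · set u := σ * a0 with hudef
        have e1 : σ * (z * a0) = z * u := by rw [← mul_assoc, hσz, hudef, mul_assoc]
        have hc : Commute z u := (st.zc hu).symm
        rw [e1]
        calc z * u * (z * u * (z * u * (z * u * (z * u)))) = (z * u) ^ 5 := by simp [pow_succ, mul_assoc]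
          _ = z ^ 5 * u ^ 5 := hc.mul_pow 5
          _ = 1 := by
            rw [show z ^ 5 = z * z * (z * z) * z by simp [pow_succ, mul_assoc], st.zz,
              show u ^ 5 = u * (u * (u * (u * u))) by simp [pow_succ, mul_assoc], h, one_mul, one_mul, st.zz]
  -- signs
  let y : Fin 5 → G := fun j => F.x (π j)
  have hyQ : ∀ j, y j ∈ Q := fun j => (F.hx _).1
  have hact : ∀ {g : G}, g ∈ centralizer ({z} : Set G) → ∀ (p : Equiv.Perm (Fin 5)), F.p g = π * p * π⁻¹ →
      ∃ d : Fin 5 → Bool, Act z y g p d := by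
    intro g hg p hgp
    have : ∀ j, ∃ b, g * y j * g⁻¹ = zb z b * y (p j) := fun j => by
      have h := F.hact g hg (π j)
      rw [hgp] at h
      simp only [Equiv.Perm.mul_apply, Equiv.Perm.coe_inv, Equiv.symm_apply_apply] at h
      rcases h with h | h
      · exact ⟨false, by simp [zb, y, h]⟩
      · exact ⟨true, by simp [zb, y, h]⟩
    choose d hd using this
    exact ⟨d, hd⟩
  obtain ⟨es, hes⟩ := hact hσH sb (by rw [← hs, hsπ])
  obtain ⟨ea, hea⟩ := hact haH ab hpa
  have hzz := st.zz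
  have haz := st.zc haH
  have c1 := (Act.mul hzz haz hea hea).eq_one st.z_ne ha2 pa2
  have c2 := (Act.mul hzz hσz hes (Act.mul hzz hσz hes hes)).eq_one st.z_ne (by rw [← mul_assoc]; exact hσ3) ps3
  have c3 := (sgn_five hzz (st.zc (mul_mem hσH haH)) (Act.mul hzz hσz hes hea)).eq_one st.z_ne hu5 pu5
  obtain ⟨d0, d1, d2, d3, d4, hd⟩ := cocycle (ea 0) (ea 1) (ea 2) (ea 3) (ea 4) (es 0) (es 1) (es 2) (es 3) (es 4)
    (by rw [vec_eq]; exact c1)
    (fun i => by
      rw [vec_eq]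
      have := c2 i
      simp only [cmpE, Equiv.Perm.mul_apply] at this ⊢
      revert this
      cases es i <;> cases es (sb i) <;> cases es (sb (sb i)) <;> simp)
    (by rw [vec_eq, vec_eq]; exact c3)
  rw [vec_eq, vec_eq] at hd
  set d := ![d0, d1, d2, d3, d4] with hdd
  have hzbc : ∀ (b : Bool) {g : G}, g ∈ centralizer ({z} : Set G) → g * zb z b = zb z b * g :=
    fun b g hg => zb_comm (st.zc hg) b
  -- corrected representatives, for either global sign
  have hfix : ∀ c : Bool, ∀ g ∈ centralizer ({z} : Set G), ∀ (p : Equiv.Perm (Fin 5)) (eg : Fin 5 → Bool),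
      Act z y g p eg → (∀ j, eg j = xor (d j) (d (p j))) →
      ∀ j, g * (zb z (xor c (d j)) * y j) * g⁻¹ = zb z (xor c (d (p j))) * y (p j) := by
    intro c g hg p eg hA he j
    calc g * (zb z (xor c (d j)) * y j) * g⁻¹ = zb z (xor c (d j)) * (g * y j * g⁻¹) := by
          rw [← mul_assoc, hzbc _ hg]; group
      _ = _ := by
        rw [hA j, ← mul_assoc, zb_mem hzz, he j]
        congr 2
        cases c <;> cases d j <;> cases d (p j) <;> rfl
  have hzzb : ∀ b, zb z b ∈ Q := fun b => by cases b <;> simp [zb, st.z_mem, one_mem]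
  obtain ⟨b0, hb0⟩ := inPair_zb (st.four F (a := π 0) (b := π 1) (c := π 2) (d := π 3) (i := π 4)
    (by simp) (by simp) (by simp) (by simp) (by simp) (by simp) (by simp) (by simp) (by simp) (by simp))
  have hxx : ∀ (b : Bool) (j : Fin 5), (zb z b * y j) * (zb z b * y j) = 1 := fun b j => by
    have hy2 : y j * y j = 1 := (F.hx _).2.1
    rw [show zb z b * y j * (zb z b * y j) = zb z b * (y j * zb z b) * y j by group,
      hzbc _ (st.hQH (hyQ j)), show zb z b * (zb z b * y j) * y j = zb z b * zb z b * (y j * y j) by group,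
      zb_mem hzz, hy2, mul_one]
    cases b <;> rfl
  -- choose the global sign
  set c := xor (xor (xor (d 0) (d 1)) (xor (d 2) (d 3))) (xor (d 4) b0) with hc
  let x : Fin 5 → G := fun j => zb z (xor c (d j)) * y j
  have hxQ : ∀ j, x j ∈ Q := fun j => mul_mem (hzzb _) (hyQ j)
  have hprod : x 0 * (x 1 * (x 2 * (x 3 * x 4))) = 1 := by
    have move : ∀ (b : Bool) {g : G}, g ∈ Q → g * zb z b = zb z b * g := fun b g hg => hzbc b (st.hQH hg)
    show zb z (xor c (d 0)) * y 0 * (zb z (xor c (d 1)) * y 1 * (zb z (xor c (d 2)) * y 2 *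
      (zb z (xor c (d 3)) * y 3 * (zb z (xor c (d 4)) * y 4)))) = 1
    have step : ∀ (a b : Bool) {g : G}, g ∈ Q → ∀ h : G, zb z a * g * (zb z b * h) = zb z (xor a b) * (g * h) := by
      intro a b g hg h
      calc zb z a * g * (zb z b * h) = zb z a * (g * zb z b) * h := by group
        _ = _ := by rw [move b hg, ← mul_assoc, zb_mem hzz]; group
    rw [step _ _ (hyQ 3), step _ _ (hyQ 2), step _ _ (hyQ 1), step _ _ (hyQ 0),
      show y 0 * (y 1 * (y 2 * (y 3 * y 4))) = y 0 * y 1 * (y 2 * y 3) * y 4 by group,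
      show y 0 * y 1 * (y 2 * y 3) = zb z b0 * y 4 from hb0, mul_assoc, (F.hx (π 4)).2.1, mul_one, zb_mem hzz]
    revert hc
    cases c <;> cases d 0 <;> cases d 1 <;> cases d 2 <;> cases d 3 <;> cases d 4 <;> cases b0 <;> simp [zb]
  have hanti : ∀ j k, j ≠ k → x j * x k = z * (x k * x j) := by
    intro j k hjk
    have hA : F.x (π j) * F.x (π k) = z * (F.x (π k) * F.x (π j)) := st.anti_x F (π.injective.ne hjk)
    calc x j * x k = zb z (xor c (d j)) * (y j * zb z (xor c (d k))) * y k := by simp only [x]; group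
      _ = zb z (xor c (d j)) * zb z (xor c (d k)) * (y j * y k) := by rw [hzbc _ (st.hQH (hyQ j))]; group
      _ = zb z (xor c (d k)) * zb z (xor c (d j)) * (z * (y k * y j)) := by
          rw [zb_mem hzz, zb_mem hzz, Bool.xor_comm, hA]
      _ = z * (zb z (xor c (d k)) * (zb z (xor c (d j)) * y k) * y j) := by
          rw [show zb z (xor c (d k)) * zb z (xor c (d j)) * (z * (y k * y j)) =
            zb z (xor c (d k)) * zb z (xor c (d j)) * z * (y k * y j) by group,
            show zb z (xor c (d k)) * zb z (xor c (d j)) * z = z * (zb z (xor c (d k)) * zb z (xor c (d j))) by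
              rw [zb_mem hzz, zb_comm rfl]]
          group
      _ = z * (x k * x j) := by rw [← hzbc _ (st.hQH (hyQ k))]; simp only [x]; group
  have hrel := coordFun_rel (y := x) (s := σ) (a := a) hzz (fun j => hxx _ j)
    (fun j => st.qz (hxQ j)) hσz haz hσ3 ha2 hu5 hprod hanti
    (fun j => hfix c σ hσH sb es hes (fun k => (hd k).2) j)
    (fun j => hfix c a haH ab ea hea (fun k => (hd k).1) j)
  refine ⟨coordFun z x σ a, ⟨rfl, hrel, ?_, hxQ 0⟩⟩
  · set f := coordFun z x σ a with hf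
    set D := Subgroup.closure (f '' {i | i < 10}) with hD
    have hmemD : ∀ j < 10, f j ∈ D := fun j hj => subset_closure ⟨j, hj, rfl⟩
    have hle : D ≤ centralizer ({z} : Set G) := by
      rw [hD, closure_le]
      have hsa : ∀ w : List ℕ, ev (fun i => if i = 6 then σ else if i = 7 then a else 1) w ∈
          centralizer ({z} : Set G) := fun w => ev_mem fun l _ => by
        split_ifs
        exacts [hσH, haH, one_mem _]
      rintro _ ⟨j, hj, rfl⟩
      simp only [Set.mem_ofPred_eq] at hj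
      interval_cases j
      exacts [st.z_mem_H, st.hQH (hxQ 0), st.hQH (hxQ 1), st.hQH (hxQ 2), st.hQH (hxQ 3), st.hQH (hxQ 4), hσH,
        haH, hsa _, hsa _]
    have hxD : ∀ j, x j ∈ D := fun j => by fin_cases j <;> first
      | exact hmemD 1 (by norm_num) | exact hmemD 2 (by norm_num) | exact hmemD 3 (by norm_num)
      | exact hmemD 4 (by norm_num) | exact hmemD 5 (by norm_num)
    have hzD : z ∈ D := hmemD 0 (by norm_num)
    -- the involutions generate `Q`
    have hQD : Q ≤ D := by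
      intro q hq
      by_contra hqD
      have hinvD : ∀ u ∈ Q, u * u = 1 → u ∈ D := by
        intro u hu hu2
        by_cases h1 : u = 1
        · exact h1 ▸ one_mem D
        by_cases h2 : u = z
        · exact h2 ▸ hzD
        obtain ⟨j, hj⟩ := F.hall u hu hu2 h1 h2
        obtain ⟨b, hb⟩ := inPair_zb hj
        have hzbD : ∀ b, zb z b ∈ D := fun b => by cases b <;> simp [zb, hzD, one_mem]
        have : u = zb z (xor b (xor c (d (π⁻¹ j)))) * x (π⁻¹ j) := by
          simp only [x, y, Equiv.Perm.coe_inv, Equiv.apply_symm_apply]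
          rw [← mul_assoc, zb_mem hzz, hb]
          congr 2
          cases b <;> cases c <;> cases d (π.symm j) <;> rfl
        rw [this]
        exact mul_mem (hzbD _) (hxD _)
      -- outside `D` the elements commute with all the involutions
      have hcomm : ∀ u ∈ Q, u ∉ D → ∀ j, u * x j = x j * u := by
        intro u hu huD j
        have hu2 : u * u = z := (st.sq_cases hu).resolve_left fun h => huD (hinvD u hu h)
        refine (st.comm_cases hu (hxQ j)).resolve_right fun h => huD ?_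
        have hh : u * x j * (u * x j) = 1 := by
          unfold Anti at h
          calc u * x j * (u * x j) = u * x j * (z * (x j * u)) := by rw [h]
            _ = u * (x j * z) * x j * u := by group
            _ = u * (z * x j) * x j * u := by rw [st.qz (hxQ j)]
            _ = u * z * (x j * x j) * u := by group
            _ = z * (u * u) := by rw [hxx, mul_one, st.qz hu]; group
            _ = 1 := by rw [hu2, st.zz]
        have := mul_mem (hinvD _ (mul_mem hu (hxQ j)) hh) (inv_mem (hxD j))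
        rwa [mul_inv_cancel_right] at this
      have h1 := hcomm (q * x 0) (mul_mem hq (hxQ 0)) (fun h => hqD (by
        simpa using mul_mem h (inv_mem (hxD 0)))) 1
      have h2 := hcomm q hq hqD 1
      have h3 := hanti 0 1 (by decide)
      refine st.z_ne ?_
      have h4 : x 0 * x 1 = x 1 * x 0 := by
        have : q * (x 0 * x 1) = q * (x 1 * x 0) := by
          calc q * (x 0 * x 1) = q * x 0 * x 1 := by group
            _ = x 1 * q * x 0 := by rw [h1]; group
            _ = _ := by rw [← h2]; group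
        exact mul_left_cancel this
      rw [h4] at h3
      exact mul_eq_right.1 h3.symm
    -- the permutations
    refine le_antisymm hle fun g hg => ?_
    have hps : Equiv.Perm.sign (π⁻¹ * F.p g * π) = 1 := by
      rw [map_mul, map_mul, F.hsign g hg, mul_one, map_inv, inv_mul_cancel]
    obtain ⟨w, -, hw⟩ := perm_gen _ hps
    have hwD : ∀ w : List Bool, (w.map fun b => if b then a else σ).prod ∈ D ∧
        F.p (w.map fun b => if b then a else σ).prod = π * (w.map fun b => if b then ab else sb).prod * π⁻¹ := by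
      intro w
      induction w with
      | nil => exact ⟨one_mem D, by simp [hpone]⟩
      | cons b w ih =>
        obtain ⟨hm, hp⟩ := ih
        have hb : (if b then a else σ) ∈ D ∧
            F.p (if b then a else σ) = π * (if b then ab else sb) * π⁻¹ := by
          cases b
          · exact ⟨hmemD 6 (by norm_num), by simp only [Bool.false_eq_true, if_false]; rw [← hs, hsπ]⟩
          · exact ⟨hmemD 7 (by norm_num), by simp only [if_true]; exact hpa⟩
        rw [List.map_cons, List.prod_cons, List.map_cons, List.prod_cons]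
        refine ⟨mul_mem hb.1 hm, ?_⟩
        rw [F.hmul _ (hle hb.1) _ (hle hm), hb.2, hp]
        group
    obtain ⟨hm, hp⟩ := hwD w
    set g' := (w.map fun b => if b then a else σ).prod with hg'
    rw [hw, show π * (π⁻¹ * F.p g * π) * π⁻¹ = F.p g by group] at hp
    have hq : g * g'⁻¹ ∈ Q := (F.hker _ (mul_mem hg (inv_mem (hle hm)))).1 (by
      have hgi : F.p g' * F.p g'⁻¹ = 1 := by rw [← F.hmul _ (hle hm) _ (inv_mem (hle hm)), mul_inv_cancel, hpone]
      rw [F.hmul g hg _ (inv_mem (hle hm)), ← hp, hgi])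
    simpa using mul_mem (hQD hq) hm

/-- The setting of `Ctx` exists. -/
theorem exists_ctx [Finite G] (st : Setup z Q)
    (hone : ∀ x y : G, orderOf x = 2 → orderOf y = 2 → IsConj x y) : ∃ f, Ctx z f := by
  obtain ⟨f, c⟩ := exists_coordinates st hone
  exact ⟨f, ⟨c.rel, c.f0, c.gen, st.hH, hone⟩⟩

end CfsgLib.JThreeUniq
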