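import Cfsg.Agent.Lib.JThreeUniq.Close
import Cfsg.Agent.Lib.JThreeUniq.Range
import Cfsg.Agent.Lib.JThreeUniq.Checks.M0
import Cfsg.Agent.Lib.JThreeUniq.Checks.M1
import Cfsg.Agent.Lib.JThreeUniq.Checks.M2
import Cfsg.Agent.Lib.JThreeUniq.Checks.M3
import Cfsg.Agent.Lib.JThreeUniq.Checks.M4
import Cfsg.Agent.Lib.JThreeUniq.Checks.M5
import Cfsg.Agent.Lib.JThreeUniq.Checks.M6
import Cfsg.Agent.Lib.JThreeUniq.Checks.M7
import Cfsg.Agent.Lib.JThreeUniq.Checks.M8
import Cfsg.Agent.Lib.JThreeUniq.Checks.Live0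
import Cfsg.Agent.Lib.JThreeUniq.Checks.Live1
import Cfsg.Agent.Lib.JThreeUniq.Checks.Live2

/-!
The subgroup generated by a copy of the centralizer, `τ` and `σ` satisfying the relations of certificate M has
order at most `1920 * 26163 = 50232960`.
-/

set_option autoImplicit false
set_option maxRecDepth 100000

namespace CfsgLib.JThreeUniq

open Subgroup

variable {Γ : Type*} [Group Γ] {el : ℕ → Γ} {τ σ : Γ}

/-- All facts of certificate M hold. -/
theorem valid_factsM (S : Sys el τ σ) (hrel : ∀ w ∈ Data.relsM, wv el τ σ w = 1)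
    {X : Type*} [MulAction Γ X] {o : X} (ho : ∀ u, u < 1920 → el u • o = o) :
    ∀ f < 13007, certM.Valid el τ σ o f := by
  have R := range_nums
  have hr : ∀ w ∈ certM.rels, wv el τ σ w = 1 := hrel
  have b : ∀ f < 0, certM.Valid el τ σ o f := fun f hf => absurd hf (Nat.not_lt_zero f)
  replace b : ∀ f < 250, certM.Valid el τ σ o f :=
    fun f hf => chunk_valid S R certM ho hr _ 0 chkM0_0 b f
      (by rw [show Data.jsM0_0.length = 250 by rfl]; exact hf)
  replace b : ∀ f < 500, certM.Valid el τ σ o f :=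
    fun f hf => chunk_valid S R certM ho hr _ 250 chkM0_1 b f
      (by rw [show Data.jsM0_1.length = 250 by rfl]; exact hf)
  replace b : ∀ f < 750, certM.Valid el τ σ o f :=
    fun f hf => chunk_valid S R certM ho hr _ 500 chkM0_2 b f
      (by rw [show Data.jsM0_2.length = 250 by rfl]; exact hf)
  replace b : ∀ f < 1000, certM.Valid el τ σ o f :=
    fun f hf => chunk_valid S R certM ho hr _ 750 chkM0_3 b f
      (by rw [show Data.jsM0_3.length = 250 by rfl]; exact hf)
  replace b : ∀ f < 1250, certM.Valid el τ σ o f :=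
    fun f hf => chunk_valid S R certM ho hr _ 1000 chkM0_4 b f
      (by rw [show Data.jsM0_4.length = 250 by rfl]; exact hf)
  replace b : ∀ f < 1500, certM.Valid el τ σ o f :=
    fun f hf => chunk_valid S R certM ho hr _ 1250 chkM0_5 b f
      (by rw [show Data.jsM0_5.length = 250 by rfl]; exact hf)
  replace b : ∀ f < 1750, certM.Valid el τ σ o f :=
    fun f hf => chunk_valid S R certM ho hr _ 1500 chkM1_0 b f
      (by rw [show Data.jsM1_0.length = 250 by rfl]; exact hf)
  replace b : ∀ f < 2000, certM.Valid el τ σ o f :=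
    fun f hf => chunk_valid S R certM ho hr _ 1750 chkM1_1 b f
      (by rw [show Data.jsM1_1.length = 250 by rfl]; exact hf)
  replace b : ∀ f < 2250, certM.Valid el τ σ o f :=
    fun f hf => chunk_valid S R certM ho hr _ 2000 chkM1_2 b f
      (by rw [show Data.jsM1_2.length = 250 by rfl]; exact hf)
  replace b : ∀ f < 2500, certM.Valid el τ σ o f :=
    fun f hf => chunk_valid S R certM ho hr _ 2250 chkM1_3 b f
      (by rw [show Data.jsM1_3.length = 250 by rfl]; exact hf)
  replace b : ∀ f < 2750, certM.Valid el τ σ o f :=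
    fun f hf => chunk_valid S R certM ho hr _ 2500 chkM1_4 b f
      (by rw [show Data.jsM1_4.length = 250 by rfl]; exact hf)
  replace b : ∀ f < 3000, certM.Valid el τ σ o f :=
    fun f hf => chunk_valid S R certM ho hr _ 2750 chkM1_5 b f
      (by rw [show Data.jsM1_5.length = 250 by rfl]; exact hf)
  replace b : ∀ f < 3250, certM.Valid el τ σ o f :=
    fun f hf => chunk_valid S R certM ho hr _ 3000 chkM2_0 b f
      (by rw [show Data.jsM2_0.length = 250 by rfl]; exact hf)
  replace b : ∀ f < 3500, certM.Valid el τ σ o f :=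
    fun f hf => chunk_valid S R certM ho hr _ 3250 chkM2_1 b f
      (by rw [show Data.jsM2_1.length = 250 by rfl]; exact hf)
  replace b : ∀ f < 3750, certM.Valid el τ σ o f :=
    fun f hf => chunk_valid S R certM ho hr _ 3500 chkM2_2 b f
      (by rw [show Data.jsM2_2.length = 250 by rfl]; exact hf)
  replace b : ∀ f < 4000, certM.Valid el τ σ o f :=
    fun f hf => chunk_valid S R certM ho hr _ 3750 chkM2_3 b f
      (by rw [show Data.jsM2_3.length = 250 by rfl]; exact hf)
  replace b : ∀ f < 4250, certM.Valid el τ σ o f :=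
    fun f hf => chunk_valid S R certM ho hr _ 4000 chkM2_4 b f
      (by rw [show Data.jsM2_4.length = 250 by rfl]; exact hf)
  replace b : ∀ f < 4500, certM.Valid el τ σ o f :=
    fun f hf => chunk_valid S R certM ho hr _ 4250 chkM2_5 b f
      (by rw [show Data.jsM2_5.length = 250 by rfl]; exact hf)
  replace b : ∀ f < 4750, certM.Valid el τ σ o f :=
    fun f hf => chunk_valid S R certM ho hr _ 4500 chkM3_0 b f
      (by rw [show Data.jsM3_0.length = 250 by rfl]; exact hf)
  replace b : ∀ f < 5000, certM.Valid el τ σ o f :=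
    fun f hf => chunk_valid S R certM ho hr _ 4750 chkM3_1 b f
      (by rw [show Data.jsM3_1.length = 250 by rfl]; exact hf)
  replace b : ∀ f < 5250, certM.Valid el τ σ o f :=
    fun f hf => chunk_valid S R certM ho hr _ 5000 chkM3_2 b f
      (by rw [show Data.jsM3_2.length = 250 by rfl]; exact hf)
  replace b : ∀ f < 5500, certM.Valid el τ σ o f :=
    fun f hf => chunk_valid S R certM ho hr _ 5250 chkM3_3 b f
      (by rw [show Data.jsM3_3.length = 250 by rfl]; exact hf)
  replace b : ∀ f < 5750, certM.Valid el τ σ o f :=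
    fun f hf => chunk_valid S R certM ho hr _ 5500 chkM3_4 b f
      (by rw [show Data.jsM3_4.length = 250 by rfl]; exact hf)
  replace b : ∀ f < 6000, certM.Valid el τ σ o f :=
    fun f hf => chunk_valid S R certM ho hr _ 5750 chkM3_5 b f
      (by rw [show Data.jsM3_5.length = 250 by rfl]; exact hf)
  replace b : ∀ f < 6250, certM.Valid el τ σ o f :=
    fun f hf => chunk_valid S R certM ho hr _ 6000 chkM4_0 b f
      (by rw [show Data.jsM4_0.length = 250 by rfl]; exact hf)
  replace b : ∀ f < 6500, certM.Valid el τ σ o f :=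
    fun f hf => chunk_valid S R certM ho hr _ 6250 chkM4_1 b f
      (by rw [show Data.jsM4_1.length = 250 by rfl]; exact hf)
  replace b : ∀ f < 6750, certM.Valid el τ σ o f :=
    fun f hf => chunk_valid S R certM ho hr _ 6500 chkM4_2 b f
      (by rw [show Data.jsM4_2.length = 250 by rfl]; exact hf)
  replace b : ∀ f < 7000, certM.Valid el τ σ o f :=
    fun f hf => chunk_valid S R certM ho hr _ 6750 chkM4_3 b f
      (by rw [show Data.jsM4_3.length = 250 by rfl]; exact hf)
  replace b : ∀ f < 7250, certM.Valid el τ σ o f :=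
    fun f hf => chunk_valid S R certM ho hr _ 7000 chkM4_4 b f
      (by rw [show Data.jsM4_4.length = 250 by rfl]; exact hf)
  replace b : ∀ f < 7500, certM.Valid el τ σ o f :=
    fun f hf => chunk_valid S R certM ho hr _ 7250 chkM4_5 b f
      (by rw [show Data.jsM4_5.length = 250 by rfl]; exact hf)
  replace b : ∀ f < 7750, certM.Valid el τ σ o f :=
    fun f hf => chunk_valid S R certM ho hr _ 7500 chkM5_0 b f
      (by rw [show Data.jsM5_0.length = 250 by rfl]; exact hf)
  replace b : ∀ f < 8000, certM.Valid el τ σ o f :=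
    fun f hf => chunk_valid S R certM ho hr _ 7750 chkM5_1 b f
      (by rw [show Data.jsM5_1.length = 250 by rfl]; exact hf)
  replace b : ∀ f < 8250, certM.Valid el τ σ o f :=
    fun f hf => chunk_valid S R certM ho hr _ 8000 chkM5_2 b f
      (by rw [show Data.jsM5_2.length = 250 by rfl]; exact hf)
  replace b : ∀ f < 8500, certM.Valid el τ σ o f :=
    fun f hf => chunk_valid S R certM ho hr _ 8250 chkM5_3 b f
      (by rw [show Data.jsM5_3.length = 250 by rfl]; exact hf)
  replace b : ∀ f < 8750, certM.Valid el τ σ o f :=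
    fun f hf => chunk_valid S R certM ho hr _ 8500 chkM5_4 b f
      (by rw [show Data.jsM5_4.length = 250 by rfl]; exact hf)
  replace b : ∀ f < 9000, certM.Valid el τ σ o f :=
    fun f hf => chunk_valid S R certM ho hr _ 8750 chkM5_5 b f
      (by rw [show Data.jsM5_5.length = 250 by rfl]; exact hf)
  replace b : ∀ f < 9250, certM.Valid el τ σ o f :=
    fun f hf => chunk_valid S R certM ho hr _ 9000 chkM6_0 b f
      (by rw [show Data.jsM6_0.length = 250 by rfl]; exact hf)
  replace b : ∀ f < 9500, certM.Valid el τ σ o f :=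
    fun f hf => chunk_valid S R certM ho hr _ 9250 chkM6_1 b f
      (by rw [show Data.jsM6_1.length = 250 by rfl]; exact hf)
  replace b : ∀ f < 9750, certM.Valid el τ σ o f :=
    fun f hf => chunk_valid S R certM ho hr _ 9500 chkM6_2 b f
      (by rw [show Data.jsM6_2.length = 250 by rfl]; exact hf)
  replace b : ∀ f < 10000, certM.Valid el τ σ o f :=
    fun f hf => chunk_valid S R certM ho hr _ 9750 chkM6_3 b f
      (by rw [show Data.jsM6_3.length = 250 by rfl]; exact hf)
  replace b : ∀ f < 10250, certM.Valid el τ σ o f :=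
    fun f hf => chunk_valid S R certM ho hr _ 10000 chkM6_4 b f
      (by rw [show Data.jsM6_4.length = 250 by rfl]; exact hf)
  replace b : ∀ f < 10500, certM.Valid el τ σ o f :=
    fun f hf => chunk_valid S R certM ho hr _ 10250 chkM6_5 b f
      (by rw [show Data.jsM6_5.length = 250 by rfl]; exact hf)
  replace b : ∀ f < 10750, certM.Valid el τ σ o f :=
    fun f hf => chunk_valid S R certM ho hr _ 10500 chkM7_0 b f
      (by rw [show Data.jsM7_0.length = 250 by rfl]; exact hf)
  replace b : ∀ f < 11000, certM.Valid el τ σ o f :=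
    fun f hf => chunk_valid S R certM ho hr _ 10750 chkM7_1 b f
      (by rw [show Data.jsM7_1.length = 250 by rfl]; exact hf)
  replace b : ∀ f < 11250, certM.Valid el τ σ o f :=
    fun f hf => chunk_valid S R certM ho hr _ 11000 chkM7_2 b f
      (by rw [show Data.jsM7_2.length = 250 by rfl]; exact hf)
  replace b : ∀ f < 11500, certM.Valid el τ σ o f :=
    fun f hf => chunk_valid S R certM ho hr _ 11250 chkM7_3 b f
      (by rw [show Data.jsM7_3.length = 250 by rfl]; exact hf)
  replace b : ∀ f < 11750, certM.Valid el τ σ o f :=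
    fun f hf => chunk_valid S R certM ho hr _ 11500 chkM7_4 b f
      (by rw [show Data.jsM7_4.length = 250 by rfl]; exact hf)
  replace b : ∀ f < 12000, certM.Valid el τ σ o f :=
    fun f hf => chunk_valid S R certM ho hr _ 11750 chkM7_5 b f
      (by rw [show Data.jsM7_5.length = 250 by rfl]; exact hf)
  replace b : ∀ f < 12250, certM.Valid el τ σ o f :=
    fun f hf => chunk_valid S R certM ho hr _ 12000 chkM8_0 b f
      (by rw [show Data.jsM8_0.length = 250 by rfl]; exact hf)
  replace b : ∀ f < 12500, certM.Valid el τ σ o f :=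
    fun f hf => chunk_valid S R certM ho hr _ 12250 chkM8_1 b f
      (by rw [show Data.jsM8_1.length = 250 by rfl]; exact hf)
  replace b : ∀ f < 12750, certM.Valid el τ σ o f :=
    fun f hf => chunk_valid S R certM ho hr _ 12500 chkM8_2 b f
      (by rw [show Data.jsM8_2.length = 250 by rfl]; exact hf)
  replace b : ∀ f < 13000, certM.Valid el τ σ o f :=
    fun f hf => chunk_valid S R certM ho hr _ 12750 chkM8_3 b f
      (by rw [show Data.jsM8_3.length = 250 by rfl]; exact hf)
  replace b : ∀ f < 13007, certM.Valid el τ σ o f :=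
    fun f hf => chunk_valid S R certM ho hr _ 13000 chkM8_4 b f
      (by rw [show Data.jsM8_4.length = 7 by rfl]; exact hf)
  exact b

/-- The representatives at a live point. -/
def rsM (j : ℕ) : List ℕ := digs (Data.cosV.getD (Data.liveV.idxOf j) 0)

theorem live_all : ∀ j ∈ Data.liveV, ∃ st et es,
    certM.liveB 13007 Data.liveV Data.repT Data.repS j st (rsM j) et es = true := by
  intro j hj
  have hk : Data.liveV.idxOf j < 27 := List.idxOf_lt_length_iff.2 hj
  have hget : Data.liveV.getD (Data.liveV.idxOf j) 0 = j := by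
    rw [List.getD_eq_getElem _ _ (List.idxOf_lt_length_iff.2 hj), List.getElem_idxOf]
  rw [rsM]
  generalize Data.liveV.idxOf j = k at hk hget ⊢
  subst hget
  interval_cases k
  exacts [⟨_, _, _, live0⟩, ⟨_, _, _, live1⟩, ⟨_, _, _, live2⟩, ⟨_, _, _, live3⟩, ⟨_, _, _, live4⟩, ⟨_, _, _, live5⟩, ⟨_, _, _, live6⟩, ⟨_, _, _, live7⟩, ⟨_, _, _, live8⟩, ⟨_, _, _, live9⟩, ⟨_, _, _, live10⟩, ⟨_, _, _, live11⟩, ⟨_, _, _, live12⟩, ⟨_, _, _, live13⟩, ⟨_, _, _, live14⟩, ⟨_, _, _, live15⟩, ⟨_, _, _, live16⟩, ⟨_, _, _, live17⟩, ⟨_, _, _, live18⟩, ⟨_, _, _, live19⟩, ⟨_, _, _, live20⟩, ⟨_, _, _, live21⟩, ⟨_, _, _, live22⟩, ⟨_, _, _, live23⟩, ⟨_, _, _, live24⟩, ⟨_, _, _, live25⟩, ⟨_, _, _, live26⟩]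

theorem sum_rsM : (Data.liveV.map fun j => (rsM j).length).sum = 26163 := by decide +kernel

theorem dom_checks : Data.domT.all (fun u => Nat.blt u 1920 && Nat.blt (tauN u) 1920) = true ∧
    Data.domS.all (fun u => Nat.blt u 1920 && Nat.blt (sigN u) 1920) = true ∧
    Dce.maskP Data.domT Data.repT = 2 ^ 1920 - 1 ∧ Dce.maskP Data.domS Data.repS = 2 ^ 1920 - 1 := by
  refine ⟨?_, ?_, ?_, ?_⟩ <;> decide +kernel

/-- The generated subgroup has order at most `50232960`. -/
theorem card_le (S : Sys el τ σ) (hrel : ∀ w ∈ Data.relsM, wv el τ σ w = 1) :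
    (closure (el '' {u | u < 1920} ∪ {τ, σ}) : Set Γ).Finite ∧
      Nat.card ↥(closure (el '' {u | u < 1920} ∪ {τ, σ})) ≤ 50232960 := by
  classical
  set D : Subgroup Γ := closure (el '' {u | u < 1920} ∪ {τ, σ})
  set K : Subgroup Γ := closure (el '' {u | u < 1920}) with hKdef
  have hK : ∀ x ∈ K, ∃ u, u < 1920 ∧ el u = x := by
    intro x hx
    induction hx using closure_induction with
    | mem x hx => exact hx
    | one => exact ⟨0, by norm_num, S.one⟩
    | mul x y _ _ ihx ihy =>
      obtain ⟨a, ha, rfl⟩ := ihx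
      obtain ⟨b, hb, rfl⟩ := ihy
      exact ⟨_, range_nums.mul a b ha hb, S.mul a b ha hb⟩
    | inv x _ ih =>
      obtain ⟨a, ha, rfl⟩ := ih
      exact ⟨_, range_nums.inv a ha, S.inv a ha⟩
  have ho : ∀ u, u < 1920 → el u • (QuotientGroup.mk 1 : Γ ⧸ K) = QuotientGroup.mk 1 := by
    intro u hu
    rw [MulAction.Quotient.smul_mk, QuotientGroup.eq, smul_eq_mul, mul_one, mul_one]
    exact inv_mem (subset_closure ⟨u, hu, rfl⟩)
  obtain ⟨hT, hS, hTm, hSm⟩ := dom_checks
  obtain ⟨P, hP, hoP, hcl⟩ := exists_closed S range_nums certM (valid_factsM S hrel ho)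
    Data.liveV Data.repT Data.repS Data.domT Data.domS rsM hT hS hTm hSm (by decide +kernel) live_all
  rw [sum_rsM] at hP
  have hmove : ∀ d ∈ D, ∀ p ∈ P, d • p ∈ P := by
    intro d hd
    induction hd using closure_induction with
    | mem x hx =>
      rcases hx with ⟨u, hu, rfl⟩ | hx
      · exact fun p hp => (hcl p hp).2.2 u hu
      · rcases hx with rfl | rfl
        exacts [fun p hp => (hcl p hp).1, fun p hp => (hcl p hp).2.1]
    | one => exact fun p hp => by rwa [one_smul]
    | mul x y _ _ ihx ihy => exact fun p hp => by rw [mul_smul]; exact ihx _ (ihy p hp)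
    | inv x _ ih =>
      intro p hp
      have he : P.image (x • ·) = P := by
        refine Finset.eq_of_subset_of_card_le (Finset.image_subset_iff.2 ih) ?_
        rw [Finset.card_image_of_injective _ (MulAction.injective x)]
      rw [← he, Finset.mem_image] at hp
      obtain ⟨q, hq, rfl⟩ := hp
      rwa [inv_smul_smul]
  set T : Finset Γ := (P ×ˢ Finset.range 1920).image fun pu => pu.1.out * el pu.2
  have hsub : (D : Set Γ) ⊆ (T : Set Γ) := by
    intro d hd
    have hdp := hmove d hd _ hoP
    rw [MulAction.Quotient.smul_mk, smul_eq_mul, mul_one] at hdp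
    obtain ⟨k, hk⟩ := QuotientGroup.mk_out_eq_mul K d
    obtain ⟨u, hu, he⟩ := hK _ (inv_mem k.2)
    refine Finset.mem_coe.2 (Finset.mem_image.2 ⟨(_, u), Finset.mem_product.2 ⟨hdp, Finset.mem_range.2 hu⟩, ?_⟩)
    show (QuotientGroup.mk d : Γ ⧸ K).out * el u = d
    rw [hk, he, mul_assoc, mul_inv_cancel, mul_one]
  have hT' : T.card ≤ 50232960 := by
    refine Finset.card_image_le.trans ?_
    rw [Finset.card_product, Finset.card_range]
    exact (Nat.mul_le_mul_right 1920 hP).trans (by norm_num)
  refine ⟨T.finite_toSet.subset hsub, ?_⟩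
  refine le_trans ?_ hT'
  rw [← Nat.card_eq_finsetCard]
  exact Nat.card_mono T.finite_toSet hsub

end CfsgLib.JThreeUniq
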