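import Cfsg.Agent.Lib.JThreeUniq.Elt
import Cfsg.Agent.Lib.JThreeUniq.Data.NormV

/-!
A group with one class of involutions and coordinates on the centralizer of an involution.
-/

set_option autoImplicit false
set_option maxRecDepth 100000

namespace CfsgLib.JThreeUniq

open CfsgLib.JTwoUniq CfsgLib.JTwoUniq.Coset Subgroup

/-- Conjugation of numbers. -/
def cjN (g x : ℕ) : ℕ := mulN (mulN g x) (invN g)

/-- The entries of a list of triples. -/
def tripleB : List ℕ → ℕ → Bool
  | R :: k :: g :: r, S => ((R == S) && Nat.blt g 1920 && (if k == 0 then cjN g 2 == S else cjN g Data.outU == S)) ||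
      tripleB r S
  | _, _ => false

theorem invol_checks : (List.range 1920).all (fun R =>
      Nat.blt R 2 || !(mulN R R == 0) || tripleB Data.invols R) = true ∧
    ((List.range 1920).filter fun a => mulN a 2 == mulN 2 a) = Data.domV ∧
    ((List.range 1920).filter fun a => mulN a Data.outU == mulN Data.outU a).length = 16 ∧
    Data.domV.length = 192 ∧ Data.genN.getD 0 0 = 1 ∧ Data.genN.getD 1 0 = 2 ∧
    (List.range 1920).all (fun a => mulN 1 a == mulN a 1) = true := by
  refine ⟨?_, ?_, ?_, ?_, ?_, ?_, ?_⟩ <;> decide +kernel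

theorem tripleB_spec : ∀ (l : List ℕ) (S : ℕ), tripleB l S = true →
    ∃ g < 1920, cjN g 2 = S ∨ cjN g Data.outU = S
  | R :: k :: g :: r, S, h => by
    simp only [tripleB, Bool.or_eq_true, Bool.and_eq_true, Nat.blt_eq, beq_iff_eq] at h
    rcases h with ⟨⟨-, hg⟩, hc⟩ | h
    · split_ifs at hc
      exacts [⟨g, hg, Or.inl (beq_iff_eq.1 hc)⟩, ⟨g, hg, Or.inr (beq_iff_eq.1 hc)⟩]
    · exact tripleB_spec r S h
  | [], S, h => by simp [tripleB] at h
  | [_], S, h => by simp [tripleB] at h
  | [_, _], S, h => by simp [tripleB] at h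

theorem cjN_lt {g x : ℕ} (hg : g < 1920) (hx : x < 1920) : cjN g x < 1920 :=
  range_nums.mul _ _ (range_nums.mul _ _ hg hx) (range_nums.inv _ hg)

theorem card_conj_cent {G : Type*} [Group G] (g a b : G) :
    Nat.card ↥(centralizer ({g * a * g⁻¹} : Set G) ⊓ centralizer ({g * b * g⁻¹} : Set G)) =
      Nat.card ↥(centralizer ({a} : Set G) ⊓ centralizer ({b} : Set G)) := by
  have key : ∀ x a : G, g * x * g⁻¹ ∈ centralizer ({g * a * g⁻¹} : Set G) ↔ x ∈ centralizer ({a} : Set G) := by
    intro x a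
    rw [mem_centralizer_singleton_iff, mem_centralizer_singleton_iff,
      show g * x * g⁻¹ * (g * a * g⁻¹) = g * (x * a) * g⁻¹ by group,
      show g * a * g⁻¹ * (g * x * g⁻¹) = g * (a * x) * g⁻¹ by group]
    exact ⟨fun h => mul_left_cancel (mul_right_cancel h), fun h => by rw [h]⟩
  refine Nat.card_congr ((MulAut.conj g⁻¹).toEquiv.subtypeEquiv fun x => ?_)
  show x ∈ _ ↔ g⁻¹ * x * g⁻¹⁻¹ ∈ _
  simp only [mem_inf]
  rw [← key (g⁻¹ * x * g⁻¹⁻¹) a, ← key (g⁻¹ * x * g⁻¹⁻¹) b,
    show g * (g⁻¹ * x * g⁻¹⁻¹) * g⁻¹ = x by group]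

/-- The setting. -/
structure Ctx {G : Type*} [Group G] (z : G) (f : ℕ → G) : Prop where
  rel : ∀ w ∈ JTwoUniq.Data.relC, ev f w = 1
  f0 : f 0 = z
  gen : closure (f '' {i | i < 10}) = centralizer ({z} : Set G)
  hH : Nat.card (centralizer ({z} : Set G)) = 1920
  hone : ∀ x y : G, orderOf x = 2 → orderOf y = 2 → IsConj x y

namespace Ctx

variable {G : Type*} [Group G] {z : G} {f : ℕ → G} (c : Ctx z f)
include c

theorem surj {x : G} (hx : x ∈ centralizer ({z} : Set G)) : ∃ a < 1920, el f a = x :=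
  el_surj c.rel (by rwa [c.gen])

theorem mem {a : ℕ} (ha : a < 1920) : el f a ∈ centralizer ({z} : Set G) :=
  c.gen ▸ el_mem ha

theorem inj {a b : ℕ} (ha : a < 1920) (hb : b < 1920) (h : el f a = el f b) : a = b :=
  el_inj c.rel (by rw [c.gen, c.hH]) ha hb h

theorem mul {a b : ℕ} (ha : a < 1920) (hb : b < 1920) : el f (mulN a b) = el f a * el f b :=
  el_mul c.rel ha hb

theorem one : el f 0 = 1 := el_one c.rel

theorem cj {g x : ℕ} (hg : g < 1920) (hx : x < 1920) : el f (cjN g x) = el f g * el f x * (el f g)⁻¹ := by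
  rw [cjN, c.mul (range_nums.mul _ _ hg hx) (range_nums.inv _ hg), c.mul hg hx, el_inv c.rel hg]

theorem el1 : el f 1 = z := by
  have h := el_gen c.rel (show 0 < 10 by norm_num)
  rwa [invol_checks.2.2.2.2.1, c.f0] at h

theorem el2 : el f 2 = f 1 := by
  have h := el_gen c.rel (show 1 < 10 by norm_num)
  rwa [invol_checks.2.2.2.2.2.1] at h

theorem comm_iff {a b : ℕ} (ha : a < 1920) (hb : b < 1920) :
    el f a * el f b = el f b * el f a ↔ mulN a b = mulN b a := by
  rw [← c.mul ha hb, ← c.mul hb ha]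
  exact ⟨c.inj (range_nums.mul _ _ ha hb) (range_nums.mul _ _ hb ha), fun h => congrArg _ h⟩

theorem order_two {a : ℕ} (ha : a < 1920) (h : mulN a a = 0) (h0 : a ≠ 0) : orderOf (el f a) = 2 := by
  refine orderOf_eq_prime ?_ fun e => h0 (c.inj ha (by norm_num) (e.trans c.one.symm))
  rw [pow_two, ← c.mul ha ha, h, c.one]

/-- The centralizer in `C(z)` of an element with number `R`. -/
theorem card_cent {R n : ℕ} (hR : R < 1920)
    (h : ((List.range 1920).filter fun a => mulN a R == mulN R a).length = n) :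
    Nat.card ↥(centralizer ({z} : Set G) ⊓ centralizer ({el f R} : Set G)) = n := by
  classical
  set l := (List.range 1920).filter fun a => mulN a R == mulN R a with hl
  have hnd : l.Nodup := List.nodup_range.filter _
  let φ : l.toFinset → ↥(centralizer ({z} : Set G) ⊓ centralizer ({el f R} : Set G)) := fun a =>
    ⟨el f a.1, by
      obtain ⟨h1, h2⟩ := List.mem_filter.1 (List.mem_toFinset.1 a.2)
      rw [List.mem_range] at h1
      refine mem_inf.2 ⟨c.mem h1, mem_centralizer_singleton_iff.2 ((c.comm_iff h1 hR).2 (beq_iff_eq.1 h2))⟩⟩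
  have hb : Function.Bijective φ := by
    refine ⟨fun a b e => Subtype.ext (c.inj ?_ ?_ (congrArg Subtype.val e)), fun x => ?_⟩
    · exact List.mem_range.1 (List.mem_filter.1 (List.mem_toFinset.1 a.2)).1
    · exact List.mem_range.1 (List.mem_filter.1 (List.mem_toFinset.1 b.2)).1
    · obtain ⟨h1, h2⟩ := mem_inf.1 x.2
      obtain ⟨a, ha, e⟩ := c.surj h1
      rw [mem_centralizer_singleton_iff, ← e, c.comm_iff ha hR] at h2
      exact ⟨⟨a, List.mem_toFinset.2 (List.mem_filter.2 ⟨List.mem_range.2 ha, beq_iff_eq.2 h2⟩)⟩, Subtype.ext e⟩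
  rw [← Nat.card_congr (Equiv.ofBijective φ hb), Nat.card_eq_fintype_card, Fintype.card_coe,
    List.toFinset_card_of_nodup hnd, h]

/-- An involution swapped with `z`: after a conjugation in `C(z)` it is the chosen one of its class. -/
theorem exists_swap {R : ℕ} (hR : R < 1920) (hR0 : R ≠ 0) (hR1 : R ≠ 1) (hR2 : mulN R R = 0) {n : ℕ}
    (hn : ((List.range 1920).filter fun a => mulN a R == mulN R a).length = n)
    (hR' : (R = 2 ∧ n = 192) ∨ (R = Data.outU ∧ n = 16)) :
    ∃ g : G, g * el f R * g⁻¹ = z ∧ g * z * g⁻¹ = el f R := by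
  obtain ⟨g, hg⟩ := isConj_iff.1 (c.hone (el f R) z (c.order_two hR hR2 hR0)
    (by rw [← c.el1]; exact c.order_two (by norm_num) (by decide +kernel) one_ne_zero))
  set y := g * z * g⁻¹ with hy
  have hyC : y ∈ centralizer ({z} : Set G) := by
    rw [mem_centralizer_singleton_iff]
    conv_lhs => arg 2; rw [← hg]
    conv_rhs => arg 1; rw [← hg]
    rw [hy, show g * z * g⁻¹ * (g * el f R * g⁻¹) = g * (z * el f R) * g⁻¹ by group,
      show g * el f R * g⁻¹ * (g * z * g⁻¹) = g * (el f R * z) * g⁻¹ by group,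
      mem_centralizer_singleton_iff.1 (c.mem hR)]
  obtain ⟨S, hS, eS⟩ := c.surj hyC
  have hcard : Nat.card ↥(centralizer ({z} : Set G) ⊓ centralizer ({el f S} : Set G)) = n := by
    rw [← c.card_cent hR hn, eS, hy]
    conv_lhs => arg 1; rw [show centralizer ({z} : Set G) = centralizer {g * el f R * g⁻¹} by rw [hg]]
    rw [card_conj_cent, inf_comm]
  have hS01 : ¬ S < 2 := by
    intro h
    interval_cases S
    · rw [c.one, hy] at eS
      have : orderOf z = 1 := by
        rw [show z = 1 from conj_eq_one_iff.1 eS.symm, orderOf_one]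
      rw [← c.el1, c.order_two (by norm_num) (by decide +kernel) one_ne_zero] at this
      omega
    · refine hR1 (c.inj hR (by norm_num) ?_)
      rw [c.el1] at eS ⊢
      have := hg.trans (eS.trans hy)
      exact mul_left_cancel (mul_right_cancel this)
  have hS2 : mulN S S = 0 := c.inj (range_nums.mul _ _ hS hS) (by norm_num) (by
    rw [c.mul hS hS, c.one, eS, hy, show g * z * g⁻¹ * (g * z * g⁻¹) = g * (z * z) * g⁻¹ by group, ← c.el1,
      ← c.mul (by norm_num) (by norm_num), show mulN 1 1 = 0 by decide +kernel, c.one, mul_one, mul_inv_cancel])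
  have hl := List.all_eq_true.1 invol_checks.1 S (List.mem_range.2 hS)
  simp only [Bool.or_eq_true, Nat.blt_eq, Bool.not_eq_true', beq_eq_false_iff_ne, ne_eq] at hl
  obtain ⟨d, hd, hc⟩ := tripleB_spec _ _ ((hl.resolve_left (by simp [hS01, hS2])))
  have hcc : ∀ T, T < 1920 → cjN d T = S →
      Nat.card ↥(centralizer ({z} : Set G) ⊓ centralizer ({el f T} : Set G)) = n := by
    intro T hT e
    rw [← hcard, ← e, c.cj hd hT]
    conv_rhs => arg 1; rw [show centralizer ({z} : Set G) = centralizer {el f d * z * (el f d)⁻¹} by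
      rw [mem_centralizer_singleton_iff.1 (c.mem hd), mul_inv_cancel_right]]
    rw [card_conj_cent]
  have h2x : ((List.range 1920).filter fun a => mulN a 2 == mulN 2 a).length = 192 := by
    rw [invol_checks.2.1]; exact invol_checks.2.2.2.1
  have hRS : ∃ T, T = R ∧ cjN d T = S := by
    rcases hR' with ⟨rfl, rfl⟩ | ⟨rfl, rfl⟩ <;> rcases hc with hc | hc
    · exact ⟨2, rfl, hc⟩
    · have := (c.card_cent (by decide +kernel) invol_checks.2.2.1).symm.trans (hcc _ (by decide +kernel) hc)
      omega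
    · have := (c.card_cent (by norm_num) h2x).symm.trans (hcc _ (by norm_num) hc)
      omega
    · exact ⟨_, rfl, hc⟩
  obtain ⟨T, rfl, e⟩ := hRS
  refine ⟨(el f d)⁻¹ * g, ?_, ?_⟩
  · rw [show (el f d)⁻¹ * g * el f T * ((el f d)⁻¹ * g)⁻¹ = (el f d)⁻¹ * (g * el f T * g⁻¹) * el f d by group, hg,
      mul_assoc, ← mem_centralizer_singleton_iff.1 (c.mem hd), inv_mul_cancel_left]
  · rw [show (el f d)⁻¹ * g * z * ((el f d)⁻¹ * g)⁻¹ = (el f d)⁻¹ * (g * z * g⁻¹) * el f d by group, ← hy, ← eS,
      ← e, c.cj hd hR]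
    group

end Ctx

end CfsgLib.JThreeUniq
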