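import Cfsg.Agent.Lib.JThreeUniq.Dce

/-!
# Soundness of certificates for double coset enumerations
-/

set_option autoImplicit false

namespace CfsgLib.JThreeUniq

variable {Γ : Type*} [Group Γ] {el : ℕ → Γ} {τ σ : Γ}

theorem wv_nil : wv el τ σ [] = 1 := rfl

theorem wv_cons (u : ℕ) (w : List ℕ) : wv el τ σ (u :: w) = lv el τ σ u * wv el τ σ w := by simp [wv]

theorem wv_append (v w : List ℕ) : wv el τ σ (v ++ w) = wv el τ σ v * wv el τ σ w := by simp [wv]

theorem lv_el {u : ℕ} (h : u < 1920) : lv el τ σ u = el u := by simp [lv, h]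

theorem Sys.lv_linv (S : Sys el τ σ) (u : ℕ) (hu : u < 1920 → invN u < 1920) :
    lv el τ σ (linv u) = (lv el τ σ u)⁻¹ := by
  unfold linv
  simp only [Nat.blt_eq, beq_iff_eq]
  split_ifs with h1 h2 h3
  · rw [lv_el h1, lv_el (hu h1), S.inv u h1]
  · subst h2; simp [lv]
  · subst h3; simp [lv]
  · simp [lv, h1, h2, h3, inv_eq_of_mul_eq_one_right S.sq]

/-- Products of numbers below 1920 stay below. -/
structure Range : Prop where
  mul : ∀ a b, a < 1920 → b < 1920 → mulN a b < 1920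
  inv : ∀ a, a < 1920 → invN a < 1920

variable (S : Sys el τ σ) (R : Range)
include S R

theorem push_value : ∀ (u : ℕ) (w : List ℕ), wv el τ σ (push u w) = lv el τ σ u * wv el τ σ w := by
  intro u w
  rcases w with _ | ⟨v, r⟩
  · unfold push
    simp only [beq_iff_eq]
    split_ifs with h
    · subst h; rw [lv_el (by norm_num), S.one, one_mul]
    · rw [wv_cons]
  · unfold push
    simp only [beq_iff_eq, Bool.and_eq_true, Nat.blt_eq, Nat.ble_eq, force_eq]
    split_ifs with h0 h1 hp h2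
    · subst h0; rw [lv_el (by norm_num), S.one, one_mul]
    · rw [wv_cons, ← mul_assoc, lv_el h1.1, lv_el h1.2, ← S.mul u v h1.1 h1.2, hp, S.one, one_mul]
    · rw [wv_cons, wv_cons, ← mul_assoc, lv_el h1.1, lv_el h1.2, ← S.mul u v h1.1 h1.2,
        lv_el (R.mul u v h1.1 h1.2)]
    · rw [wv_cons, ← h2.2, S.lv_linv u fun h => R.inv u h, mul_inv_cancel_left]
    · rw [wv_cons]

theorem nf_value : ∀ w : List ℕ, wv el τ σ (nf w) = wv el τ σ w
  | [] => rfl
  | u :: w => by rw [nf, push_value S R, nf_value w, wv_cons]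

theorem wv_inverse (w : List ℕ) : wv el τ σ (w.reverse.map linv) = (wv el τ σ w)⁻¹ := by
  induction w with
  | nil => simp [wv]
  | cons u w ih =>
    rw [List.reverse_cons, List.map_append, wv_append, ih, wv_cons, List.map_cons, List.map_nil, wv_cons, wv_nil,
      mul_one, S.lv_linv u fun h => R.inv u h, mul_inv_rev]

omit R in
theorem autN_value {g u : ℕ} (hg : g < 4) (hu : u < 1920) (h : Dce.autN g u < 1920) :
    Dce.gval el τ σ g * el u = el (Dce.autN g u) * Dce.gval el τ σ g := by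
  unfold Dce.autN at h ⊢
  simp only [beq_iff_eq] at h ⊢
  interval_cases g <;>
    simp only [↓reduceIte, reduceCtorEq, OfNat.ofNat_ne_zero, OfNat.ofNat_eq_ofNat, one_ne_zero] at h ⊢
  · simp [Dce.gval, gword, wv]
  · simpa [Dce.gval, gword, wv, lv] using S.tau u hu h
  · simpa [Dce.gval, gword, wv, lv] using S.tai u hu h
  · simpa [Dce.gval, gword, wv, lv] using S.sig u hu h

omit R in
theorem ginv_value {g : ℕ} (hg : g < 4) : Dce.gval el τ σ (Dce.ginv g) = (Dce.gval el τ σ g)⁻¹ := by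
  interval_cases g <;> simp [Dce.ginv, Dce.gval, gword, wv, lv, inv_eq_of_mul_eq_one_right S.sq]

variable {X : Type*} [MulAction Γ X]

theorem step_value {g e e' x : ℕ} {w : List ℕ} {cont : ℕ → List ℕ → Bool} {a b p : X} (hg : g < 4)
    (he : e < 1920) (hx : x < 1920) (he' : e' < 1920)
    (hf : Dce.gval el τ σ g • el e • a = el e' • b)
    (hp : wv el τ σ w • p = el x • a) (h : Dce.stepB g e e' x w cont = true) :
    ∃ x' w', x' < 1920 ∧ wv el τ σ w' • p = el x' • b ∧ cont x' w' = true := by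
  simp only [Dce.stepB, force_eq, Bool.and_eq_true, Nat.blt_eq] at h
  obtain ⟨hu, hu', hx', hc⟩ := h
  refine ⟨_, _, hx', ?_, hc⟩
  have key : Dce.gval el τ σ g • el x • a = el (mulN (Dce.autN g (mulN x (invN e))) e') • b := by
    rw [S.mul _ _ hu' he', mul_smul, ← hf, ← mul_smul, ← mul_smul, ← autN_value S hg hu hu',
      S.mul _ _ hx (R.inv e he), S.inv e he, ← mul_smul]
    group
  rw [← key]
  simp only [beq_iff_eq]
  split_ifs with h0
  · subst h0; simp [Dce.gval, gword, wv] at hp ⊢; exact hp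
  · rw [wv_cons, mul_smul, hp]
    congr 1
    simp [Dce.gval, gword, wv, h0]

variable (c : Dce) {o : X} (ho : ∀ u, u < 1920 → el u • o = o)
  (hrel : ∀ w ∈ c.rels, wv el τ σ w = 1)

theorem run_value {k j d : ℕ} {exp : List ℕ} {p : X} (hk : ∀ f < k, c.Valid el τ σ o f) :
    ∀ (ms : List ℕ) (i x : ℕ) (w : List ℕ), x < 1920 → wv el τ σ w • p = el x • c.pt el τ σ o i →
      c.runB k j d exp ms i x w = true → wv el τ σ exp • p = el d • c.pt el τ σ o j
  | [], i, x, w, hx, hp, h => by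
    simp only [Dce.runB, Bool.and_eq_true, beq_iff_eq] at h
    obtain ⟨⟨rfl, rfl⟩, rfl⟩ := h
    rw [nf_value S R, hp]
  | m :: ms, i, x, w, hx, hp, h => by
    simp only [Dce.runB, force_eq, beq_iff_eq] at h
    split_ifs at h with h0 h1
    · simp only [Bool.and_eq_true, Nat.blt_eq] at h
      obtain ⟨hf, hx', hc⟩ := h
      refine run_value hk ms i _ _ hx' ?_ hc
      rw [wv_cons, mul_smul, hp, lv_el hf, S.mul _ _ hf hx, mul_smul]
    · simp only [Bool.and_eq_true, Nat.blt_eq, beq_iff_eq] at h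
      obtain ⟨⟨hf, rfl⟩, hc⟩ := h
      obtain ⟨hc1, hd1, hv⟩ := hk _ hf
      obtain ⟨x', w', hx', hp', hc'⟩ := step_value S R (Nat.mod_lt _ (by norm_num)) hc1 hx hd1 hv hp hc
      exact run_value hk ms _ x' w' hx' hp' hc'
    · simp only [Bool.and_eq_true, Nat.blt_eq, beq_iff_eq] at h
      obtain ⟨⟨hf, rfl⟩, hc⟩ := h
      obtain ⟨hc1, hd1, hv⟩ := hk _ hf
      have hg : c.fg (m / 4) < 4 := Nat.mod_lt _ (by norm_num)
      have hv' : Dce.gval el τ σ (Dce.ginv (c.fg (m / 4))) • el (c.fd (m / 4)) • c.pt el τ σ o (c.fj (m / 4)) =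
          el (c.fc (m / 4)) • c.pt el τ σ o (c.fi (m / 4)) := by
        rw [← hv, ginv_value S hg, inv_smul_smul]
      have hg' : Dce.ginv (c.fg (m / 4)) < 4 := by
        unfold Dce.ginv; split_ifs <;> omega
      obtain ⟨x', w', hx', hp', hc'⟩ := step_value S R hg' hd1 hx hc1 hv' hp hc
      exact run_value hk ms _ x' w' hx' hp' hc'

include hrel in
theorem expW_value {g rule a : ℕ} (h : c.ruleB g rule a = true) :
    wv el τ σ (c.expW g rule a) = Dce.gval el τ σ g := by
  unfold Dce.expW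
  simp only [Dce.ruleB, Bool.or_eq_true, Bool.and_eq_true, beq_iff_eq] at h
  by_cases h0 : rule = 0
  · rw [if_pos (beq_iff_eq.2 h0), nf_value S R]; rfl
  · rw [if_neg fun h' => h0 (beq_iff_eq.1 h')]
    obtain ⟨⟨hlen, ha⟩, hs⟩ := h.resolve_left h0
    rw [Nat.blt_eq] at hlen
    have hW : wv el τ σ (c.rels.getD ((rule - 1) / 2) []) = 1 := by
      rw [List.getD_eq_getElem _ _ hlen]; exact hrel _ (List.getElem_mem hlen)
    simp only
    generalize c.rels.getD ((rule - 1) / 2) [] = W at hs hW ha ⊢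
    rw [nf_value S R, wv_append, wv_inverse S R, wv_inverse S R]
    rw [← List.take_append_drop a W, wv_append] at hW
    have hi : (wv el τ σ (W.take a))⁻¹ = wv el τ σ (W.drop a) := inv_eq_of_mul_eq_one_right hW
    rw [hi]
    by_cases h2 : (rule - 1) % 2 = 0
    · rw [if_pos h2] at hs
      rw [beq_iff_eq] at hs
      simp [h2, hs, Dce.gval, gword, wv]
    · rw [if_neg h2] at hs
      simp only [Bool.and_eq_true, beq_iff_eq, Nat.blt_eq] at hs
      simp only [beq_iff_eq, h2, if_false]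
      rw [← List.take_append_drop 1 (W.drop a), wv_append, hs.1, List.drop_drop, mul_inv_cancel_right]
      rfl

include ho hrel in
theorem fact_valid {k : ℕ} {l : List ℕ} (h : c.factB k l = true) (hk : ∀ f < k, c.Valid el τ σ o f) :
    c.Valid el τ σ o k := by
  unfold Dce.factB at h
  split at h
  · simp only [Bool.and_eq_true, Nat.blt_eq, beq_iff_eq] at h
    obtain ⟨⟨⟨hd, hlt⟩, hc⟩, he⟩ := h
    refine ⟨hc, he, ?_⟩
    conv_rhs => rw [Dce.pt, dif_pos (by rw [hd]; exact hlt), hd, smul_inv_smul]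
  · simp only [Bool.and_eq_true, Nat.blt_eq, beq_iff_eq] at h
    obtain ⟨⟨⟨⟨⟨hg, hi⟩, hj⟩, -⟩, hc⟩, he⟩ := h
    refine ⟨hc, he, ?_⟩
    have h0 : c.pt el τ σ o 0 = o := by rw [Dce.pt, dif_neg (Nat.not_lt_zero _)]
    rw [hg, hi, hj, h0, ho _ hc, ho _ he]
    simp [Dce.gval, gword, wv]
  · rename_i r a ms _ _
    simp only [Bool.and_eq_true, Nat.blt_eq] at h
    obtain ⟨⟨⟨hc, he⟩, hr⟩, hrun⟩ := h
    refine ⟨hc, he, ?_⟩
    rw [← expW_value S R c hrel hr, ← mul_smul,
      ← run_value S R c (p := el (c.fc k) • c.pt el τ σ o (c.fi k)) hk ms _ _ [] hc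
        (by rw [wv_nil, one_smul]) hrun, mul_smul]
  · exact absurd h (by simp)

include ho hrel in
theorem chunk_valid : ∀ (xs : List ℕ) (base : ℕ), c.chunkB base xs = true →
    (∀ f < base, c.Valid el τ σ o f) → ∀ f < base + xs.length, c.Valid el τ σ o f
  | [], base, _, hb => by simpa using hb
  | x :: xs, base, h, hb => by
    simp only [Dce.chunkB, Bool.and_eq_true] at h
    have h1 := fact_valid S R c ho hrel h.1 hb
    intro f hf
    refine chunk_valid xs (base + 1) h.2 (fun f hf => ?_) f (by simp at hf ⊢; omega)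
    rcases Nat.lt_succ_iff_lt_or_eq.1 hf with h' | rfl
    exacts [hb f h', h1]

end CfsgLib.JThreeUniq
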