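import Cfsg.Agent.Lib.JTwoUniq.Model
import Cfsg.Agent.Lib.JThreeUniq.Range
import Cfsg.Agent.Lib.JThreeUniq.Data.Words
import Cfsg.Agent.Lib.JThreeUniq.Data.Codes

/-!
The elements of the centralizer as numbers: the dictionary for coordinates satisfying the presentation.
-/

set_option autoImplicit false
set_option maxRecDepth 100000

namespace CfsgLib.JThreeUniq

open CfsgLib.JTwoUniq CfsgLib.JTwoUniq.Coset

/-- The word of the central part. -/
def zW (a : ℕ) : List ℕ := if a % 2 == 1 then [0] else []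

/-- The word of a mask. -/
def qW (m : ℕ) : List ℕ :=
  (if m % 2 == 1 then [2] else []) ++ ((if m / 2 % 2 == 1 then [4] else []) ++
    ((if m / 4 % 2 == 1 then [6] else []) ++ (if m / 8 % 2 == 1 then [8] else [])))

/-- The word of a permutation. -/
def pW (p : ℕ) : List ℕ := Data.permW.getD p []

/-- The word of a number. -/
def eWord (e : ℕ) : List ℕ := zW e ++ (qW (e / 2 % 16) ++ pW (e / 32))

/-- The element of a number. -/
def el {Γ : Type*} [Group Γ] (f : ℕ → Γ) (e : ℕ) : Γ := ev f (eWord e)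

/-- The code of a permutation. -/
def pC (p : ℕ) : ℕ := Data.permC.getD p 0

/-- The code of a mask. -/
def qC (m : ℕ) : ℕ := Data.maskC.getD m 0

/-- The code of a signed mask. -/
def wC (w : ℕ) : ℕ := Data.quadC.getD w 0

theorem letter_checks : (List.range 60).all (fun p => (pW p).all fun l => Nat.blt l 20) = true ∧
    (List.range 16).all (fun m => (qW m).all fun l => Nat.blt l 20) = true ∧
    (List.range 10).all (fun i => pev [2 * i] == pev (eWord (Data.genN.getD i 0))) = true ∧
    (List.range 10).all (fun i => Nat.blt (Data.genN.getD i 0) 1920) = true ∧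
    (List.range 20).all (fun l => pev [0, l] == pev [l, 0]) = true ∧ pev [0, 0] = pev [] := by
  refine ⟨?_, ?_, ?_, ?_, ?_, ?_⟩ <;> decide +kernel

theorem code_checks : (List.range 60).all (fun p => pev (pW p) == pC p) = true ∧
    (List.range 16).all (fun m => pev (qW m) == qC m) = true ∧
    (List.range 32).all (fun w => pev (zW w ++ qW (w / 2)) == wC w) = true := by
  refine ⟨?_, ?_, ?_⟩ <;> decide +kernel

theorem twist_checks : (List.range 60).all (fun p => (List.range 16).all fun m =>
    Golay.PackPerm.mulP 32 (pC p) (qC m) ==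
      Golay.PackPerm.mulP 32 (wC (tget 5 Data.actT (p * 16 + m))) (pC p)) = true := by
  decide +kernel

theorem quad_checks : (List.range 16).all (fun m => (List.range 16).all fun n =>
    Golay.PackPerm.mulP 32 (qC m) (qC n) == wC (tget 5 Data.quadT (m * 16 + n))) = true := by
  decide +kernel

theorem perm_checks : (List.range 60).all (fun p => (List.range 60).all fun q =>
    Golay.PackPerm.mulP 32 (pC p) (pC q) == pC (tget 6 Data.permT (p * 60 + q))) = true := by
  decide +kernel

theorem inv_checks : (List.range 1920).all (fun a => mulN (invN a) a == 0) = true := by decide +kernel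

theorem tget_lt (w t i : ℕ) : tget w t i < 2 ^ w := Nat.mod_lt _ (Nat.two_pow_pos w)

attribute [local irreducible] tget

variable {Γ : Type*} [Group Γ] {f : ℕ → Γ} (hf : ∀ w ∈ JTwoUniq.Data.relC, ev f w = 1)

theorem zW_lt (a : ℕ) : ∀ l ∈ zW a, l < 20 := by
  intro l hl
  unfold zW at hl
  split_ifs at hl
  · rw [List.mem_singleton.1 hl]; norm_num
  · simp at hl

theorem qW_lt {m : ℕ} (hm : m < 16) : ∀ l ∈ qW m, l < 20 := by
  have h := List.all_eq_true.1 letter_checks.2.1 m (List.mem_range.2 hm)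
  simpa [List.all_eq_true, Nat.blt_eq] using h

theorem pW_lt {p : ℕ} (hp : p < 60) : ∀ l ∈ pW p, l < 20 := by
  have h := List.all_eq_true.1 letter_checks.1 p (List.mem_range.2 hp)
  simpa [List.all_eq_true, Nat.blt_eq] using h

theorem app_lt {v w : List ℕ} (hv : ∀ l ∈ v, l < 20) (hw : ∀ l ∈ w, l < 20) : ∀ l ∈ v ++ w, l < 20 :=
  fun l hl => (List.mem_append.1 hl).elim (hv l) (hw l)

theorem pC_eq {p : ℕ} (hp : p < 60) : pev (pW p) = pC p :=
  beq_iff_eq.1 (List.all_eq_true.1 code_checks.1 p (List.mem_range.2 hp))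

theorem qC_eq {m : ℕ} (hm : m < 16) : pev (qW m) = qC m :=
  beq_iff_eq.1 (List.all_eq_true.1 code_checks.2.1 m (List.mem_range.2 hm))

theorem wC_eq {w : ℕ} (hw : w < 32) : pev (zW w ++ qW (w / 2)) = wC w :=
  beq_iff_eq.1 (List.all_eq_true.1 code_checks.2.2 w (List.mem_range.2 hw))

theorem eWord_lt {e : ℕ} (he : e < 1920) : ∀ l ∈ eWord e, l < 20 :=
  app_lt (zW_lt e) (app_lt (qW_lt (Nat.mod_lt _ (by norm_num))) (pW_lt (by omega)))

theorem num_parts {x s v r : ℕ} (h : x = s % 2 + 2 * (v / 2) + 32 * r) (hv : v < 32) (hr : r < 60) :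
    x / 32 = r ∧ x / 2 % 16 = v / 2 ∧ x % 2 = s % 2 := by omega

include hf

theorem z_commute {w : List ℕ} (hw : ∀ l ∈ w, l < 20) : ev f [0] * ev f w = ev f w * ev f [0] := by
  induction w with
  | nil => simp [ev]
  | cons l w ih =>
    have hl := hw l List.mem_cons_self
    have h := List.all_eq_true.1 letter_checks.2.2.2.2.1 l (List.mem_range.2 hl)
    have e := transfer hf (v := [0, l]) (w := [l, 0]) (by simp [hl]) (by simp [hl]) (beq_iff_eq.1 h)
    rw [show [0, l] = [0] ++ [l] from rfl, show [l, 0] = [l] ++ [0] from rfl, ev_append, ev_append] at e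
    rw [show l :: w = [l] ++ w from rfl, ev_append, ← mul_assoc, e, mul_assoc,
      ih fun x hx => hw x (List.mem_cons_of_mem _ hx), mul_assoc]

theorem z_mul (a b : ℕ) : ev f (zW a) * ev f (zW b) = ev f (zW (a + b)) := by
  have hz : ev f [0] * ev f [0] = 1 := by
    rw [← ev_append, ← ev_nil (g := f)]
    exact transfer hf (by simp) (by simp) letter_checks.2.2.2.2.2
  rcases Nat.mod_two_eq_zero_or_one a with ha | ha <;> rcases Nat.mod_two_eq_zero_or_one b with hb | hb <;>
    simp [zW, Nat.add_mod, ha, hb, ev_nil, hz]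

theorem z_comm (a : ℕ) {w : List ℕ} (hw : ∀ l ∈ w, l < 20) : ev f (zW a) * ev f w = ev f w * ev f (zW a) := by
  unfold zW
  split_ifs
  · exact z_commute hf hw
  · simp [ev_nil]

theorem el_mul {a b : ℕ} (ha : a < 1920) (hb : b < 1920) : el f (mulN a b) = el f a * el f b := by
  set p := a / 32 with hp
  set m := a / 2 % 16 with hm
  set q := b / 32 with hq
  set n := b / 2 % 16 with hn
  set w := tget 5 Data.actT (p * 16 + n) with hw
  set v := tget 5 Data.quadT (m * 16 + w / 2) with hv
  set r := tget 6 Data.permT (p * 60 + q) with hr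
  have hp' : p < 60 := by omega
  have hq' : q < 60 := by omega
  have hm' : m < 16 := by omega
  have hn' : n < 16 := by omega
  have hw' : w < 32 := tget_lt 5 _ _
  have hv' : v < 32 := tget_lt 5 _ _
  have hr' : r < 60 := by
    simpa [Nat.blt_eq] using List.all_eq_true.1 perm_entries _ (List.mem_range.2 (show p * 60 + q < 3600 by omega))
  have he : mulN a b = (a + b + w + v) % 2 + 2 * (v / 2) + 32 * r := by
    rw [mulN, force_eq, force_eq]
  obtain ⟨d1, d2, d2'⟩ := num_parts he hv' hr'
  have d3 : zW (mulN a b) = zW (a + b + w + v) := by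
    unfold zW; rw [d2']
  have t1 : ev f (pW p) * ev f (qW n) = ev f (zW w) * ev f (qW (w / 2)) * ev f (pW p) := by
    have h := List.all_eq_true.1 (List.all_eq_true.1 twist_checks p (List.mem_range.2 hp')) n (List.mem_range.2 hn')
    rw [beq_iff_eq, ← hw, ← pC_eq hp', ← qC_eq hn', ← wC_eq hw', ← pev_app (pW_lt hp') (qW_lt hn'),
      ← pev_app (app_lt (zW_lt w) (qW_lt (by omega))) (pW_lt hp')] at h
    rw [← ev_append, ← ev_append, ← ev_append]
    exact transfer hf (app_lt (pW_lt hp') (qW_lt hn'))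
      (app_lt (app_lt (zW_lt w) (qW_lt (by omega))) (pW_lt hp')) h
  have t2 : ev f (qW m) * ev f (qW (w / 2)) = ev f (zW v) * ev f (qW (v / 2)) := by
    have h := List.all_eq_true.1 (List.all_eq_true.1 quad_checks m (List.mem_range.2 hm')) (w / 2)
      (List.mem_range.2 (by omega))
    rw [beq_iff_eq, ← hv, ← qC_eq hm', ← qC_eq (show w / 2 < 16 by omega), ← wC_eq hv',
      ← pev_app (qW_lt hm') (qW_lt (show w / 2 < 16 by omega))] at h
    rw [← ev_append, ← ev_append]
    exact transfer hf (app_lt (qW_lt hm') (qW_lt (by omega))) (app_lt (zW_lt v) (qW_lt (by omega))) h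
  have t3 : ev f (pW p) * ev f (pW q) = ev f (pW r) := by
    have h := List.all_eq_true.1 (List.all_eq_true.1 perm_checks p (List.mem_range.2 hp')) q (List.mem_range.2 hq')
    rw [beq_iff_eq, ← hr, ← pC_eq hp', ← pC_eq hq', ← pC_eq hr', ← pev_app (pW_lt hp') (pW_lt hq')] at h
    rw [← ev_append]
    exact transfer hf (app_lt (pW_lt hp') (pW_lt hq')) (pW_lt hr') h
  have cq : ∀ k {u : List ℕ}, (∀ l ∈ u, l < 20) → ev f u * ev f (zW k) = ev f (zW k) * ev f u :=
    fun k u hu => (z_comm hf k hu).symm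
  simp only [el, eWord, ev_append, d1, d2, d3, ← hp, ← hm, ← hq, ← hn]
  calc ev f (zW (a + b + w + v)) * (ev f (qW (v / 2)) * ev f (pW r))
      = ev f (zW a) * ev f (zW b) * ev f (zW w) * ev f (zW v) * (ev f (qW (v / 2)) * (ev f (pW p) * ev f (pW q))) := by
        rw [z_mul hf, z_mul hf, z_mul hf, t3]
    _ = ev f (zW a) * ev f (zW b) * ev f (zW w) * (ev f (qW m) * ev f (qW (w / 2))) * ev f (pW p) * ev f (pW q) := by
        rw [t2]; group
    _ = ev f (zW a) * ev f (zW b) * ev f (qW m) * (ev f (zW w) * ev f (qW (w / 2)) * ev f (pW p)) * ev f (pW q) := by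
        simp only [mul_assoc]
        rw [← mul_assoc (ev f (zW w)) (ev f (qW m)), z_comm hf w (qW_lt hm'), mul_assoc]
    _ = ev f (zW a) * ev f (zW b) * (ev f (qW m) * ev f (pW p)) * (ev f (qW n) * ev f (pW q)) := by
        rw [← t1]; group
    _ = ev f (zW a) * ((ev f (qW m) * ev f (pW p)) * ev f (zW b)) * (ev f (qW n) * ev f (pW q)) := by
        rw [← ev_append (qW m), cq b (app_lt (qW_lt hm') (pW_lt hp'))]; simp only [mul_assoc]
    _ = _ := by group

theorem el_one : el f 0 = 1 := by
  show ev f ([] ++ ([] ++ pW 0)) = 1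
  rfl

theorem el_inv {a : ℕ} (ha : a < 1920) : el f (invN a) = (el f a)⁻¹ := by
  refine eq_inv_of_mul_eq_one_left ?_
  rw [← el_mul hf (range_nums.inv a ha) ha,
    beq_iff_eq.1 (List.all_eq_true.1 inv_checks a (List.mem_range.2 ha)), el_one hf]

theorem el_gen {i : ℕ} (hi : i < 10) : el f (Data.genN.getD i 0) = f i := by
  rw [← ev_singleton f i]
  exact (transfer hf (by simp; omega) (eWord_lt (by
    simpa [Nat.blt_eq] using List.all_eq_true.1 letter_checks.2.2.2.1 i (List.mem_range.2 hi)))
    (beq_iff_eq.1 (List.all_eq_true.1 letter_checks.2.2.1 i (List.mem_range.2 hi)))).symm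

/-- The elements of the numbers form the subgroup generated by the coordinates. -/
theorem el_surj {x : Γ} (hx : x ∈ Subgroup.closure (f '' {i | i < 10})) : ∃ a < 1920, el f a = x := by
  induction hx using Subgroup.closure_induction with
  | mem x hx =>
    obtain ⟨i, hi, rfl⟩ := hx
    exact ⟨_, by simpa [Nat.blt_eq] using List.all_eq_true.1 letter_checks.2.2.2.1 i (List.mem_range.2 hi),
      el_gen hf hi⟩
  | one => exact ⟨0, by norm_num, el_one hf⟩
  | mul x y _ _ h1 h2 =>
    obtain ⟨a, ha, rfl⟩ := h1; obtain ⟨b, hb, rfl⟩ := h2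
    exact ⟨_, range_nums.mul a b ha hb, el_mul hf ha hb⟩
  | inv x _ h =>
    obtain ⟨a, ha, rfl⟩ := h
    exact ⟨_, range_nums.inv a ha, el_inv hf ha⟩

omit hf in
theorem el_mem {a : ℕ} (ha : a < 1920) : el f a ∈ Subgroup.closure (f '' {i | i < 10}) :=
  ev_mem fun l hl => Subgroup.subset_closure ⟨l / 2, by have := eWord_lt ha l hl; show l / 2 < 10; omega, rfl⟩

/-- When the coordinates generate a group of order 1920, the numbers are faithful. -/
theorem el_inj (hcard : Nat.card (Subgroup.closure (f '' {i | i < 10})) = 1920) {a b : ℕ} (ha : a < 1920)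
    (hb : b < 1920) (h : el f a = el f b) : a = b := by
  let φ : Fin 1920 → Subgroup.closure (f '' {i | i < 10}) := fun i => ⟨el f i, el_mem i.2⟩
  have hs : Function.Surjective φ := fun x => by
    obtain ⟨a, ha, e⟩ := el_surj hf x.2
    exact ⟨⟨a, ha⟩, Subtype.ext e⟩
  have : Finite (Subgroup.closure (f '' {i | i < 10})) := Finite.of_surjective φ hs
  have hi := ((Nat.bijective_iff_surjective_and_card φ).2 ⟨hs, by rw [Nat.card_fin, hcard]⟩).1
  exact congrArg Fin.val (hi (a₁ := ⟨a, ha⟩) (a₂ := ⟨b, hb⟩) (Subtype.ext h))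

end CfsgLib.JThreeUniq
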