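import Mathlib

/-!
Six points: an element of order three of a four-group normalizer is one of two products, up to the four-group.
-/

set_option autoImplicit false
set_option maxRecDepth 100000

namespace CfsgLib.JThreeUniq

open Equiv

/-- The code of a permutation of six points. -/
def cd6 (p : Perm (Fin 6)) : ℕ :=
  (p 0).val + 8 * (p 1).val + 64 * (p 2).val + 512 * (p 3).val + 4096 * (p 4).val + 32768 * (p 5).val

/-- A digit. -/
def dg6 (x i : ℕ) : ℕ := x / 8 ^ i % 8

/-- The product of codes. -/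
def cm6 (x y : ℕ) : ℕ :=
  dg6 x (dg6 y 0) + 8 * dg6 x (dg6 y 1) + 64 * dg6 x (dg6 y 2) + 512 * dg6 x (dg6 y 3) + 4096 * dg6 x (dg6 y 4) +
    32768 * dg6 x (dg6 y 5)

/-- The even permutations, as codes. -/
def even6 : List ℕ :=
  ((List.range 6).flatMap fun a => (List.range 6).flatMap fun b => (List.range 6).flatMap fun c =>
    (List.range 6).flatMap fun d => (List.range 6).flatMap fun e => (List.range 6).flatMap fun f =>
      if [a, b, c, d, e, f].Nodup ∧
          ((if b < a then 1 else 0) + (if c < a then 1 else 0) + (if d < a then 1 else 0) + (if e < a then 1 else 0) +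
            (if f < a then 1 else 0) + (if c < b then 1 else 0) + (if d < b then 1 else 0) + (if e < b then 1 else 0) +
            (if f < b then 1 else 0) + (if d < c then 1 else 0) + (if e < c then 1 else 0) + (if f < c then 1 else 0) +
            (if e < d then 1 else 0) + (if f < d then 1 else 0) + (if f < e then 1 else 0)) % 2 = 0
      then [a + 8 * b + 64 * c + 512 * d + 4096 * e + 32768 * f] else [])

/-- The chosen involution. -/
def u6 : Perm (Fin 6) := swap 0 1 * swap 2 3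

/-- The identity code. -/
def one6 : ℕ := cd6 1

/-- The test: an element in the coset of one of the two products. -/
def six6 (U v S E T : ℕ) : Bool :=
  let P := cm6 U v
  let F := cm6 P (cm6 S (cm6 E S))
  let F' := cm6 P (cm6 S (cm6 (cm6 E U) S))
  [one6, U, E, cm6 U E].any fun w => cm6 T w == F || cm6 F' (cm6 T w) == one6

theorem dg6_cd6 (p : Perm (Fin 6)) (i : Fin 6) : dg6 (cd6 p) i = (p i).val := by
  have h0 := (p 0).isLt; have h1 := (p 1).isLt; have h2 := (p 2).isLt
  have h3 := (p 3).isLt; have h4 := (p 4).isLt; have h5 := (p 5).isLt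
  unfold dg6 cd6
  fin_cases i <;> simp <;> omega

theorem cd6_inj : Function.Injective cd6 := fun p q h =>
  Equiv.ext fun i => Fin.ext (by rw [← dg6_cd6, ← dg6_cd6, h])

theorem cm6_cd6 (p q : Perm (Fin 6)) : cm6 (cd6 p) (cd6 q) = cd6 (p * q) := by
  have h : ∀ i : Fin 6, dg6 (cd6 p) (dg6 (cd6 q) i) = ((p * q) i).val := fun i => by
    rw [dg6_cd6, dg6_cd6, Perm.mul_apply]
  unfold cm6
  rw [show dg6 (cd6 p) (dg6 (cd6 q) 0) = _ from h 0, show dg6 (cd6 p) (dg6 (cd6 q) 1) = _ from h 1,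
    show dg6 (cd6 p) (dg6 (cd6 q) 2) = _ from h 2, show dg6 (cd6 p) (dg6 (cd6 q) 3) = _ from h 3,
    show dg6 (cd6 p) (dg6 (cd6 q) 4) = _ from h 4, show dg6 (cd6 p) (dg6 (cd6 q) 5) = _ from h 5]
  rfl

theorem mem_even6 : ∀ p : Perm (Fin 6), Perm.sign p = 1 → cd6 p ∈ even6 := by decide +kernel

theorem conj_u6 : ∀ p : Perm (Fin 6), Perm.sign p = 1 → p * p = 1 → p ≠ 1 →
    ∃ q : Perm (Fin 6), q * p * q⁻¹ = u6 := by decide +kernel

theorem six_checks : (even6.all fun v =>
    !(cm6 v v == one6 && !(v == one6) && !(v == cd6 u6) && cm6 v (cd6 u6) == cm6 (cd6 u6) v) ||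
    even6.all fun S =>
      !(cm6 S S == one6 &&
        (let a := cm6 S (cd6 u6); cm6 a (cm6 a a) == one6) &&
        (let a := cm6 S v; cm6 a (cm6 (cm6 a a) (cm6 a a)) == one6) &&
        (let a := cm6 S (cm6 (cd6 u6) v); cm6 a (cm6 (cm6 a a) (cm6 a a)) == one6)) ||
      even6.all fun E =>
        !(cm6 E E == one6 && cm6 E (cd6 u6) == cm6 (cd6 u6) E && cm6 E (cm6 v E) == cm6 (cd6 u6) v) ||
        even6.all fun T =>
          !(cm6 T (cd6 u6) == cm6 E T && cm6 T E == cm6 (cm6 (cd6 u6) E) T) || six6 (cd6 u6) v S E T) = true := by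
  decide +kernel

/-- The statement for permutations. -/
theorem six_main {U v S E T : Perm (Fin 6)} (sU : Perm.sign U = 1) (sv : Perm.sign v = 1) (sS : Perm.sign S = 1)
    (sE : Perm.sign E = 1) (sT : Perm.sign T = 1) (U2 : U * U = 1) (U1 : U ≠ 1) (v2 : v * v = 1) (v1 : v ≠ 1)
    (vU : v ≠ U) (vc : v * U = U * v) (S2 : S * S = 1) (SU : S * U * (S * U * (S * U)) = 1)
    (Sv : S * v * ((S * v * (S * v)) * (S * v * (S * v))) = 1)
    (Sw : S * (U * v) * ((S * (U * v) * (S * (U * v))) * (S * (U * v) * (S * (U * v)))) = 1) (E2 : E * E = 1)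
    (EU : E * U = U * E) (Ev : E * (v * E) = U * v) (T1 : T * U = E * T) (T2 : T * E = U * E * T) :
    ∃ w ∈ [1, U, E, U * E], T * w = U * v * (S * (E * S)) ∨ U * v * (S * (E * U * S)) * (T * w) = 1 := by
  obtain ⟨q, hq⟩ := conj_u6 U sU U2 U1
  let φ : Perm (Fin 6) →* Perm (Fin 6) := (MulAut.conj q).toMonoidHom
  have hφ : Function.Injective φ := (MulAut.conj q).injective
  have hU : φ U = u6 := hq
  have hs : ∀ x, Perm.sign (φ x) = Perm.sign x := fun x => by
    show Perm.sign (q * x * q⁻¹) = _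
    rw [map_mul, map_mul, map_inv, mul_comm (Perm.sign q), mul_inv_cancel_right]
  have hc : ∀ x y, cm6 (cd6 (φ x)) (cd6 (φ y)) = cd6 (φ (x * y)) := fun x y => by rw [cm6_cd6, map_mul]
  have h1 : one6 = cd6 (φ 1) := by rw [map_one]; rfl
  have heq : ∀ {x y}, (cd6 (φ x) == cd6 (φ y)) = true ↔ x = y := fun {x y} => by
    rw [beq_iff_eq]; exact ⟨fun h => hφ (cd6_inj h), fun h => by rw [h]⟩
  have hv := List.all_eq_true.1 six_checks _ (mem_even6 _ ((hs v).trans sv))
  simp only [← hU, h1, hc, heq, Bool.and_eq_true, Bool.or_eq_true, Bool.not_eq_true', Bool.and_eq_false_imp,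
    ← Bool.not_eq_true, v2, vc, true_and, and_true] at hv
  have hv' := hv.resolve_left (by simp [v1, vU])
  have hS := List.all_eq_true.1 hv' _ (mem_even6 _ ((hs S).trans sS))
  simp only [h1, hc, heq, Bool.and_eq_true, Bool.or_eq_true, Bool.not_eq_true', ← Bool.not_eq_true] at hS
  have hS' := hS.resolve_left (fun h => h ⟨⟨⟨S2, SU⟩, Sv⟩, Sw⟩)
  have hE := List.all_eq_true.1 hS' _ (mem_even6 _ ((hs E).trans sE))
  simp only [h1, hc, heq, Bool.and_eq_true, Bool.or_eq_true, Bool.not_eq_true', ← Bool.not_eq_true] at hE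
  have hE' := hE.resolve_left (fun h => h ⟨⟨E2, EU⟩, Ev⟩)
  have hT := List.all_eq_true.1 hE' _ (mem_even6 _ ((hs T).trans sT))
  simp only [h1, hc, heq, Bool.and_eq_true, Bool.or_eq_true, Bool.not_eq_true', ← Bool.not_eq_true, six6,
    List.any_cons, List.any_nil, Bool.false_eq_true, or_false] at hT
  have hT' := hT.resolve_left (fun h => h ⟨T1, T2⟩)
  rcases hT' with h | h | h | h
  · exact ⟨1, by simp, h⟩
  · exact ⟨U, by simp, h⟩
  · exact ⟨E, by simp, h⟩
  · exact ⟨U * E, by simp, h⟩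

end CfsgLib.JThreeUniq
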