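import Cfsg.Agent.Lib.JThreeUniq.OmegaQuot
import Cfsg.Agent.Lib.JThreeUniq.SixPoints
import Cfsg.Agent.Lib.JThreeUniq.Data.Six

/-!
One of the twenty-four candidates for the last relation holds.
-/

set_option autoImplicit false
set_option maxRecDepth 100000

namespace CfsgLib.JThreeUniq

open CfsgLib.JTwoUniq CfsgLib.JTwoUniq.Coset Subgroup

/-- The words of the four-group normalised by the element of order three. -/
def fourW : List (List ℕ) :=
  [[], [Data.numU.getD 0 0], Data.wordE, Data.numU.getD 0 0 :: Data.wordE]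

/-- The powers of the scalar element. -/
def powW : List (List ℕ) := [[], Data.wordOm, Data.wordOm ++ Data.wordOm]

theorem shape_variants : (fourW.all fun w => powW.all fun p =>
    Data.variants.contains (invL Data.wordF ++ Data.wordT ++ w ++ p) &&
      Data.variants.contains (Data.wordF1 ++ Data.wordT ++ w ++ p)) = true := by decide +kernel

theorem omega_ne_checks :
    [[], Data.wordOm, Data.wordOm ++ Data.wordOm].all (fun p =>
      [[Data.numU.getD 0 0], [Data.numU.getD 1 0], [Data.numU.getD 0 0, Data.numU.getD 1 0]].all fun v =>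
        !(repW v == repW p)) = true ∧
    repW [Data.numU.getD 1 0, Data.numU.getD 0 0] = repW [Data.numU.getD 0 0, Data.numU.getD 1 0] := by
  refine ⟨?_, ?_⟩ <;> decide +kernel

namespace Ctx

variable {G : Type*} [Group G] [Finite G] {z : G} {f : ℕ → G} {τ σ : G} (c : Ctx z f) (d : TauV f τ)
  (a : SigA f τ σ)
include c d a

/-- The last relation is one of the candidates. -/
theorem exists_variant : ∃ w ∈ Data.variants, wv (el f) τ σ w = 1 := by
  classical
  obtain ⟨h, E, T, o⟩ := c.exists_omegaData d a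
  have hl0 : Data.numU.getD 0 0 < 1920 := by decide +kernel
  have hl1 : Data.numU.getD 1 0 < 1920 := by decide +kernel
  have hl2 : Data.numU.getD 2 0 < 1920 := by decide +kernel
  set U := el f (Data.numU.getD 0 0) with hU
  set V := el f (Data.numU.getD 1 0) with hV
  set X := centralizer ({omG f τ} : Set G) with hX
  have mX : ∀ {x : G}, x * omG f τ = omG f τ * x → x ∈ X := fun h => mem_centralizer_singleton_iff.2 h
  obtain ⟨φ, hsign, hker⟩ : ∃ φ : X →* Equiv.Perm (Fin 6), (∀ x, Equiv.Perm.sign (φ x) = 1) ∧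
      ∀ x, φ x = 1 ↔ (x : G) = 1 ∨ (x : G) = omG f τ ∨ (x : G) = omG f τ * omG f τ := c.exists_six d a o
  set Uk : X := ⟨U, mX o.cU⟩ with hUk
  set Vk : X := ⟨V, mX o.cV⟩ with hVk
  set Sk : X := ⟨σ, mX o.cS⟩ with hSk
  set Ek : X := ⟨E, mX o.cE⟩ with hEk
  set Tk : X := ⟨T, mX o.cT⟩ with hTk
  have wU : wv (el f) τ σ [Data.numU.getD 0 0] = U := by rw [wv_cons, wv_nil, lv_el hl0, mul_one]
  have wV : wv (el f) τ σ [Data.numU.getD 1 0] = V := by rw [wv_cons, wv_nil, lv_el hl1, mul_one]
  have wUV : wv (el f) τ σ [Data.numU.getD 0 0, Data.numU.getD 1 0] = U * V := by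
    rw [wv_cons, wv_cons, wv_nil, lv_el hl0, lv_el hl1, mul_one]
  have hlet : ([Data.wordOm, Data.wordOm ++ Data.wordOm, [Data.numU.getD 0 0], [Data.numU.getD 1 0],
      [Data.numU.getD 0 0, Data.numU.getD 1 0], [Data.numU.getD 1 0, Data.numU.getD 0 0], ([] : List ℕ)].all
        fun w => w.all letA) = true := by decide +kernel
  rw [List.all_eq_true] at hlet
  have lOm := hlet Data.wordOm (by simp)
  have lOm2 := hlet (Data.wordOm ++ Data.wordOm) (by simp)
  have lU := hlet [Data.numU.getD 0 0] (by simp)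
  have lV := hlet [Data.numU.getD 1 0] (by simp)
  have lUV := hlet [Data.numU.getD 0 0, Data.numU.getD 1 0] (by simp)
  have lVU := hlet [Data.numU.getD 1 0, Data.numU.getD 0 0] (by simp)
  have nontriv : ∀ {v : List ℕ}, v ∈ [[Data.numU.getD 0 0], [Data.numU.getD 1 0], [Data.numU.getD 0 0, Data.numU.getD 1 0]] →
      (v.all letA = true) → ∀ y : X, (y : G) = wv (el f) τ σ v → φ y ≠ 1 := by
    intro v hv hvl y ey e
    have hp : ∀ p ∈ [[], Data.wordOm, Data.wordOm ++ Data.wordOm], p.all letA = true → wv (el f) τ σ v ≠ wv (el f) τ σ p := by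
      intro p hp hpl e'
      have h1 := a.word v hvl
      rw [e'] at h1
      have h2 := a.word p hpl
      have := List.all_eq_true.1 (List.all_eq_true.1 omega_ne_checks.1 p hp) v hv
      have h3 : repW v = repW p := by
        have e1 := c.act_unique h1.1 h2.1
        have e2 := c.eA_inj (Nat.mod_lt _ (by norm_num)) (Nat.mod_lt _ (by norm_num))
          (mul_right_cancel (h1.2.symm.trans h2.2))
        omega
      simp [h3] at this
    rcases (hker y).1 e with h' | h' | h'
    · exact hp [] (by simp) (by simp) (by rw [← ey, h', wv_nil])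
    · exact hp Data.wordOm (by simp) lOm (by rw [← ey, h', o.eW])
    · exact hp (Data.wordOm ++ Data.wordOm) (by simp) lOm2 (by rw [← ey, h', wv_append, o.eW])
  have U1 : φ Uk ≠ 1 := nontriv (v := [Data.numU.getD 0 0]) (by simp) lU Uk wU.symm
  have V1 : φ Vk ≠ 1 := nontriv (v := [Data.numU.getD 1 0]) (by simp) lV Vk wV.symm
  have u2 : U * U = 1 := by rw [hU, ← c.mul hl0 hl0, number_checks.2.2.2.2.2.2.2.2.1, c.one]
  have v2 : V * V = 1 := by rw [hV, ← c.mul hl1 hl1, number_checks.2.2.2.2.2.2.2.2.2.1, c.one]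
  have vc : V * U = U * V := by
    have h1 := a.word _ lVU
    rw [omega_ne_checks.2] at h1
    have := c.rep_unique d h1 (a.word _ lUV)
    rw [wUV, wv_cons, wv_cons, wv_nil, lv_el hl1, lv_el hl0, mul_one] at this
    exact this
  have VU : φ Vk ≠ φ Uk := fun e => nontriv (v := [Data.numU.getD 0 0, Data.numU.getD 1 0]) (by simp) lUV (Uk * Vk)
    wUV.symm (by rw [map_mul, e, ← map_mul, show Uk * Uk = 1 from Subtype.ext u2, map_one])
  have hrel : ∀ {w : List ℕ}, Data.relsM.dropLast.contains w = true → wv (el f) τ σ w = 1 :=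
    fun h => a.rels _ (List.contains_iff_mem.1 h)
  have r0 := hrel letter_bounds.2.1
  have r1 := hrel letter_bounds.2.2.1
  have r2 := hrel letter_bounds.2.2.2
  rw [← number_checks.2.2.2.2.2.2.2.1] at r2
  have hw2 : mulN (Data.numU.getD 0 0) (Data.numU.getD 1 0) < 1920 := range_nums.mul _ _ hl0 hl1
  simp only [wv_cons, wv_nil, lv_el hl0, lv_el hl1, lv_el hw2, c.mul hl0 hl1,
    show lv (el f) τ σ 1922 = σ from rfl, mul_one, ← hU, ← hV] at r0 r1 r2
  have lift : ∀ {x y : X}, (x : G) = y → φ x = φ y := fun h => congrArg φ (Subtype.ext h)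
  obtain ⟨w, hw, hor⟩ := six_main (U := φ Uk) (v := φ Vk) (S := φ Sk) (E := φ Ek) (T := φ Tk)
    (hsign _) (hsign _) (hsign _) (hsign _) (hsign _)
    (by rw [← map_mul, ← map_one φ]; exact lift u2) U1
    (by rw [← map_mul, ← map_one φ]; exact lift v2) V1 VU
    (by simp only [← map_mul]; exact lift vc)
    (by rw [← map_mul, ← map_one φ]; exact lift a.sys.sq)
    (by simp only [← map_mul]; rw [← map_one φ]; refine lift ?_; show σ * U * (σ * U * (σ * U)) = 1; rw [← r0]; group)
    (by
      simp only [← map_mul]; rw [← map_one φ]; refine lift ?_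
      show σ * V * (σ * V * (σ * V) * (σ * V * (σ * V))) = 1
      rw [← r1]; group)
    (by
      simp only [← map_mul]; rw [← map_one φ]; refine lift ?_
      show σ * (U * V) * (σ * (U * V) * (σ * (U * V)) * (σ * (U * V) * (σ * (U * V)))) = 1
      rw [← r2]; group)
    (by rw [← map_mul, ← map_one φ]; exact lift o.E2)
    (by simp only [← map_mul]; exact lift o.EU)
    (by simp only [← map_mul]; exact lift o.EV)
    (by simp only [← map_mul]; exact lift o.TU)
    (by simp only [← map_mul]; exact lift o.TE)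
  -- back to words
  obtain ⟨w0, hw0, xw, exw, hxw⟩ : ∃ w0 ∈ fourW, ∃ xw : X, (xw : G) = wv (el f) τ σ w0 ∧ φ xw = w := by
    simp only [List.mem_cons, List.not_mem_nil, or_false] at hw
    rcases hw with rfl | rfl | rfl | rfl
    · exact ⟨_, by simp [fourW], 1, wv_nil.symm, map_one φ⟩
    · exact ⟨_, by simp [fourW], Uk, wU.symm, rfl⟩
    · exact ⟨Data.wordE, by simp [fourW], Ek, o.eE.symm, rfl⟩
    · exact ⟨Data.numU.getD 0 0 :: Data.wordE, by simp [fourW], Uk * Ek,
        by rw [wv_cons, lv_el hl0, o.eE]; rfl, map_mul φ _ _⟩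
  have ne := number_checks
  obtain ⟨-, -, -, -, eF, eF1, -, -, -, -, -, -, -, -, -, -, -, -, -, -⟩ := ne
  have wS : wv (el f) τ σ [1922] = σ := by simp [wv, lv]
  set wk : X := ⟨omG f τ, mem_centralizer_singleton_iff.2 rfl⟩ with hwk
  have pw : φ wk = 1 := (hker _).2 (Or.inr (Or.inl rfl))
  set Fk : X := Uk * Vk * (wk * wk) * Sk * Ek * Sk with hFk
  set Fk' : X := Uk * Vk * (wk * wk) * Sk * Ek * (Uk * Sk) with hFk'
  have evF : wv (el f) τ σ Data.wordF = (Fk : G) := by
    rw [eF, wv_append, wv_append, wv_append, o.eP, o.eE, wS]; rfl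
  have evF1 : wv (el f) τ σ Data.wordF1 = (Fk' : G) := by
    rw [eF1, wv_append, wv_append, wv_append, o.eP, o.eE, wS,
      show wv (el f) τ σ [Data.numU.getD 0 0, 1922] = U * σ by
        rw [wv_cons, wv_cons, wv_nil, lv_el hl0, mul_one]; rfl]
    rfl
  have key : ∀ {front : List ℕ} {x : X}, wv (el f) τ σ front = (x : G) →
      (∀ p ∈ powW, front ++ Data.wordT ++ w0 ++ p ∈ Data.variants) →
      φ x * (φ Tk * φ xw) = 1 → ∃ w ∈ Data.variants, wv (el f) τ σ w = 1 := by
    intro front x ef hp hφ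
    rw [← map_mul, ← map_mul] at hφ
    have hev : wv (el f) τ σ (front ++ Data.wordT ++ w0) = ((x * (Tk * xw) : X) : G) := by
      rw [wv_append, wv_append, ef, o.eT, ← exw, mul_assoc]; rfl
    have h3 := c.om_cube d
    rcases (hker _).1 hφ with h' | h' | h' <;> rw [h'] at hev
    · exact ⟨_, hp [] (by simp [powW]), by rw [wv_append, hev, wv_nil, one_mul]⟩
    · refine ⟨_, hp (Data.wordOm ++ Data.wordOm) (by simp [powW]), ?_⟩
      rw [wv_append, hev, wv_append, o.eW, ← mul_assoc, h3]
    · exact ⟨_, hp Data.wordOm (by simp [powW]), by rw [wv_append, hev, o.eW, h3]⟩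
  have hs := List.all_eq_true.1 shape_variants w0 hw0
  simp only [List.all_eq_true, Bool.and_eq_true, List.contains_iff_mem] at hs
  rcases hor with hF | hF
  · refine key (front := invL Data.wordF) (x := Fk⁻¹)
      (by rw [invL, wv_inverse a.sys range_nums, evF]; rfl) (fun p hp => (hs p hp).1) ?_
    rw [hxw, hF, map_inv, hFk]
    simp only [map_mul, pw, one_mul, mul_one]
    group
  · refine key (front := Data.wordF1) (x := Fk') evF1 (fun p hp => (hs p hp).2) ?_
    rw [hxw, ← hF, hFk']
    simp only [map_mul, pw, one_mul, mul_one]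
    group

end Ctx

end CfsgLib.JThreeUniq
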