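import Cfsg.Agent.Lib.J3.Simple
import Cfsg.Agent.Lib.JThreeUniq.Elt
import Cfsg.Agent.Lib.JThreeUniq.Dce
import Cfsg.Agent.Lib.JThreeUniq.Data.CertM
import Cfsg.Agent.Lib.JThreeUniq.WitData

/-!
# The model of the third Janko group satisfies the uniqueness certificates

Ten generators of an involution centralizer, an element of order three and an involution are written as words in
the two defining matrices; the relations are checked on codes up to scalars.
-/

set_option autoImplicit false
set_option maxRecDepth 100000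

namespace CfsgLib.JThreeUniq.Witness

open CfsgLib.J3 CfsgLib.JTwoUniq.Coset

/-- The model. -/
abbrev Mdl : Type := grpG K0 ⧸ Subgroup.center (grpG K0)

/-- The code of a word in the two defining matrices. -/
def codeOf : List ℕ → ℕ
  | [] => oneM
  | g :: w => mulM (topGen g) (codeOf w)

/-- The code is a unitary matrix of the group. -/
def Good (A : ℕ) : Prop := okM A = true ∧ val K0 A ∈ grpG K0

theorem good_one : Good oneM := ⟨ok_oneM, by rw [val_oneM]; exact Subgroup.one_mem _⟩

theorem good_mul {A B : ℕ} (hA : Good A) (hB : Good B) : Good (mulM A B) :=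
  ⟨ok_mulM hA.1 hB.1 K0, by rw [val_mulM K0 hA.1 hB.1]; exact Subgroup.mul_mem _ hA.2 hB.2⟩

theorem good_codeOf : ∀ w : List ℕ, Good (codeOf w)
  | [] => good_one
  | g :: w => good_mul ⟨ok_topGen g, topGen_mem K0 g⟩ (good_codeOf w)

open Classical in
/-- The element of a code. -/
noncomputable def cl (A : ℕ) : Mdl :=
  if h : val K0 A ∈ grpG K0 then QuotientGroup.mk' (Subgroup.center (grpG K0)) ⟨val K0 A, h⟩ else 1

theorem cl_good {A : ℕ} (h : Good A) :
    cl A = QuotientGroup.mk' (Subgroup.center (grpG K0)) ⟨val K0 A, h.2⟩ := dif_pos h.2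

theorem cl_one : cl oneM = 1 := by
  rw [cl_good good_one, ← map_one (QuotientGroup.mk' (Subgroup.center (grpG K0)))]
  exact congrArg _ (Subtype.ext (val_oneM K0))

theorem cl_mul {A B : ℕ} (hA : Good A) (hB : Good B) : cl (mulM A B) = cl A * cl B := by
  rw [cl_good (good_mul hA hB), cl_good hA, cl_good hB, ← map_mul]
  exact congrArg _ (Subtype.ext (val_mulM K0 hA.1 hB.1))

theorem val_ctM {A : ℕ} (hA : okM A = true) (h : okM (ctM A) = true) : val K0 (ctM A) = (val K0 A)⁻¹ :=
  Units.ext (by rw [val_coe K0 h, val_inv K0 hA])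

theorem mk_inv_of {G : Type} [Group G] (S : Subgroup G) (N : Subgroup ↥S) [N.Normal] {a b : G}
    (ha : a ∈ S) (hb : b ∈ S) (e : b = a⁻¹) :
    QuotientGroup.mk' N ⟨b, hb⟩ = (QuotientGroup.mk' N ⟨a, ha⟩)⁻¹ := by
  subst e
  exact map_inv (QuotientGroup.mk' N) ⟨a, ha⟩

theorem cl_inv {A : ℕ} (hA : Good A) (h : okM (ctM A) = true) :
    Good (ctM A) ∧ cl (ctM A) = (cl A)⁻¹ := by
  have e := val_ctM hA.1 h
  generalize ctM A = B at *
  have hm : val K0 B ∈ grpG K0 := by rw [e]; exact Subgroup.inv_mem _ hA.2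
  have hg : Good B := And.intro h hm
  refine And.intro hg ?_
  rw [cl_good hg, cl_good hA]
  exact mk_inv_of (grpG K0) (Subgroup.center (grpG K0)) hA.2 hm e

/-- Equality up to a scalar. -/
def sEq (A B : ℕ) : Bool := scalList.any fun s => A.beq (mulM s B)

theorem cl_eq {A B : ℕ} (hA : Good A) (hB : Good B) (h : sEq A B = true) : cl A = cl B := by
  simp only [sEq, List.any_eq_true, Nat.beq_eq] at h
  obtain ⟨s, hs, rfl⟩ := h
  have hS : Good s := ⟨List.all_eq_true.1 scalList_ok s hs, scal_mem K0 hs⟩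
  have h1 : cl s = 1 := by
    rw [cl_good hS]
    exact (QuotientGroup.eq_one_iff _).2 ((center_eq K0).2 ⟨s, hs, rfl⟩)
  rw [cl_mul hS hB, h1, one_mul]

/-- The code of one of the twelve elements. -/
def gc (i : ℕ) : ℕ := Data.witC.getD i oneM

/-- The code of a letter. -/
def lC (l : ℕ) : ℕ := if l % 2 = 0 then gc (l / 2) else ctM (gc (l / 2))

/-- The code of a word. -/
def evC : List ℕ → ℕ
  | [] => oneM
  | l :: w => mulM (lC l) (evC w)

theorem gc_checks : (List.range 12).all (fun i =>
    (gc i).beq (codeOf (Data.witW.getD i [])) && okM (ctM (gc i))) = true := by decide +kernel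

theorem good_gc {i : ℕ} (hi : i < 12) : Good (gc i) ∧ okM (ctM (gc i)) = true := by
  have h := List.all_eq_true.1 gc_checks i (List.mem_range.2 hi)
  simp only [Bool.and_eq_true, Nat.beq_eq] at h
  exact ⟨by rw [h.1]; exact good_codeOf _, h.2⟩

/-- The twelve elements. -/
noncomputable def elem (i : ℕ) : Mdl := cl (gc i)

theorem lC_spec {l : ℕ} (hl : l < 24) : Good (lC l) ∧ cl (lC l) = lval elem l := by
  obtain ⟨hg, hc⟩ := good_gc (show l / 2 < 12 by omega)
  simp only [lC, lval]
  split_ifs
  · exact ⟨hg, rfl⟩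
  · exact cl_inv hg hc

theorem evC_spec : ∀ {w : List ℕ}, (∀ l ∈ w, l < 24) → Good (evC w) ∧ cl (evC w) = ev elem w
  | [], _ => ⟨good_one, by rw [evC, cl_one, ev_nil]⟩
  | l :: w, h => by
    obtain ⟨h1, h2⟩ := lC_spec (h l List.mem_cons_self)
    obtain ⟨h3, h4⟩ := evC_spec fun x hx => h x (List.mem_cons_of_mem _ hx)
    exact ⟨good_mul h1 h3, by rw [evC, cl_mul h1 h3, ev_cons, h2, h4]⟩

/-- The code of a number. -/
def elC (e : ℕ) : ℕ := evC (eWord e)

theorem elC_spec {e : ℕ} (he : e < 1920) : Good (elC e) ∧ cl (elC e) = el elem e :=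
  evC_spec fun l hl => (eWord_lt he l hl).trans (by norm_num)

theorem relC_checks : JTwoUniq.Data.relC.all (fun w =>
    (w.all fun l => Nat.blt l 24) && sEq (evC w) oneM) = true := by decide +kernel

theorem elem_relC : ∀ w ∈ JTwoUniq.Data.relC, ev elem w = 1 := by
  intro w hw
  have h := List.all_eq_true.1 relC_checks w hw
  simp only [Bool.and_eq_true, List.all_eq_true, Nat.blt_eq] at h
  obtain ⟨h1, h2⟩ := evC_spec h.1
  rw [← h2, cl_eq h1 good_one h.2, cl_one]

/-- A substitution rule. -/
def subChk (T : ℕ) (N : ℕ → ℕ) : Bool :=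
  (List.range 1920).all fun u =>
    !Nat.blt (N u) 1920 || sEq (mulM T (elC u)) (mulM (elC (N u)) T)

theorem sub_sound {T : ℕ} {N : ℕ → ℕ} (hT : Good T) (h : subChk T N = true) :
    ∀ u, u < 1920 → N u < 1920 → cl T * el elem u = el elem (N u) * cl T := by
  intro u hu hN
  have h1 := List.all_eq_true.1 h u (List.mem_range.2 hu)
  have hb : Nat.blt (N u) 1920 = true := by rwa [Nat.blt_eq]
  rw [hb] at h1
  simp only [Bool.not_true, Bool.false_or] at h1
  obtain ⟨g1, e1⟩ := elC_spec hu
  obtain ⟨g2, e2⟩ := elC_spec hN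
  have := cl_eq (good_mul hT g1) (good_mul g2 hT) h1
  rwa [cl_mul hT g1, cl_mul g2 hT, e1, e2] at this

theorem tau_checks : subChk (gc 10) tauN = true := by decide +kernel

theorem tai_checks : subChk (ctM (gc 10)) taiN = true := by decide +kernel

theorem sig_checks : subChk (gc 11) sigN = true := by decide +kernel

theorem sq_check : sEq (mulM (gc 11) (gc 11)) oneM = true := by decide +kernel

/-- The element of order three. -/
noncomputable def tau : Mdl := elem 10

/-- The involution. -/
noncomputable def sigma : Mdl := elem 11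

theorem sys : Sys (el elem) tau sigma where
  mul a b ha hb := el_mul elem_relC ha hb
  inv a ha := el_inv elem_relC ha
  one := el_one elem_relC
  tau := sub_sound (good_gc (by norm_num)).1 tau_checks
  tai u hu hN := by
    obtain ⟨hg, hc⟩ := good_gc (show 10 < 12 by norm_num)
    obtain ⟨hi, he⟩ := cl_inv hg hc
    have := sub_sound hi tai_checks u hu hN
    rwa [he] at this
  sig := sub_sound (good_gc (by norm_num)).1 sig_checks
  sq := by
    obtain ⟨hg, -⟩ := good_gc (show 11 < 12 by norm_num)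
    have := cl_eq (good_mul hg hg) good_one sq_check
    rwa [cl_mul hg hg, cl_one] at this

/-- The code of a letter of a relator. -/
def lvC (u : ℕ) : ℕ :=
  if u < 1920 then elC u else if u = 1920 then gc 10 else if u = 1921 then ctM (gc 10) else gc 11

theorem lvC_spec (u : ℕ) : Good (lvC u) ∧ cl (lvC u) = lv (el elem) tau sigma u := by
  simp only [lvC, lv]
  split_ifs with h1 h2 h3
  · exact elC_spec h1
  · exact ⟨(good_gc (by norm_num)).1, rfl⟩
  · exact cl_inv (good_gc (by norm_num)).1 (good_gc (by norm_num)).2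
  · exact ⟨(good_gc (by norm_num)).1, rfl⟩

/-- The code of a relator. -/
def wvC : List ℕ → ℕ
  | [] => oneM
  | u :: w => mulM (lvC u) (wvC w)

theorem wvC_spec : ∀ w, Good (wvC w) ∧ cl (wvC w) = wv (el elem) tau sigma w
  | [] => ⟨good_one, by simp [wvC, cl_one, wv]⟩
  | u :: w => by
    obtain ⟨h1, h2⟩ := lvC_spec u
    obtain ⟨h3, h4⟩ := wvC_spec w
    refine ⟨good_mul h1 h3, ?_⟩
    rw [wvC, cl_mul h1 h3, h2, h4]
    simp [wv]

theorem relsM_checks : Data.relsM.all (fun w => sEq (wvC w) oneM) = true := by decide +kernel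

theorem elem_relsM : ∀ w ∈ Data.relsM, wv (el elem) tau sigma w = 1 := by
  intro w hw
  obtain ⟨h1, h2⟩ := wvC_spec w
  rw [← h2, cl_eq h1 good_one (List.all_eq_true.1 relsM_checks w hw), cl_one]

theorem xy_checks :
    (Data.witXY.all fun w => w.all fun l => Nat.blt l 24 && (!Nat.ble 16 l || Nat.ble 20 l)) = true ∧
      sEq (evC (Data.witXY.getD 0 [])) codeX = true ∧ sEq (evC (Data.witXY.getD 1 [])) codeY = true ∧
      Data.witXY.length = 2 := by
  refine ⟨?_, ?_, ?_, ?_⟩ <;> decide +kernel

theorem generate : Subgroup.closure (elem '' {i | i < 10} ∪ {tau, sigma}) = ⊤ := by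
  set S := Subgroup.closure (elem '' {i | i < 10} ∪ {tau, sigma}) with hS
  have hel : ∀ i < 12, elem i ∈ S := fun i hi => by
    rcases lt_or_ge i 10 with h | h
    · exact Subgroup.subset_closure (Or.inl ⟨i, h, rfl⟩)
    · interval_cases i
      · exact Subgroup.subset_closure (Or.inr (Set.mem_insert _ _))
      · exact Subgroup.subset_closure (Or.inr (Set.mem_insert_of_mem _ rfl))
  have hev : ∀ w : List ℕ, (∀ l ∈ w, l < 24) → ev elem w ∈ S := fun w hw =>
    Subgroup.list_prod_mem S fun x hx => by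
      obtain ⟨l, hl, rfl⟩ := List.mem_map.1 hx
      have := hw l hl
      simp only [lval]
      split_ifs
      · exact hel _ (by omega)
      · exact inv_mem (hel _ (by omega))
  obtain ⟨h0, hx, hy, hlen⟩ := xy_checks
  simp only [List.all_eq_true, Bool.and_eq_true, Nat.blt_eq] at h0
  have hlt : ∀ k < 2, ∀ l ∈ Data.witXY.getD k [], l < 24 := fun k hk l hl => by
    have hk' : k < Data.witXY.length := by omega
    rw [List.getD_eq_getElem _ _ hk'] at hl
    exact (h0 _ (List.getElem_mem hk') l hl).1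
  have mem : ∀ k < 2, ∀ c, Good c → sEq (evC (Data.witXY.getD k [])) c = true → cl c ∈ S :=
    fun k hk c hc h => by
      obtain ⟨h1, h2⟩ := evC_spec (hlt k hk)
      rw [← cl_eq h1 hc h, h2]
      exact hev _ (hlt k hk)
  have gX : Good codeX := ⟨ok_gens.1, (genX K0).2⟩
  have gY : Good codeY := ⟨ok_gens.2, (genY K0).2⟩
  have mX := mem 0 (by norm_num) _ gX hx
  have mY := mem 1 (by norm_num) _ gY hy
  rw [cl_good gX] at mX
  rw [cl_good gY] at mY
  rw [eq_top_iff]
  intro q hq
  clear hq
  obtain ⟨⟨g, hg⟩, rfl⟩ := QuotientGroup.mk'_surjective (Subgroup.center (grpG K0)) q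
  induction hg using Subgroup.closure_induction with
  | mem x hx =>
    rcases hx with rfl | rfl
    · exact mX
    · exact mY
  | one => exact S.one_mem
  | mul x y hx hy h1 h2 => exact S.mul_mem h1 h2
  | inv x hx h1 => exact S.inv_mem h1

/-- The model has a witness for the certificates. -/
theorem exists_witness : ∃ (f : ℕ → Mdl) (τ σ : Mdl),
    (∀ w ∈ JTwoUniq.Data.relC, ev f w = 1) ∧ Sys (el f) τ σ ∧
      (∀ w ∈ Data.relsM, wv (el f) τ σ w = 1) ∧
      Subgroup.closure (f '' {i | i < 10} ∪ {τ, σ}) = ⊤ :=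
  ⟨elem, tau, sigma, elem_relC, sys, elem_relsM, generate⟩

end CfsgLib.JThreeUniq.Witness
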