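import Cfsg.Agent.Lib.JThreeUniq.Main
import Cfsg.Agent.Lib.JThreeUniq.Witness
import Cfsg.Agent.Lib.JThreeUniq.Omega
import Cfsg.Agent.Lib.J3.SylowSelf

/-!
A simple group with one class of involutions and an involution centralizer of shape `2^(1+4).A5` is the third
Janko group.
-/

set_option autoImplicit false

namespace CfsgLib.JThreeUniq

open CfsgLib.J3 Subgroup

theorem witness : Witness := by
  haveI := K0.finite
  letI : Fintype (GaloisField 2 2) := Fintype.ofFinite _
  have hiso : Cfsg.Spor.IsoJ3 Witness.Mdl := by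
    refine ⟨GaloisField 2 2, inferInstance, inferInstance, K0.ω, ?_, K0.root, ?_⟩
    · rw [← Nat.card_eq_fintype_card, GaloisField.card 2 2 (by norm_num)]
      norm_num
    · have key : ∀ S : Subgroup (Matrix.GeneralLinearGroup Cfsg.Spor.F9 (GaloisField 2 2)), S = grpG K0 →
          Nonempty ((↥(grpG K0) ⧸ center (grpG K0)) ≃* (↥S ⧸ center S)) := by
        rintro S rfl
        exact ⟨MulEquiv.refl _⟩
      exact key _ (threeJ3_eq_grpG K0)
  obtain ⟨f, τ, σ, h1, h2, h3, h4⟩ := Witness.exists_witness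
  exact ⟨_, inferInstance, quotient_simple K0, f, τ, σ, hiso, h1, h2, h3, h4⟩

/-- Uniqueness of the third Janko group. -/
theorem iso_of_hyps {G : Type*} [Group G] [Finite G] [IsSimpleGroup G] (t : G) (ht : orderOf t = 2)
    (Q : Subgroup (centralizer ({t} : Set G))) [Q.Normal]
    (hQ : Cfsg.IsExtraspecial 2 Q) (hcard : Nat.card Q = 32)
    (h2c : centralizer (Q : Set (centralizer ({t} : Set G))) ≤ Q)
    (e : (centralizer ({t} : Set G)) ⧸ Q ≃* alternatingGroup (Fin 5))
    (hone : ∀ x y : G, orderOf x = 2 → orderOf y = 2 → IsConj x y) : Cfsg.Spor.IsoJ3 G :=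
  iso_of_hyps_of witness (fun _ _ c τ σ d a => c.exists_variant d a) t ht Q hQ hcard h2c e hone

end CfsgLib.JThreeUniq
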