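import Cfsg.Agent.Lib.JThreeUniq.Count
import Cfsg.Agent.Lib.JThreeUniq.Elt

/-!
Comparison of two groups with coordinates, `τ` and `σ` satisfying the relations of certificate M: the subgroup
generated by the pairs is too small to be anything but the graph of an isomorphism from the simple one.
-/

set_option autoImplicit false

namespace CfsgLib.JThreeUniq

open Subgroup CfsgLib.JTwoUniq CfsgLib.JTwoUniq.Coset

theorem wv_pair {A B : Type*} [Group A] [Group B] (e : ℕ → A) (e' : ℕ → B) (τ σ : A) (τ' σ' : B)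
    (w : List ℕ) : wv (fun u => (e u, e' u)) (τ, τ') (σ, σ') w = (wv e τ σ w, wv e' τ' σ' w) := by
  induction w with
  | nil => rfl
  | cons u w ih =>
    rw [wv_cons, wv_cons, wv_cons, ih]
    unfold lv
    split_ifs <;> rfl

theorem Sys.pair {A B : Type*} [Group A] [Group B] {e : ℕ → A} {e' : ℕ → B} {τ σ : A} {τ' σ' : B}
    (S : Sys e τ σ) (S' : Sys e' τ' σ') : Sys (fun u => (e u, e' u)) (τ, τ') (σ, σ') where
  mul a b ha hb := Prod.ext (S.mul a b ha hb) (S'.mul a b ha hb)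
  inv a ha := Prod.ext (S.inv a ha) (S'.inv a ha)
  one := Prod.ext S.one S'.one
  tau u hu h := Prod.ext (S.tau u hu h) (S'.tau u hu h)
  tai u hu h := Prod.ext (S.tai u hu h) (S'.tai u hu h)
  sig u hu h := Prod.ext (S.sig u hu h) (S'.sig u hu h)
  sq := Prod.ext S.sq S'.sq

theorem map_gen {Γ N : Type*} [Group Γ] [Group N] (φ : Γ →* N) (E : ℕ → Γ) (x y : Γ) (h : ℕ → N) (a b : N)
    (hE : ∀ u < 1920, φ (E u) = el h u) (ha : φ x = a) (hb : φ y = b)
    (hh : ∀ w ∈ JTwoUniq.Data.relC, ev h w = 1) :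
    (closure (E '' {u | u < 1920} ∪ {x, y})).map φ = closure (h '' {i | i < 10} ∪ {a, b}) := by
  have hgN : ∀ i < 10, Data.genN.getD i 0 < 1920 := fun i hi => by
    simpa [Nat.blt_eq] using List.all_eq_true.1 letter_checks.2.2.2.1 i (List.mem_range.2 hi)
  rw [MonoidHom.map_closure]
  refine le_antisymm ((closure_le _).2 ?_) ((closure_le _).2 ?_)
  · rintro _ ⟨z, ⟨u, hu, rfl⟩ | rfl | rfl, rfl⟩
    · rw [hE u hu]
      exact closure_mono Set.subset_union_left (el_mem hu)
    · exact ha ▸ subset_closure (Or.inr (Or.inl rfl))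
    · exact hb ▸ subset_closure (Or.inr (Or.inr rfl))
  · rintro _ (⟨i, hi, rfl⟩ | rfl | rfl)
    · exact subset_closure ⟨_, Or.inl ⟨_, hgN i hi, rfl⟩, (hE _ (hgN i hi)).trans (el_gen hh hi)⟩
    · exact subset_closure ⟨_, Or.inr (Or.inl rfl), ha⟩
    · exact subset_closure ⟨_, Or.inr (Or.inr rfl), hb⟩

/-- Two groups with such data: the simple one of order `50232960` is isomorphic to the subgroup generated in
the other. -/
theorem iso_of_pair {M G : Type*} [Group M] [Group G] [IsSimpleGroup M] {f : ℕ → M} {g : ℕ → G}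
    {τ σ : M} {τ' σ' : G} (hf : ∀ w ∈ JTwoUniq.Data.relC, ev f w = 1)
    (hg : ∀ w ∈ JTwoUniq.Data.relC, ev g w = 1) (S : Sys (el f) τ σ) (S' : Sys (el g) τ' σ')
    (hr : ∀ w ∈ Data.relsM, wv (el f) τ σ w = 1) (hr' : ∀ w ∈ Data.relsM, wv (el g) τ' σ' w = 1)
    (hgen : closure (f '' {i | i < 10} ∪ {τ, σ}) = ⊤) (hcard : Nat.card M = 50232960) (hne : g 0 ≠ 1) :
    Nonempty (M ≃* ↥(closure (g '' {i | i < 10} ∪ {τ', σ'}))) := by
  classical
  set E : ℕ → M × G := fun u => (el f u, el g u)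
  set D : Subgroup (M × G) := closure (E '' {u | u < 1920} ∪ {(τ, τ'), (σ, σ')})
  obtain ⟨hfin, hle⟩ := card_le (S.pair S') (fun w hw => by rw [wv_pair, hr w hw, hr' w hw]; rfl)
  haveI : Finite ↥D := hfin.to_subtype
  have hgN : ∀ i < 10, Data.genN.getD i 0 < 1920 := fun i hi => by
    simpa [Nat.blt_eq] using List.all_eq_true.1 letter_checks.2.2.2.1 i (List.mem_range.2 hi)
  have hfst : D.map (MonoidHom.fst M G) = ⊤ := by
    rw [map_gen (MonoidHom.fst M G) E (τ, τ') (σ, σ') f τ σ (fun _ _ => rfl) rfl rfl hf, hgen]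
  set p1 : ↥D →* M := (MonoidHom.fst M G).comp D.subtype
  have hsurj : Function.Surjective p1 := fun m => by
    obtain ⟨x, hx, e⟩ := (hfst ▸ mem_top m : m ∈ D.map (MonoidHom.fst M G))
    exact ⟨⟨x, hx⟩, e⟩
  have hbij : Function.Bijective p1 :=
    hsurj.bijective_of_nat_card_le (hle.trans hcard.ge)
  set e1 : ↥D ≃* M := MulEquiv.ofBijective p1 hbij
  set ψ : M →* G := ((MonoidHom.snd M G).comp D.subtype).comp e1.symm.toMonoidHom
  have hrange : ψ.range = closure (g '' {i | i < 10} ∪ {τ', σ'}) := by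
    rw [← map_gen (MonoidHom.snd M G) E (τ, τ') (σ, σ') g τ' σ' (fun _ _ => rfl) rfl rfl hg]
    ext y
    constructor
    · rintro ⟨m, rfl⟩
      exact ⟨_, (e1.symm m).2, rfl⟩
    · rintro ⟨x, hx, rfl⟩
      exact ⟨e1 ⟨x, hx⟩, by simp [ψ]⟩
  have hinj : Function.Injective ψ := by
    rw [← MonoidHom.ker_eq_bot_iff]
    rcases IsSimpleGroup.eq_bot_or_eq_top_of_normal ψ.ker (MonoidHom.normal_ker ψ) with h | h
    · exact h
    · exfalso
      refine hne ?_
      have hmem : E (Data.genN.getD 0 0) ∈ D := subset_closure (Or.inl ⟨_, hgN 0 (by norm_num), rfl⟩)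
      have h1 : ψ (e1 ⟨_, hmem⟩) = g 0 := by
        simp only [ψ, MonoidHom.comp_apply, MulEquiv.coe_toMonoidHom, MulEquiv.symm_apply_apply]
        exact el_gen hg (by norm_num)
      rw [← h1]
      exact MonoidHom.mem_ker.1 (h ▸ mem_top _)
  exact ⟨(MonoidHom.ofInjective hinj).trans (MulEquiv.subgroupCongr hrange)⟩

end CfsgLib.JThreeUniq
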