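import Cfsg.Agent.Lib.JThreeUniq.Affine
import Cfsg.Agent.Lib.JThreeUniq.Data.CertM

/-!
Checks for the normalizer of the elementary abelian group of order sixteen.
-/

set_option autoImplicit false
set_option maxRecDepth 100000

namespace CfsgLib.JThreeUniq

/-- The test of closure on four generators. -/
def closedB (g : ℕ) : Bool :=
  (tauP :: Data.genV.map actU).all fun h => inCos g (compP h g)

/-- The five translates of the three fixed vectors are all fifteen vectors. -/
def coverB (g : ℕ) : Bool :=
  (List.range 16).all fun a => (a == 0) || (powL g).any fun k => [4, 8, 12].any fun v => appP k v == a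

/-- The test for all maps with given first two images. -/
def searchB (x y : ℕ) : Bool :=
  (List.range 16).all fun u => (List.range 16).all fun w =>
    force (x + 16 * y + 256 * u + 4096 * w) fun g =>
      !fiveB g || (coverB g && (!closedB g || inCos g Data.sigP))

theorem stab_checks : (List.range 1920).all (fun u =>
      !([1, 2, 4, 8].all fun b => Data.domA.contains (cjN u (aA b))) || Data.domV.contains u) = true ∧
    Data.domV.all (fun u => Data.actV.contains (actU u)) = true ∧
    Data.actV.all (fun v => [idP, tauP, compP tauP tauP].all fun k => Data.actH.contains (compP k v) &&
      Data.actH.contains (compP (compP k v) tauP) && Data.actH.contains (compP (compP k v) (compP tauP tauP))) =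
      true ∧
    Data.actH.all (fun h => !(compP h (compP (compP h h) (compP h h)) == idP) || h == idP) = true ∧
    (List.range 16).all (fun a => [0, 4, 8, 12].contains a ||
      Data.domV.any fun u => cjN u Data.outU == aA a) = true ∧
    (List.range 16).all (fun v => (List.range 16).any fun b => (v ^^^ b ^^^ appP Data.omP b) == 0) = true ∧
    compP Data.sigP Data.omP = compP Data.omP Data.sigP ∧ compP Data.sigP Data.sigP = idP ∧
    Data.sigP < 65536 ∧ appP tauP 8 = 4 ∧ appP tauP 4 = 12 := by
  refine ⟨?_, ?_, ?_, ?_, ?_, ?_, ?_, ?_, ?_, ?_, ?_⟩ <;> decide +kernel

theorem search_part0 : (List.range' 0 2).all (fun x => (List.range 16).all fun y => searchB x y) = true := by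
  decide +kernel

theorem search_part1 : (List.range' 2 2).all (fun x => (List.range 16).all fun y => searchB x y) = true := by
  decide +kernel

theorem search_part2 : (List.range' 4 2).all (fun x => (List.range 16).all fun y => searchB x y) = true := by
  decide +kernel

theorem search_part3 : (List.range' 6 2).all (fun x => (List.range 16).all fun y => searchB x y) = true := by
  decide +kernel

theorem search_part4 : (List.range' 8 2).all (fun x => (List.range 16).all fun y => searchB x y) = true := by
  decide +kernel

theorem search_part5 : (List.range' 10 2).all (fun x => (List.range 16).all fun y => searchB x y) = true := by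
  decide +kernel

theorem search_part6 : (List.range' 12 2).all (fun x => (List.range 16).all fun y => searchB x y) = true := by
  decide +kernel

theorem search_part7 : (List.range' 14 2).all (fun x => (List.range 16).all fun y => searchB x y) = true := by
  decide +kernel

theorem search_0 : (List.range 8).all (fun x => (List.range 16).all fun y => searchB x y) = true := by
  rw [show List.range 8 = List.range' 0 2 ++ List.range' 2 2 ++ List.range' 4 2 ++ List.range' 6 2 from rfl,
    List.all_append, List.all_append, List.all_append, search_part0, search_part1, search_part2, search_part3]
  rfl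

theorem search_1 : (List.range' 8 8).all (fun x => (List.range 16).all fun y => searchB x y) = true := by
  rw [show List.range' 8 8 = List.range' 8 2 ++ List.range' 10 2 ++ List.range' 12 2 ++ List.range' 14 2 from rfl,
    List.all_append, List.all_append, List.all_append, search_part4, search_part5, search_part6, search_part7]
  rfl

theorem sys_checks : (List.range 1920).all (fun u => !(Nat.blt (taiN u) 1920) ||
      (Nat.blt (tauN (taiN u)) 1920 && tauN (taiN u) == u)) = true ∧
    (List.range 1920).all (fun u => !(Nat.blt (sigN u) 1920) ||
      (List.range 16).any fun i => aA i == u && aA (appP Data.sigP i) == sigN u) = true := by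
  refine ⟨?_, ?_⟩ <;> decide +kernel

theorem rel_checksM : Data.relsM.dropLast.all (fun w => w.all fun u => Nat.blt u 1923) = true ∧
    (Data.relsM.dropLast.drop 2).all (fun w => w.all letA && (repW w == 16 * idP)) = true ∧
    Data.relsM.dropLast.take 2 = [[1920, 1920, 1920], [4, 1920, 4, 1920, invN Data.relK]] := by
  refine ⟨?_, ?_, ?_⟩ <;> decide +kernel

end CfsgLib.JThreeUniq
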