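import Cfsg.Agent.Lib.JThreeUniq.NormABase
import Cfsg.Agent.Lib.JThreeUniq.DceSound
import Cfsg.Agent.Lib.JThreeUniq.NormAChecks

/-!
The normalizer of the elementary abelian group of order sixteen: an involution.
-/

set_option autoImplicit false
set_option maxRecDepth 100000

namespace CfsgLib.JThreeUniq

open CfsgLib.JTwoUniq CfsgLib.JTwoUniq.Coset Subgroup

variable {G : Type*} [Group G] {z : G} {f : ℕ → G} {τ : G}

/-- The involution normalising the elementary abelian group, centralising the scalar element. -/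
structure SigA (f : ℕ → G) (τ σ : G) : Prop where
  sys : Sys (el f) τ σ
  rep : Rep f τ σ (16 * Data.sigP)
  rels : ∀ w ∈ Data.relsM.dropLast, wv (el f) τ σ w = 1
  word : ∀ w : List ℕ, w.all letA = true → Rep f τ (wv (el f) τ σ w) (repW w)

namespace Ctx

variable (c : Ctx z f) (d : TauV f τ)
include c d

omit d in
theorem act_el {u : ℕ} (hu : u < 1920) {n : G} {p : ℕ} (hn : Act f n p) (e : n = el f u) : u ∈ Data.domV := by
  have h := List.all_eq_true.1 stab_checks.1 u (List.mem_range.2 hu)
  simp only [Bool.or_eq_true, Bool.not_eq_true', List.contains_iff_mem] at h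
  refine h.resolve_left ?_
  rw [Bool.not_eq_false, List.all_eq_true]
  intro b hb
  have hb' : b < 16 := by simp only [List.mem_cons, List.not_mem_nil, or_false] at hb; omega
  rw [List.contains_iff_mem]
  have e2 : cjN u (aA b) = aA (appP p b) := c.inj (cjN_lt hu (c.aA_lt hb')) (c.aA_lt (appP_lt _ _))
    (by rw [c.cj hu (c.aA_lt hb'), ← e]; exact hn.2 b hb)
  rw [e2, aA]
  have hl : appP p b < Data.domA.length := by rw [aA_checks.2.2.2.2.2.2.2.2]; exact appP_lt _ _
  rw [List.getD_eq_getElem _ _ hl]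
  exact List.getElem_mem hl

/-- An element mapping a fixed vector to a fixed vector has its action in the list of 36. -/
theorem act_actH {n : G} {p : ℕ} (hn : Act f n p) {v : ℕ} (hv : v ∈ [4, 8, 12]) (hpv : appP p v ∈ [4, 8, 12]) :
    p ∈ Data.actH := by
  obtain ⟨-, hV, hH, -, -, -, -, -, -, t8, t4⟩ := stab_checks
  have hT := c.rep_tau d
  have e1 : (tauV + 16 * tauP) / 16 = tauP := by have := act_checks.2.2.2.2.1; omega
  rw [Rep, e1] at hT
  have hT2 := c.act_mul hT.1 hT.1
  have t12 : appP (compP tauP tauP) 8 = 12 := by rw [appP_comp _ _ 8 (by simp), t8, t4]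
  obtain ⟨kn, kp, hk, hkT, hk8⟩ : ∃ kn kp, kp ∈ [idP, tauP, compP tauP tauP] ∧ Act f kn kp ∧ appP kp 8 = v := by
    simp only [List.mem_cons, List.not_mem_nil, or_false] at hv
    rcases hv with rfl | rfl | rfl
    · exact ⟨_, _, by simp, hT.1, t8⟩
    · exact ⟨_, _, by simp, c.act_one, by decide +kernel⟩
    · exact ⟨_, _, by simp, hT2, t12⟩
  obtain ⟨ln, lp, hl, hlT, hl8⟩ : ∃ ln lp, lp ∈ [idP, tauP, compP tauP tauP] ∧ Act f ln lp ∧ appP lp 8 = appP p v := by
    simp only [List.mem_cons, List.not_mem_nil, or_false] at hpv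
    rcases hpv with h | h | h
    · exact ⟨_, _, by simp, hT.1, by rw [h, t8]⟩
    · exact ⟨_, _, by simp, c.act_one, by rw [h]; decide +kernel⟩
    · exact ⟨_, _, by simp, hT2, by rw [h, t12]⟩
  have hinv : ∀ {kn : G} {kp : ℕ}, kp ∈ [idP, tauP, compP tauP tauP] → Act f kn kp →
      ∃ q ∈ [idP, tauP, compP tauP tauP], Act f kn⁻¹ q := by
    intro kn kp hk hkT
    have hc : ∀ q, compP q kp = idP → q < 65536 → ∀ m, Act f m q → Act f kn⁻¹ q := by
      intro q e _ m hm
      obtain ⟨i, hi, he⟩ := c.act_same (c.act_mul hm hkT) (e ▸ c.act_one)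
      refine ⟨hm.1, fun b hb => ?_⟩
      have hb' : appP q b < 16 := appP_lt _ _
      rw [← hm.2 b hb, show kn⁻¹ = (m * kn)⁻¹ * m by group]
      rw [mul_one] at he
      rw [he, mul_inv_rev, c.eA_inv hi,
        show eA f i * m * eA f b * (m⁻¹ * eA f i) = eA f i * (m * eA f b * m⁻¹) * eA f i by group, hm.2 b hb,
        c.eA_comm hi hb', mul_assoc, c.eA_mul hi hi, Nat.xor_self, c.eA_zero, mul_one]
    simp only [List.mem_cons, List.not_mem_nil, or_false] at hk
    rcases hk with rfl | rfl | rfl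
    · exact ⟨idP, by simp, hc idP (by decide +kernel) (by decide +kernel) 1 c.act_one⟩
    · exact ⟨compP tauP tauP, by simp, hc _ (by decide +kernel) (compP_lt _ _) _ hT2⟩
    · exact ⟨tauP, by simp, hc _ (by decide +kernel) (by decide +kernel) _ hT.1⟩
  obtain ⟨lq, hlq, hlqT⟩ := hinv hl hlT
  obtain ⟨kq, hkq, hkqT⟩ := hinv hk hkT
  -- the middle element fixes `z`
  have hm := c.act_mul (c.act_mul hlqT hn) hkT
  set m := ln⁻¹ * n * kn with hmdef
  have hmz : m * z * m⁻¹ = z := by
    have a1 := hkT.2 8 (by simp); have a3 := hlT.2 8 (by simp)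
    have a2 := c.act_all hn _ (appP_lt kp 8)
    rw [hk8] at a1 a2
    rw [hl8] at a3
    rw [hmdef, ← c.eA_z,
      show ln⁻¹ * n * kn * eA f 8 * (ln⁻¹ * n * kn)⁻¹ = ln⁻¹ * (n * (kn * eA f 8 * kn⁻¹) * n⁻¹) * ln by group,
      a1, a2, ← a3]
    group
  obtain ⟨u, hu, eu⟩ := c.surj (x := m) (mem_centralizer_singleton_iff.2 (mul_inv_eq_iff_eq_mul.1 hmz))
  have hud := c.act_el hu hm eu.symm
  have hrep := (c.rep_el d hud).1
  have e2 : (trU u + 16 * actU u) / 16 = actU u := by
    have h := List.all_eq_true.1 act_checks.2.1 u hud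
    simp only [Bool.and_eq_true, Nat.blt_eq] at h
    omega
  rw [e2, eu] at hrep
  have hh := List.all_eq_true.1 hH _ (List.contains_iff_mem.1 (List.all_eq_true.1 hV u hud))
  simp only [List.all_eq_true, Bool.and_eq_true, List.contains_iff_mem] at hh
  obtain ⟨⟨b0, b1⟩, b2⟩ := hh lp hl
  have hp : Act f n (compP (compP lp (actU u)) kq) := by
    have := c.act_mul (c.act_mul hlT hrep) hkqT
    rwa [show ln * m * kn⁻¹ = n by rw [hmdef]; group] at this
  rw [c.act_unique hn hp]
  simp only [List.mem_cons, List.not_mem_nil, or_false] at hkq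
  rcases hkq with rfl | rfl | rfl
  · rwa [c.act_unique (c.act_mul (c.act_mul hlT hrep) c.act_one) ((mul_one (ln * m)).symm ▸ c.act_mul hlT hrep)]
  · exact b1
  · exact b2

variable [Finite G]

/-- An element of order five with a closed set of cosets. -/
theorem exists_five : ∃ (n : G) (p : ℕ), Act f n p ∧ fiveB p = true ∧ coverB p = true ∧ closedB p = true ∧
    ∀ {k : ℕ}, k ∈ powL p → ∃ m, Act f m k := by
  classical
  haveI : Fact (Nat.Prime 5) := ⟨by norm_num⟩
  obtain ⟨-, -, -, h5H, hU, -, -, -, -, t8, t4⟩ := stab_checks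
  have hT := c.rep_tau d
  have e1 : (tauV + 16 * tauP) / 16 = tauP := by have := act_checks.2.2.2.2.1; omega
  rw [Rep, e1] at hT
  -- the subgroup
  let N : Subgroup G :=
    { carrier := {n | ∃ p, Act f n p ∧ ∃ q, Act f n⁻¹ q}
      one_mem' := ⟨idP, c.act_one, idP, by rw [inv_one]; exact c.act_one⟩
      mul_mem' := fun {a b} ⟨p, hp, p', hp'⟩ ⟨q, hq, q', hq'⟩ =>
        ⟨_, c.act_mul hp hq, _, by rw [mul_inv_rev]; exact c.act_mul hq' hp'⟩
      inv_mem' := fun {a} ⟨p, hp, q, hq⟩ => ⟨q, hq, p, by rwa [inv_inv]⟩ }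
  have memN : ∀ {n : G}, (∀ i < 16, ∃ j < 16, n * eA f i * n⁻¹ = eA f j) →
      (∀ i < 16, ∃ j < 16, n⁻¹ * eA f i * n = eA f j) → n ∈ N := by
    intro n h1 h2
    have mk : ∀ m : G, (∀ i < 16, ∃ j < 16, m * eA f i * m⁻¹ = eA f j) → ∃ p, Act f m p := by
      intro m h
      choose! j hj he using h
      have hb : ∀ i, (if i < 16 then j i else 0) < 16 := fun i => by split_ifs with hi; exacts [hj i hi, by norm_num]
      obtain ⟨m1, m2, m3, m4, m5⟩ := mkP_spec hb
      obtain ⟨a1, a2, a3, a4⟩ := appP_basis (mkP fun i => if i < 16 then j i else 0)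
      refine ⟨_, m5, fun b hb => ?_⟩
      simp only [List.mem_cons, List.not_mem_nil, or_false] at hb
      rcases hb with rfl | rfl | rfl | rfl
      · rw [a1, m1, if_pos (by norm_num)]; exact he 1 (by norm_num)
      · rw [a2, m2, if_pos (by norm_num)]; exact he 2 (by norm_num)
      · rw [a3, m3, if_pos (by norm_num)]; exact he 4 (by norm_num)
      · rw [a4, m4, if_pos (by norm_num)]; exact he 8 (by norm_num)
    obtain ⟨p, hp⟩ := mk n h1
    obtain ⟨q, hq⟩ := mk n⁻¹ fun i hi => by rw [inv_inv]; exact h2 i hi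
    exact ⟨p, hp, q, hq⟩
  have hτN : τ ∈ N := by
    refine ⟨tauP, hT.1, compP tauP tauP, ?_⟩
    rw [show τ⁻¹ = τ * τ from inv_eq_of_mul_eq_one_right (by rw [← mul_assoc]; exact d.cube)]
    exact c.act_mul hT.1 hT.1
  have hVN : ∀ u ∈ Data.domV, el f u ∈ N := fun u hu =>
    ⟨_, (c.rep_el d hu).1, _, by rw [← el_inv c.rel (c.memV hu).1]; exact (c.rep_el d (c.tau_domV d hu).2).1⟩
  obtain ⟨g, g1, g2⟩ := c.exists_swap (R := Data.outU) (n := 16) (by decide +kernel) (by decide +kernel)
    (by decide +kernel) (by decide +kernel) invol_checks.2.2.1 (Or.inr ⟨rfl, rfl⟩)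
  have hgN : g ∈ N := by
    have eU : el f Data.outU = eA f 1 := by rw [eA, aA_checks.2.2.2.2.1]
    rw [eU, ← c.eA_z] at g1 g2
    refine memN (fun i hi => c.exists_eA ?_ ?_) (fun i hi => c.exists_eA ?_ ?_)
    · rw [← g1]
      calc g * eA f i * g⁻¹ * (g * eA f 1 * g⁻¹) = g * (eA f i * eA f 1) * g⁻¹ := by group
        _ = _ := by rw [c.eA_comm hi (by norm_num)]; group
    · rw [← g2]
      calc g * eA f i * g⁻¹ * (g * eA f 8 * g⁻¹) = g * (eA f i * eA f 8) * g⁻¹ := by group
        _ = _ := by rw [c.eA_comm hi (by norm_num)]; group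
    · calc g⁻¹ * eA f i * g * eA f 8 = g⁻¹ * (eA f i * (g * eA f 8 * g⁻¹)) * g := by group
        _ = g⁻¹ * ((g * eA f 8 * g⁻¹) * eA f i) * g := by rw [g2, c.eA_comm hi (by norm_num)]
        _ = _ := by group
    · calc g⁻¹ * eA f i * g * eA f 1 = g⁻¹ * (eA f i * (g * eA f 1 * g⁻¹)) * g := by group
        _ = g⁻¹ * ((g * eA f 1 * g⁻¹) * eA f i) * g := by rw [g1, c.eA_comm hi (by norm_num)]
        _ = _ := by group
  -- fifteen conjugates of `z`
  have horb : ∀ a, a < 16 → a ≠ 0 → ∃ n ∈ N, n * z * n⁻¹ = eA f a := by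
    intro a ha ha0
    have h := List.all_eq_true.1 hU a (List.mem_range.2 ha)
    simp only [Bool.or_eq_true, List.contains_iff_mem, List.mem_cons, List.not_mem_nil, or_false, List.any_eq_true,
      beq_iff_eq] at h
    have b8 := hT.1.2 8 (by simp)
    rw [c.eA_z, t8] at b8
    rcases h with (h | rfl | rfl | rfl) | ⟨u, hu, hcu⟩
    · exact absurd h ha0
    · exact ⟨τ, hτN, b8⟩
    · exact ⟨1, one_mem _, by rw [c.eA_z]; group⟩
    · refine ⟨τ * τ, mul_mem hτN hτN, ?_⟩
      have b4 := hT.1.2 4 (by simp)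
      rw [t4] at b4
      rw [show τ * τ * z * (τ * τ)⁻¹ = τ * (τ * z * τ⁻¹) * τ⁻¹ by group, b8, b4]
    · refine ⟨el f u * g, mul_mem (hVN u hu) hgN, ?_⟩
      rw [eA, ← hcu, c.cj (c.memV hu).1 (by decide +kernel), ← g2]
      group
  have h5N : 5 ∣ Nat.card N := by
    letI : MulAction N G := MulAction.compHom G ((MulAut.conj (G := G)).comp N.subtype)
    have hsm : ∀ (n : N) (x : G), n • x = (n : G) * x * (n : G)⁻¹ := fun n x => rfl
    have horb' : MulAction.orbit N z = (fun a => eA f a) '' {a | a < 16 ∧ a ≠ 0} := by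
      ext x
      constructor
      · rintro ⟨n, rfl⟩
        obtain ⟨p, hp, -⟩ := n.2
        refine ⟨appP p 8, ⟨appP_lt _ _, fun h => ?_⟩, ?_⟩
        · have h8 := hp.2 8 (by simp)
          rw [h, c.eA_zero, conj_eq_one_iff] at h8
          exact absurd (c.eA_inj (by norm_num) (by norm_num) (h8.trans c.eA_zero.symm)) (by norm_num)
        · show eA f (appP p 8) = n • z
          rw [hsm, ← hp.2 8 (by simp), c.eA_z]
      · rintro ⟨a, ⟨ha, ha0⟩, rfl⟩
        obtain ⟨n, hn, e⟩ := horb a ha ha0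
        exact ⟨⟨n, hn⟩, by show (⟨n, hn⟩ : N) • z = eA f a; rw [hsm, e]⟩
    have hcard : Nat.card (MulAction.orbit N z) = 15 := by
      rw [horb', Nat.card_coe_set_eq, Set.InjOn.ncard_image fun a ha b hb e => c.eA_inj ha.1 hb.1 e,
        show {a : ℕ | a < 16 ∧ a ≠ 0} = ↑((Finset.range 16).filter fun a => a ≠ 0) by ext a; simp,
        Set.ncard_coe_finset]
      decide
    have h := MulAction.index_stabilizer N z
    rw [← Nat.card_coe_set_eq, hcard] at h
    exact (show (5 : ℕ) ∣ 15 by norm_num).trans (h ▸ Subgroup.index_dvd_card _)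
  obtain ⟨n5, hn5⟩ := exists_prime_orderOf_dvd_card' 5 h5N
  set n : G := (n5 : G) with hn
  have hord : orderOf n = 5 := by rw [hn, Subgroup.orderOf_coe, hn5]
  obtain ⟨p, hp, -⟩ := n5.2
  rw [← hn] at hp
  have hp2 := c.act_mul hp hp
  have hp4 := c.act_mul hp2 hp2
  have hp3 := c.act_mul hp hp2
  have hp5 := c.act_mul hp hp4
  have hn5' : n * (n * n * (n * n)) = 1 := by
    rw [← pow_orderOf_eq_one n, hord]; simp [pow_succ, mul_assoc]
  have hid : compP p (compP (compP p p) (compP p p)) = idP := c.act_unique hp5 (hn5'.symm ▸ c.act_one)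
  have hnA : ∀ i < 16, n ≠ eA f i := by
    intro i hi e
    have h2 : n * n = 1 := by rw [e, c.eA_mul hi hi, Nat.xor_self, c.eA_zero]
    have := orderOf_dvd_of_pow_eq_one (show n ^ 2 = 1 by rw [pow_two, h2])
    rw [hord] at this
    norm_num at this
  have hne : ∀ {m : G}, (∃ k, n = m ^ k) → ∀ {q : ℕ}, Act f m q → q ∈ Data.actH → m ^ 5 = 1 → False := by
    intro m hk q hq hqH h5
    have hh := List.all_eq_true.1 h5H q hqH
    have hq5 := c.act_mul hq (c.act_mul (c.act_mul hq hq) (c.act_mul hq hq))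
    have e : m * (m * m * (m * m)) = 1 := by rw [← h5]; simp [pow_succ, mul_assoc]
    rw [c.act_unique hq5 (e.symm ▸ c.act_one)] at hh
    simp only [beq_self_eq_true, Bool.not_true, Bool.false_or, beq_iff_eq] at hh
    obtain ⟨i, hi, hmi⟩ := c.act_same c.act_one (hh ▸ hq)
    rw [inv_one, one_mul] at hmi
    obtain ⟨k, hk⟩ := hk
    rcases Nat.even_or_odd' k with ⟨j, rfl | rfl⟩
    · exact hnA 0 (by norm_num) (by rw [hk, pow_mul, pow_two, hmi, c.eA_mul hi hi, Nat.xor_self, c.eA_zero, one_pow])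
    · exact hnA i hi (by rw [hk, pow_succ, pow_mul, pow_two, hmi, c.eA_mul hi hi, Nat.xor_self, c.eA_zero, one_pow, one_mul])
  have hk5 : ∀ k, (n ^ k) ^ 5 = 1 := fun k => by rw [← pow_mul, mul_comm, pow_mul, ← hord, pow_orderOf_eq_one, one_pow]
  have hpow : ∀ {k q : ℕ}, k % 5 ≠ 0 → Act f (n ^ k) q → ∀ v ∈ [4, 8, 12], appP q v ∉ [4, 8, 12] := by
    intro k q hk hq v hv hqv
    have hex : ∃ j, n = (n ^ k) ^ j := by
      have h5 : ∃ j, k * j % 5 = 1 := by
        have : k % 5 < 5 := Nat.mod_lt _ (by norm_num)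
        refine ⟨if k % 5 = 1 then 1 else if k % 5 = 2 then 3 else if k % 5 = 3 then 2 else 4, ?_⟩
        rw [Nat.mul_mod]
        interval_cases h : k % 5 <;> simp_all
      obtain ⟨j, hj⟩ := h5
      refine ⟨j, ?_⟩
      rw [← pow_mul, ← pow_mod_orderOf, hord, hj, pow_one]
    exact hne hex hq (c.act_actH d hq hv hqv) (hk5 k)
  have hfive : fiveB p = true := by
    simp only [fiveB, force_eq, Bool.and_eq_true, beq_iff_eq, List.all_eq_true, Bool.not_eq_true',
      beq_eq_false_iff_ne]
    refine ⟨?_, ⟨hid, fun h => ?_⟩, fun k hk v hv => ?_⟩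
    · refine c.eA_inj (appP_lt _ _) (by norm_num) ?_
      rw [← c.act_all hp _ (appP_lt _ _), ← c.act_all hp _ (appP_lt _ _), ← c.act_all hp _ (appP_lt _ _),
        ← c.act_all hp _ (appP_lt _ _), ← c.act_all hp 1 (by norm_num)]
      calc _ = (n * (n * n * (n * n))) * eA f 1 * (n * (n * n * (n * n)))⁻¹ := by group
        _ = eA f 1 := by rw [hn5']; group
    · obtain ⟨i, hi, e⟩ := c.act_same c.act_one (h ▸ hp)
      rw [inv_one, one_mul] at e
      exact hnA i hi e
    · have hv' : ∀ x, ([4, 8, 12] : List ℕ).contains x = false ↔ x ∉ [4, 8, 12] := fun x => by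
        rw [← List.contains_iff_mem, Bool.not_eq_true]
      rw [hv']
      simp only [List.mem_cons, List.not_mem_nil, or_false] at hk
      rcases hk with rfl | rfl | rfl | rfl
      · exact hpow (k := 1) (by norm_num) (by rw [pow_one]; exact hp) v hv
      · exact hpow (k := 2) (by norm_num) (by rw [pow_two]; exact hp2) v hv
      · exact hpow (k := 3) (by norm_num) (by rw [pow_three]; exact hp3) v hv
      · exact hpow (k := 4) (by norm_num) (by rw [show n ^ 4 = n * n * (n * n) by simp [pow_succ, mul_assoc]]; exact hp4) v hv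
  have hsearch : fiveB p = true → coverB p = true ∧ (closedB p = true → inCos p Data.sigP = true) := by
    intro h5
    have hx : p % 16 < 16 := Nat.mod_lt _ (by norm_num)
    have hy : p / 16 % 16 < 16 := Nat.mod_lt _ (by norm_num)
    have hu : p / 256 % 16 < 16 := Nat.mod_lt _ (by norm_num)
    have hw : p / 4096 % 16 < 16 := Nat.mod_lt _ (by norm_num)
    have hs : searchB (p % 16) (p / 16 % 16) = true := by
      by_cases h8 : p % 16 < 8
      · exact List.all_eq_true.1 (List.all_eq_true.1 search_0 _ (List.mem_range.2 h8)) _ (List.mem_range.2 hy)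
      · exact List.all_eq_true.1 (List.all_eq_true.1 search_1 _ (List.mem_range'_1.2 ⟨by omega, by omega⟩)) _
          (List.mem_range.2 hy)
    have h := List.all_eq_true.1 (List.all_eq_true.1 hs _ (List.mem_range.2 hu)) _ (List.mem_range.2 hw)
    rw [force_eq, show p % 16 + 16 * (p / 16 % 16) + 256 * (p / 256 % 16) + 4096 * (p / 4096 % 16) = p by
      have := hp.1; omega] at h
    simp only [h5, Bool.not_true, Bool.false_or, Bool.and_eq_true, Bool.or_eq_true, Bool.not_eq_true'] at h
    exact ⟨h.1, fun hc => h.2.resolve_left (by rw [hc]; simp)⟩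
  have hcov := (hsearch hfive).1
  have hpw : ∀ {k : ℕ}, k ∈ powL p → ∃ m, Act f m k := by
    intro k hk
    simp only [powL, force_eq, List.mem_cons, List.not_mem_nil, or_false] at hk
    rcases hk with rfl | rfl | rfl | rfl | rfl
    exacts [⟨_, c.act_one⟩, ⟨_, hp⟩, ⟨_, hp2⟩, ⟨_, hp3⟩, ⟨_, hp4⟩]
  refine ⟨n, p, hp, hfive, hcov, ?_, hpw⟩
  -- every action lies in the five cosets
  have hin : ∀ {m : G} {q : ℕ}, Act f m q → q ≠ 0 → appP q 8 ≠ 0 → inCos p q = true := by
    intro m q hm _ hq0
    have h := List.all_eq_true.1 hcov _ (List.mem_range.2 (appP_lt q 8))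
    simp only [Bool.or_eq_true, beq_iff_eq, hq0, false_or, List.any_eq_true] at h
    obtain ⟨k, hk, v, hv, e⟩ := h
    have hex : ∃ k' ∈ powL p, ∃ m', Act f m' k' ∧ appP k' (appP k v) = v := by
      have hv16 : v < 16 := by simp only [List.mem_cons, List.not_mem_nil, or_false] at hv; omega
      have key : ∀ {a b : ℕ} {x y : G}, Act f x a → Act f y b → y * x = 1 → appP b (appP a v) = v := by
        intro a b x y ha hb hyx
        refine c.eA_inj (appP_lt _ _) hv16 ?_
        rw [← c.act_all hb _ (appP_lt _ _), ← c.act_all ha _ hv16,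
          show y * (x * eA f v * x⁻¹) * y⁻¹ = (y * x) * eA f v * (y * x)⁻¹ by group, hyx]
        group
      have e5 : n * n * (n * n) * n = 1 := by
        rw [← pow_orderOf_eq_one n, hord]; simp [pow_succ, mul_assoc]
      simp only [powL, force_eq, List.mem_cons, List.not_mem_nil, or_false] at hk ⊢
      rcases hk with rfl | rfl | rfl | rfl | rfl
      · exact ⟨_, Or.inl rfl, _, c.act_one, key c.act_one c.act_one (one_mul 1)⟩
      · exact ⟨_, Or.inr (Or.inr (Or.inr (Or.inr rfl))), _, hp4, key hp hp4 e5⟩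
      · exact ⟨_, Or.inr (Or.inr (Or.inr (Or.inl rfl))), _, hp3, key hp2 hp3 (by rw [← e5]; group)⟩
      · exact ⟨_, Or.inr (Or.inr (Or.inl rfl)), _, hp2, key hp3 hp2 (by rw [← e5]; group)⟩
      · exact ⟨_, Or.inr (Or.inl rfl), _, hp, key hp4 hp hn5'⟩
    obtain ⟨k', hk', m', hm', e'⟩ := hex
    simp only [inCos, List.any_eq_true, List.contains_iff_mem]
    refine ⟨k', hk', c.act_actH d (c.act_mul hm' hm) (v := 8) (by simp) ?_⟩
    rw [appP_comp _ _ 8 (by simp), ← e, e']
    exact hv
  simp only [closedB, List.all_eq_true]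
  intro h hh
  obtain ⟨m, hm⟩ : ∃ m, Act f m h := by
    rcases List.mem_cons.1 hh with rfl | hh
    · exact ⟨τ, hT.1⟩
    · obtain ⟨u, hu, rfl⟩ := List.mem_map.1 hh
      have hud : u ∈ Data.domV := List.contains_iff_mem.1 (List.all_eq_true.1 normV_checks.2.2.1 u hu)
      have hr := (c.rep_el d hud).1
      have e2 : (trU u + 16 * actU u) / 16 = actU u := by
        have h := List.all_eq_true.1 act_checks.2.1 u hud
        simp only [Bool.and_eq_true, Nat.blt_eq] at h
        omega
      rw [e2] at hr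
      exact ⟨_, hr⟩
  have hm' := c.act_mul hm hp
  have h0 : appP (compP h p) 8 ≠ 0 := fun e => by
    have := hm'.2 8 (by simp)
    rw [e, c.eA_zero, conj_eq_one_iff] at this
    exact absurd (c.eA_inj (by norm_num) (by norm_num) (this.trans c.eA_zero.symm)) (by norm_num)
  refine hin hm' (fun e => h0 ?_) h0
  rw [e]; rfl

/-- The involution. -/
theorem exists_sigma : ∃ σ, SigA f τ σ := by
  classical
  obtain ⟨n, p, hp, hfive, hcov, hclosed, hpw⟩ := c.exists_five d
  obtain ⟨-, -, hH, -, -, hsolve, hcomm, hsq, hsl, -, -⟩ := stab_checks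
  have hin : inCos p Data.sigP = true := by
    have hx : p % 16 < 16 := Nat.mod_lt _ (by norm_num)
    have hy : p / 16 % 16 < 16 := Nat.mod_lt _ (by norm_num)
    have hs : searchB (p % 16) (p / 16 % 16) = true := by
      by_cases h8 : p % 16 < 8
      · exact List.all_eq_true.1 (List.all_eq_true.1 search_0 _ (List.mem_range.2 h8)) _ (List.mem_range.2 hy)
      · exact List.all_eq_true.1 (List.all_eq_true.1 search_1 _ (List.mem_range'_1.2 ⟨by omega, by omega⟩)) _
          (List.mem_range.2 hy)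
    have h := List.all_eq_true.1 (List.all_eq_true.1 hs _ (List.mem_range.2 (Nat.mod_lt (p / 256) (by norm_num))))
      _ (List.mem_range.2 (Nat.mod_lt (p / 4096) (by norm_num)))
    rw [force_eq, show p % 16 + 16 * (p / 16 % 16) + 256 * (p / 256 % 16) + 4096 * (p / 4096 % 16) = p by
      have := hp.1; omega] at h
    simp only [hfive, hcov, hclosed, Bool.not_true, Bool.false_or, Bool.true_and] at h
    exact h
  simp only [inCos, List.any_eq_true, List.contains_iff_mem] at hin
  obtain ⟨k, hk, hkH⟩ := hin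
  obtain ⟨m, hm⟩ := hpw hk
  have hT := c.rep_tau d
  have e1 : (tauV + 16 * tauP) / 16 = tauP := by have := act_checks.2.2.2.2.1; omega
  rw [Rep, e1] at hT
  -- an element with the action in the list of 36
  obtain ⟨y, hy⟩ : ∃ y, Act f y (compP k Data.sigP) := by
    have hdec : Data.actH.all (fun h => [idP, tauP, compP tauP tauP].any fun t =>
        Data.actV.any fun v => (h == compP t v) && Data.domV.any fun u => actU u == v) = true := by decide +kernel
    have := List.all_eq_true.1 hdec _ hkH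
    simp only [List.any_eq_true, Bool.and_eq_true, beq_iff_eq] at this
    obtain ⟨t, ht, v, -, e, u, hu, rfl⟩ := this
    have hr := (c.rep_el d hu).1
    have e2 : (trU u + 16 * actU u) / 16 = actU u := by
      have h := List.all_eq_true.1 act_checks.2.1 u hu
      simp only [Bool.and_eq_true, Nat.blt_eq] at h
      omega
    rw [e2] at hr
    obtain ⟨tn, htn⟩ : ∃ tn, Act f tn t := by
      simp only [List.mem_cons, List.not_mem_nil, or_false] at ht
      rcases ht with rfl | rfl | rfl
      exacts [⟨_, c.act_one⟩, ⟨_, hT.1⟩, ⟨_, c.act_mul hT.1 hT.1⟩]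
    exact ⟨_, e ▸ c.act_mul htn hr⟩
  have hs0 : Act f (m⁻¹ * y) Data.sigP := by
    refine ⟨hsl, fun b hb => ?_⟩
    have h1 := hy.2 b hb
    rw [appP_comp _ _ b hb, ← c.act_all hm _ (appP_lt _ _)] at h1
    calc m⁻¹ * y * eA f b * (m⁻¹ * y)⁻¹ = m⁻¹ * (y * eA f b * y⁻¹) * m := by group
      _ = _ := by rw [h1]; group
  set s := m⁻¹ * y with hs
  have hω := c.om_act d
  obtain ⟨v, hv, hv'⟩ : ∃ v < 16, s * omG f τ * s⁻¹ = eA f v * omG f τ := by
    have h1 := c.act_mul hs0 hω
    rw [hcomm] at h1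
    obtain ⟨i, hi, e⟩ := c.act_same (c.act_mul hω hs0) h1
    refine ⟨appP Data.omP (appP Data.sigP i), appP_lt _ _, ?_⟩
    rw [← c.act_all hω _ (appP_lt _ _), ← c.act_all hs0 _ hi, ← e]
    group
  obtain ⟨b, hb, hb'⟩ : ∃ b < 16, (v ^^^ b ^^^ appP Data.omP b) = 0 := by
    have := List.all_eq_true.1 hsolve v (List.mem_range.2 hv)
    simp only [List.any_eq_true, List.mem_range, beq_iff_eq] at this
    exact this
  set σ := eA f b * s with hσ
  have hbA : Act f (eA f b) idP := ⟨by decide +kernel, fun x hx => by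
    have hx' : x < 16 := by simp only [List.mem_cons, List.not_mem_nil, or_false] at hx; omega
    have : appP idP x = x := by interval_cases x <;> decide +kernel
    rw [this, c.eA_comm hb hx']; group⟩
  have hσa : Act f σ Data.sigP := by
    have := c.act_mul hbA hs0
    rwa [show compP idP Data.sigP = Data.sigP by decide +kernel] at this
  have hσω : σ * omG f τ * σ⁻¹ = omG f τ := by
    rw [hσ, show eA f b * s * omG f τ * (eA f b * s)⁻¹ = eA f b * (s * omG f τ * s⁻¹) * (eA f b)⁻¹ by group, hv',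
      c.eA_inv hb]
    calc eA f b * (eA f v * omG f τ) * eA f b
        = eA f b * eA f v * (omG f τ * eA f b * (omG f τ)⁻¹) * omG f τ := by group
      _ = omG f τ := by
        rw [c.act_all hω b hb, c.eA_mul hb hv, c.eA_mul (Nat.xor_lt_two_pow (n := 4) hb hv) (appP_lt _ _),
          Nat.xor_comm b v, hb', c.eA_zero, one_mul]
  have hrep : Rep f τ σ (16 * Data.sigP) := by
    refine ⟨by rw [Nat.mul_div_cancel_left _ (by norm_num)]; exact hσa, ?_⟩
    rw [Nat.mul_mod_right, c.eA_zero, one_mul, hσω]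
  have hσ2 : σ * σ = 1 := by
    have h2 := c.rep_mul d hrep hrep
    rw [show affM (16 * Data.sigP) (16 * Data.sigP) = 16 * idP by decide +kernel] at h2
    exact c.rep_unique d h2 (c.rep_one d)
  have hlet : ∀ u, letA u = true → Rep f τ (lv (el f) τ σ u) (repL u) := by
    intro u hu
    simp only [letA, Bool.or_eq_true, Bool.and_eq_true, Nat.ble_eq, List.contains_iff_mem] at hu
    rcases hu with hu | ⟨h1, h2⟩
    · rw [lv_el (c.memV hu).1, repL, if_pos (Nat.blt_eq.mpr (c.memV hu).1)]
      exact c.rep_el d hu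
    · interval_cases u
      · simpa [lv, repL] using c.rep_tau d
      · have hti : τ⁻¹ = τ * τ := inv_eq_of_mul_eq_one_right (by rw [← mul_assoc]; exact d.cube)
        simpa [lv, repL, hti] using c.rep_mul d (c.rep_tau d) (c.rep_tau d)
      · simpa [lv, repL] using hrep
  have hword : ∀ w : List ℕ, w.all letA = true → Rep f τ (wv (el f) τ σ w) (repW w) := by
    intro w hw
    induction w with
    | nil => exact c.rep_one d
    | cons u w ih =>
      rw [List.all_cons, Bool.and_eq_true] at hw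
      rw [wv_cons, repW, force_eq]
      exact c.rep_mul d (hlet u hw.1) (ih hw.2)
  have hsys : Sys (el f) τ σ := by
    refine ⟨fun a b ha hb => c.mul ha hb, fun a ha => el_inv c.rel ha, c.one, fun u hu ht => ?_, fun u hu ht => ?_,
      fun u hu ht => ?_, hσ2⟩
    · rw [← d.conj u hu ht]; group
    · have h := List.all_eq_true.1 sys_checks.1 u (List.mem_range.2 hu)
      rw [Bool.or_eq_true, Bool.not_eq_true', show (taiN u).blt 1920 = true by rw [Nat.blt_eq]; exact ht] at h
      simp only [Bool.true_eq_false, false_or, Bool.and_eq_true, beq_iff_eq, Nat.blt_eq] at h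
      have := d.conj _ ht h.1
      rw [h.2] at this
      rw [← this]; group
    · have h := List.all_eq_true.1 sys_checks.2 u (List.mem_range.2 hu)
      rw [Bool.or_eq_true, Bool.not_eq_true', show (sigN u).blt 1920 = true by rw [Nat.blt_eq]; exact ht] at h
      simp only [Bool.true_eq_false, false_or, List.any_eq_true, List.mem_range, Bool.and_eq_true, beq_iff_eq] at h
      obtain ⟨i, hi, rfl, e⟩ := h
      rw [← e]
      have := c.act_all hσa i hi
      rw [eA, eA] at this
      rw [← this]; group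
  refine ⟨σ, hsys, hrep, fun w hw => ?_, hword⟩
  obtain ⟨-, hr, htk⟩ := rel_checksM
  rw [← List.take_append_drop 2 Data.relsM.dropLast, List.mem_append] at hw
  rcases hw with hw | hw
  · rw [htk] at hw
    simp only [List.mem_cons, List.not_mem_nil, or_false] at hw
    rcases hw with rfl | rfl
    · simp only [wv, lv, List.map_cons, List.map_nil, List.prod_cons, List.prod_nil, mul_one]
      simpa [mul_assoc] using d.cube
    · have h4 : invN Data.relK < 1920 := range_nums.inv _ (by decide +kernel)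
      simp only [wv, lv, List.map_cons, List.map_nil, List.prod_cons, List.prod_nil, mul_one, h4, if_true,
        show (4 : ℕ) < 1920 by norm_num, show ¬ (1920 : ℕ) < 1920 by norm_num, if_false]
      rw [el_inv c.rel (by decide +kernel), ← mul_assoc, ← mul_assoc, ← mul_assoc, d.relk, mul_inv_cancel]
  · have h := List.all_eq_true.1 hr w hw
    rw [Bool.and_eq_true, beq_iff_eq] at h
    have hR := hword w h.1
    rw [h.2] at hR
    exact c.rep_unique d hR (c.rep_one d)

end Ctx

end CfsgLib.JThreeUniq
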