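import Cfsg.Agent.Lib.J3.InvolCent.Main
import Cfsg.Agent.Lib.J3.SylowSelf
import Cfsg.Agent.Lib.JThreeType.Exponent
import Cfsg.Agent.Lib.Invol.Embedded

/-!
A subgroup isomorphic to the third Janko group which contains the centralizer of an involution is the whole
group: otherwise it would be strongly embedded and would have a subgroup of odd order divisible by `17 * 19`.
-/

set_option autoImplicit false
set_option linter.style.haveILetI false
set_option linter.unusedVariables false

namespace CfsgLib.JThreeUniq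

open Subgroup

universe u

/-- The facts about the third Janko group that are used. -/
theorem j3_facts {H : Type u} [Group H] [Finite H] (hH : Cfsg.Spor.IsoJ3 H) :
    (∀ x y : H, orderOf x = 2 → orderOf y = 2 → IsConj x y) ∧
      (∃ t : H, orderOf t = 2 ∧ Nat.card (centralizer ({t} : Set H)) = 1920) ∧
      ∃ g : H, orderOf g = 19 ∧ ∀ y : H, Commute y g → y ∈ zpowers g := by
  obtain ⟨F, _, K, ⟨e⟩⟩ := CfsgLib.J3.exists_iso_model hH
  haveI := K.finite
  obtain ⟨hone, t, ht, Q, hQn, -, hcard, -, -, ⟨e5⟩⟩ := CfsgLib.J3.InvolCent.oneInvolClass (K := K)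
  haveI : Finite (CfsgLib.J3.grpG K ⧸ center (CfsgLib.J3.grpG K)) := Finite.of_equiv H e.toEquiv
  haveI := hQn
  refine ⟨fun x y hx hy => ?_, ⟨e.symm t, by rw [MulEquiv.orderOf_eq, ht], ?_⟩,
    CfsgLib.J3.exists_cent19 hH⟩
  · have := (e.symm.toMonoidHom).map_isConj (hone (e x) (e y) (by rw [MulEquiv.orderOf_eq, hx])
      (by rw [MulEquiv.orderOf_eq, hy]))
    simpa using this
  · rw [← CfsgLib.JThreeType.card_centralizer_conj t Q hone ht hcard e5 t ht]
    refine Nat.card_congr (e.toEquiv.subtypeEquiv fun x => ?_)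
    simp only [mem_centralizer_singleton_iff]
    constructor
    · intro h
      simpa using congrArg e h
    · intro h
      refine e.injective ?_
      simpa using h

/-- Conjugation identifies the stabiliser with the centralizer. -/
theorem card_stabilizer_conjAct {H : Type*} [Group H] (s : H) :
    Nat.card (MulAction.stabilizer (ConjAct H) s) = Nat.card (centralizer ({s} : Set H)) :=
  Nat.card_congr (ConjAct.ofConjAct.toEquiv.subtypeEquiv fun c => by
    rw [MulAction.mem_stabilizer_iff, ConjAct.smul_def, mem_centralizer_singleton_iff, mul_inv_eq_iff_eq_mul]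
    rfl)

/-- An element of order seventeen cannot normalise a subgroup of order nineteen. -/
theorem not_normalize {H : Type*} [Group H] [Finite H] {g : H} (hg : orderOf g = 19)
    (hcent : ∀ y : H, Commute y g → y ∈ zpowers g) (h19 : ¬ 19 ^ 2 ∣ Nat.card H)
    {X : Subgroup H} (hX : Nat.card X = 19) {y : H} (hy : y ^ 17 = 1)
    (hnorm : ∀ x ∈ X, y * x * y⁻¹ ∈ X) : y = 1 := by
  haveI : Fact (Nat.Prime 19) := ⟨by norm_num⟩
  let P1 : Sylow 19 H := (IsPGroup.of_card (n := 1) (by rw [hX, pow_one])).toSylow (by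
    intro hd
    refine h19 ?_
    obtain ⟨k, hk⟩ := hd
    exact ⟨k, by rw [← X.card_mul_index, hX, hk]; ring⟩)
  have hZ : Nat.card (zpowers g) = 19 := by rw [Nat.card_zpowers, hg]
  let P2 : Sylow 19 H := (IsPGroup.of_card (n := 1) (by rw [hZ, pow_one])).toSylow (by
    intro hd
    refine h19 ?_
    obtain ⟨k, hk⟩ := hd
    exact ⟨k, by rw [← (zpowers g).card_mul_index, hZ, hk]; ring⟩)
  obtain ⟨c, hc⟩ := MulAction.exists_smul_eq H P1 P2
  have hmem : ∀ w : H, w ∈ X ↔ c * w * c⁻¹ ∈ zpowers g := by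
    intro w
    have h2 : (P2 : Subgroup H) = (P1 : Subgroup H).map (MulAut.conj c).toMonoidHom := by
      rw [← hc, Sylow.coe_subgroup_smul]
      rfl
    rw [show zpowers g = (P2 : Subgroup H) from rfl, h2]
    exact ⟨fun hw => ⟨w, hw, rfl⟩, fun ⟨v, hv, hvw⟩ => (MulAut.conj c).injective hvw ▸ hv⟩
  set y' := c * y * c⁻¹ with hy'
  have hn : ∀ w ∈ zpowers g, y' * w * y'⁻¹ ∈ zpowers g := by
    intro w hw
    have h1 : c⁻¹ * w * c ∈ X := (hmem _).2 (by simpa [mul_assoc] using hw)
    have h2 := (hmem _).1 (hnorm _ h1)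
    convert h2 using 1
    rw [hy']
    group
  obtain ⟨a, ha⟩ : ∃ a : ℕ, y' * g * y'⁻¹ = g ^ a := by
    have := hn g (mem_zpowers g)
    rw [← mem_powers_iff_mem_zpowers] at this
    obtain ⟨a, ha⟩ := this
    exact ⟨a, ha.symm⟩
  have hpow : ∀ k : ℕ, y' ^ k * g * (y' ^ k)⁻¹ = g ^ (a ^ k) := by
    intro k
    induction k with
    | zero => simp
    | succ k ih =>
      rw [pow_succ', show y' * y' ^ k * g * (y' * y' ^ k)⁻¹ = y' * (y' ^ k * g * (y' ^ k)⁻¹) * y'⁻¹ by group,
        ih, ← conj_pow, ha, ← pow_mul, pow_succ']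
  have h17 : y' ^ 17 = 1 := by rw [hy', conj_pow, hy]; group
  have h1 := hpow 17
  rw [h17, inv_one, one_mul, mul_one] at h1
  have hmod : a ^ 17 % 19 = 1 := by
    have h2 : g ^ (a ^ 17) = g ^ 1 := by rw [← h1, pow_one]
    rw [pow_eq_pow_iff_modEq, hg] at h2
    exact h2
  have ha1 : a % 19 = 1 := by
    have key : ∀ b < 19, b ^ 17 % 19 = 1 → b = 1 := by decide +kernel
    refine key _ (Nat.mod_lt _ (by norm_num)) ?_
    rwa [← Nat.pow_mod]
  have hcomm : Commute y' g := by
    have h2 : g ^ a = g ^ 1 := by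
      rw [pow_eq_pow_iff_modEq, hg]
      exact ha1
    rw [h2, pow_one] at ha
    show y' * g = g * y'
    calc y' * g = y' * g * y'⁻¹ * y' := by group
      _ = g * y' := by rw [ha]
  have hz := hcent y' hcomm
  have h19' : y' ^ 19 = 1 := by
    obtain ⟨i, hi⟩ := mem_zpowers_iff.1 hz
    rw [← hi, ← zpow_natCast, ← zpow_mul, mul_comm, zpow_mul, zpow_natCast, ← hg, pow_orderOf_eq_one,
      one_zpow]
  have hy1 : y' = 1 := by simpa using pow_gcd_eq_one.2 ⟨h17, h19'⟩
  calc y = c⁻¹ * y' * c := by rw [hy']; group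
    _ = 1 := by rw [hy1]; group

/-- The third Janko group has no subgroup of odd order divisible by `17` and `19`. -/
theorem no_odd_subgroup {H : Type*} [Group H] [Finite H] {g : H} (hg : orderOf g = 19)
    (hcent : ∀ y : H, Commute y g → y ∈ zpowers g) (h19 : ¬ 19 ^ 2 ∣ Nat.card H) (h17 : ¬ 17 ^ 2 ∣ Nat.card H)
    {D : Subgroup H} (hD : Odd (Nat.card D)) (d17 : 17 ∣ Nat.card D) (d19 : 19 ∣ Nat.card D) : False := by
  haveI : Fact (Nat.Prime 17) := ⟨by norm_num⟩
  haveI : Fact (Nat.Prime 19) := ⟨by norm_num⟩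
  obtain ⟨Y⟩ : Nonempty (Sylow 17 D) := inferInstance
  have hDH : Nat.card D ∣ Nat.card H := card_subgroup_dvd_card D
  have hY : Nat.card (Y : Subgroup D) = 17 :=
    CfsgLib.J3.sylow_card_prime Y d17 fun h => h17 (h.trans hDH)
  haveI : IsCyclic (Y : Subgroup D) := isCyclic_of_prime_card hY
  haveI : IsMulCommutative (Y : Subgroup D) := inferInstance
  -- the normaliser of `Y` centralises it
  have hNC : normalizer ((Y : Subgroup D) : Set D) ≤ centralizer ((Y : Subgroup D) : Set D) := by
    intro n hn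
    obtain ⟨⟨v, hv⟩, hgen⟩ := IsCyclic.exists_generator (α := (Y : Subgroup D))
    have hpowmem : ∀ w ∈ (Y : Subgroup D), ∃ k : ℕ, w = v ^ k := by
      intro w hw
      have := hgen ⟨w, hw⟩
      rw [← mem_powers_iff_mem_zpowers] at this
      obtain ⟨k, hk⟩ := this
      exact ⟨k, (congrArg Subtype.val hk).symm⟩
    obtain ⟨a, ha⟩ := hpowmem _ ((mem_normalizer_iff.1 hn v).1 hv)
    have hpow : ∀ k : ℕ, n ^ k * v * (n ^ k)⁻¹ = v ^ (a ^ k) := by
      intro k
      induction k with
      | zero => simp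
      | succ k ih =>
        rw [pow_succ', show n * n ^ k * v * (n * n ^ k)⁻¹ = n * (n ^ k * v * (n ^ k)⁻¹) * n⁻¹ by group,
          ih, ← conj_pow, ha, ← pow_mul, pow_succ']
    have hvord : orderOf v = 17 := by
      refine orderOf_eq_prime ?_ ?_
      · have := pow_card_eq_one' (x := (⟨v, hv⟩ : (Y : Subgroup D)))
        rw [hY] at this
        exact congrArg Subtype.val this
      · intro h
        have hall : ∀ w : (Y : Subgroup D), w = 1 := by
          intro w
          obtain ⟨k, hk⟩ := hpowmem w w.2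
          exact Subtype.ext (by rw [hk, h, one_pow]; rfl)
        haveI : Subsingleton (Y : Subgroup D) := ⟨fun x y => by rw [hall x, hall y]⟩
        rw [Nat.card_of_subsingleton (1 : (Y : Subgroup D))] at hY
        norm_num at hY
    -- the order of `n` is odd
    obtain ⟨m, hm⟩ : Odd (orderOf n) := hD.of_dvd_nat (orderOf_dvd_natCard n)
    have h1 := hpow (orderOf n)
    rw [pow_orderOf_eq_one, inv_one, one_mul, mul_one] at h1
    have hmod : a ^ orderOf n % 17 = 1 := by
      have h2 : v ^ (a ^ orderOf n) = v ^ 1 := by rw [← h1, pow_one]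
      rw [pow_eq_pow_iff_modEq, hvord] at h2
      exact h2
    have ha1 : a % 17 = 1 := by
      have key : ∀ b < 17, ∀ r < 8, b ^ (2 * r + 1) % 17 = 1 → b = 1 := by decide +kernel
      have key16 : ∀ b < 17, b ≠ 0 → b ^ 16 % 17 = 1 := by decide +kernel
      refine key _ (Nat.mod_lt _ (by norm_num)) (m % 8) (Nat.mod_lt _ (by norm_num)) ?_
      have hb : a % 17 ≠ 0 := by
        intro h0
        rw [Nat.pow_mod, h0, zero_pow (by omega)] at hmod
        norm_num at hmod
      have h16 := key16 _ (Nat.mod_lt _ (by norm_num)) hb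
      rw [hm, Nat.pow_mod] at hmod
      generalize a % 17 = b at hmod h16 hb ⊢
      have e : b ^ (2 * m + 1) % 17 = b ^ (2 * (m % 8) + 1) % 17 := by
        conv_lhs => rw [show 2 * m + 1 = 16 * (m / 8) + (2 * (m % 8) + 1) by omega, pow_add, pow_mul]
        rw [Nat.mul_mod, Nat.pow_mod (b ^ 16), h16, one_pow, Nat.one_mod, one_mul, Nat.mod_mod]
      rw [← e]
      exact hmod
    have hnv : n * v = v * n := by
      have h2 : v ^ a = v ^ 1 := by
        rw [pow_eq_pow_iff_modEq, hvord]
        exact ha1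
      rw [h2, pow_one] at ha
      calc n * v = n * v * n⁻¹ * n := by group
        _ = v * n := by rw [ha]
    rw [mem_centralizer_iff]
    intro w hw
    obtain ⟨k, rfl⟩ := hpowmem w hw
    exact ((Commute.symm hnv).pow_left k).eq
  have hcomp := MonoidHom.ker_transferSylow_isComplement' Y hNC
  set K := (MonoidHom.transferSylow Y hNC).ker with hKdef
  have hKY : Nat.card K * 17 = Nat.card D := by
    have := hcomp.card_mul_card
    rwa [hY] at this
  have d19K : 19 ∣ Nat.card K := by
    rw [← hKY] at d19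
    exact (Nat.Coprime.dvd_mul_right (by norm_num)).1 d19
  have h17K : ¬ 17 ∣ Nat.card K := fun h => h17 ((show (17 : ℕ) ^ 2 ∣ Nat.card D by
    obtain ⟨k, hk⟩ := h
    exact ⟨k, by rw [← hKY, hk]; ring⟩).trans hDH)
  -- a Sylow subgroup for `19` of `K` fixed by `Y`
  obtain ⟨v, hv⟩ := exists_prime_orderOf_dvd_card' (G := (Y : Subgroup D)) 17 (by rw [hY])
  let φ : K ≃* K := MulAut.conjNormal (v : D)
  have hnum : ¬ 17 ∣ Nat.card (Sylow 19 K) := fun h =>
    h17K (h.trans ((Sylow.card_dvd_index (default : Sylow 19 K)).trans (index_dvd_card _)))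
  haveI : IsPGroup 17 (Y : Subgroup D) := Y.isPGroup'
  letI : MulAction (Y : Subgroup D) (Sylow 19 K) :=
    MulAction.compHom _ ((MulAut.conjNormal (H := K)).comp (Y : Subgroup D).subtype)
  obtain ⟨P, hP⟩ := (Y.isPGroup').nonempty_fixed_point_of_prime_not_dvd_card (Sylow 19 K) hnum
  have hPcard : Nat.card (P : Subgroup K) = 19 :=
    CfsgLib.J3.sylow_card_prime P d19K fun h => h19 ((h.trans (card_subgroup_dvd_card K)).trans hDH)
  set X : Subgroup H := ((P : Subgroup K).map K.subtype).map D.subtype with hXdef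
  have hX : Nat.card X = 19 := by
    rw [hXdef, card_map_of_injective D.subtype_injective, card_map_of_injective K.subtype_injective,
      hPcard]
  have hy17 : ((v : D) : H) ^ 17 = 1 := by
    have h := pow_orderOf_eq_one v
    rw [hv] at h
    exact congrArg (fun w : (Y : Subgroup D) => ((w : D) : H)) h
  have hfix : v • P = P := hP v
  have := not_normalize hg hcent h19 hX hy17 (fun x hx => by
    obtain ⟨x1, ⟨k, hk, rfl⟩, rfl⟩ := hx
    have hmem : MulAut.conjNormal (v : D) k ∈ (P : Subgroup K) := by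
      rw [← hfix]
      exact ⟨k, hk, rfl⟩
    exact ⟨(MulAut.conjNormal (v : D) k : K), ⟨_, hmem, rfl⟩, by simp⟩)
  have hv1 : v = 1 := Subtype.ext (Subtype.ext this)
  rw [hv1, orderOf_one] at hv
  norm_num at hv

/-- A subgroup isomorphic to the third Janko group that contains an involution centralizer is everything. -/
theorem eq_top_of_iso {G : Type*} [Group G] [Finite G] [IsSimpleGroup G] (t : G) (ht : orderOf t = 2)
    (hone : ∀ x y : G, orderOf x = 2 → orderOf y = 2 → IsConj x y) (H : Subgroup G)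
    (hH : Cfsg.Spor.IsoJ3 H) (hC : centralizer ({t} : Set G) ≤ H) : H = ⊤ := by
  obtain ⟨honeH, ⟨s, hs, hCs⟩, g, hg, hcent⟩ := j3_facts hH
  have htH : t ∈ H := hC (mem_centralizer_singleton_iff.2 rfl)
  have hinH : ∀ a ∈ H, orderOf a = 2 → ∃ h ∈ H, a = h * t * h⁻¹ := by
    intro a haH ha
    obtain ⟨c, hc⟩ := isConj_iff.1 (honeH ⟨t, htH⟩ ⟨a, haH⟩ (by rw [orderOf_mk]; exact ht)
      (by rw [orderOf_mk]; exact ha))
    exact ⟨c, c.2, (congrArg Subtype.val hc).symm⟩
  by_contra hne
  have hEven : Even (Nat.card H) := by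
    rw [even_iff_two_dvd]
    have := H.orderOf_dvd_natCard htH
    rwa [ht] at this
  have hSE : Cfsg.IsStronglyEmbedded H := by
    refine ⟨hne, hEven, fun a ha => ?_⟩
    rw [← Nat.not_even_iff_odd, even_iff_two_dvd]
    intro h2
    obtain ⟨j, hj⟩ := exists_prime_orderOf_dvd_card'
      (G := ↥(H ⊓ H.map (MulAut.conj a).toMonoidHom)) 2 h2
    rw [← Subgroup.orderOf_coe] at hj
    obtain ⟨hjH, b, hb, hbj⟩ := j.2
    have hbj' : a * b * a⁻¹ = (j : G) := hbj
    have hb2 : orderOf b = 2 := by
      rw [← hj, ← hbj', CfsgLib.Invol.orderOf_conj_eq]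
    obtain ⟨h1, hh1, e1⟩ := hinH _ hjH hj
    obtain ⟨h2', hh2, e2⟩ := hinH b hb hb2
    have hc : h1⁻¹ * a * h2' ∈ centralizer ({t} : Set G) := by
      rw [mem_centralizer_singleton_iff]
      have : h1 * t * h1⁻¹ = a * (h2' * t * h2'⁻¹) * a⁻¹ := by rw [← e1, ← e2, hbj']
      calc h1⁻¹ * a * h2' * t = h1⁻¹ * (a * (h2' * t * h2'⁻¹) * a⁻¹) * a * h2' := by group
        _ = t * (h1⁻¹ * a * h2') := by rw [← this]; group
    refine ha ?_
    have := mul_mem (mul_mem hh1 (hC hc)) (inv_mem hh2)
    simpa [mul_assoc] using this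
  -- an involution outside
  obtain ⟨u, hu, huH⟩ : ∃ u : G, orderOf u = 2 ∧ u ∉ H := by
    by_contra hall
    push Not at hall
    haveI hnormal : (normalClosure ({t} : Set G)).Normal := normalClosure_normal
    have hle : normalClosure ({t} : Set G) ≤ H := by
      refine (closure_le _).2 fun w hw => ?_
      obtain ⟨z, hz, hzw⟩ := Group.mem_conjugatesOfSet_iff.1 hw
      rw [Set.mem_singleton_iff] at hz
      subst hz
      obtain ⟨c, rfl⟩ := isConj_iff.1 hzw
      exact hall _ (by rw [CfsgLib.Invol.orderOf_conj_eq, ht])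
    rcases hnormal.eq_bot_or_eq_top with h | h
    · have : t ∈ normalClosure ({t} : Set G) := subset_normalClosure rfl
      rw [h, mem_bot] at this
      rw [this, orderOf_one] at ht
      norm_num at ht
    · exact hne (top_le_iff.1 (h ▸ hle))
  -- the odd subgroup
  set D : Subgroup H := (H ⊓ H.map (MulAut.conj u).toMonoidHom).subgroupOf H with hDdef
  have hDodd : Odd (Nat.card D) := by
    rw [hDdef, Nat.card_congr (subgroupOfEquivOfLe inf_le_left).toEquiv]
    exact hSE.2.2 u huH
  haveI : Fintype ↥D := Fintype.ofFinite _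
  have hdvd : 26163 ∣ Nat.card D := by
    have hcardH := CfsgLib.J3.card_of_iso hH
    letI : MulAction D H := MulAction.compHom H (ConjAct.toConjAct.toMonoidHom.comp D.subtype)
    have horb : MulAction.orbit D s = {a : H | orderOf a = 2} := by
      ext a
      constructor
      · rintro ⟨d, rfl⟩
        show orderOf ((d : H) * s * (d : H)⁻¹) = 2
        rw [CfsgLib.Invol.orderOf_conj_eq, hs]
      · intro ha
        obtain ⟨d, hd, hds⟩ := CfsgLib.Invol.stronglyEmbedded_transitive hSE hu huH
          (s := (s : G)) (t := (a : G)) (by rw [Subgroup.orderOf_coe, hs]) s.2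
          (by rw [Subgroup.orderOf_coe]; exact ha) a.2
        exact ⟨⟨⟨d, hd.1⟩, hd⟩, Subtype.ext hds⟩
    have hconj : {a : H | orderOf a = 2} = MulAction.orbit (ConjAct H) s := by
      ext a
      rw [ConjAct.mem_orbit_conjAct]
      exact ⟨fun ha => honeH a s ha hs, fun h => by
        obtain ⟨c, hc⟩ := isConj_iff.1 h.symm
        show orderOf a = 2
        rw [← hc, CfsgLib.Invol.orderOf_conj_eq, hs]⟩
    have h1 : Nat.card (MulAction.orbit (ConjAct H) s) = 26163 := by
      have h2 := (MulAction.stabilizer (ConjAct H) s).card_mul_index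
      rw [MulAction.index_stabilizer, ← Nat.card_coe_set_eq] at h2
      rw [show Nat.card (ConjAct H) = 50232960 by rw [← hcardH]; exact Nat.card_congr ConjAct.ofConjAct.toEquiv,
        show Nat.card (MulAction.stabilizer (ConjAct H) s) = 1920 by
          rw [card_stabilizer_conjAct, hCs]] at h2
      omega
    have h3 := (MulAction.stabilizer D s).card_mul_index
    rw [MulAction.index_stabilizer, horb, hconj, ← Nat.card_coe_set_eq, h1] at h3
    exact ⟨_, by rw [← h3, mul_comm]⟩
  have hcardH := CfsgLib.J3.card_of_iso hH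
  exact no_odd_subgroup hg hcent (by rw [hcardH]; norm_num) (by rw [hcardH]; norm_num) hDodd
    ((show 17 ∣ 26163 by norm_num).trans hdvd) ((show 19 ∣ 26163 by norm_num).trans hdvd)

end CfsgLib.JThreeUniq
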