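import Cfsg.Agent.Lib.JThreeUniq.Collapse
import Cfsg.Agent.Lib.JThreeUniq.Iso
import Cfsg.Agent.Lib.JThreeUniq.Coords
import Cfsg.Agent.Lib.JThreeUniq.NormA
import Cfsg.Agent.Lib.JThreeUniq.Top

/-!
Uniqueness of the third Janko group, assembled: given that one of the 24 candidates holds and given coordinates in
the third Janko group itself.
-/

set_option autoImplicit false

namespace CfsgLib.JThreeUniq

open Subgroup CfsgLib.JTwoUniq CfsgLib.JTwoUniq.Coset

/-- Coordinates, `τ` and `σ` for the third Janko group. -/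
def Witness : Prop :=
  ∃ (M : Type) (_ : Group M) (_ : IsSimpleGroup M) (f : ℕ → M) (τ σ : M), Cfsg.Spor.IsoJ3 M ∧
    (∀ w ∈ JTwoUniq.Data.relC, ev f w = 1) ∧ Sys (el f) τ σ ∧ (∀ w ∈ Data.relsM, wv (el f) τ σ w = 1) ∧
    closure (f '' {i | i < 10} ∪ {τ, σ}) = ⊤

/-- One of the candidates holds in every setting. -/
def HasVariant {G : Type*} [Group G] (z : G) (f : ℕ → G) : Prop :=
  ∀ τ σ, TauV f τ → SigA f τ σ → ∃ w ∈ Data.variants, wv (el f) τ σ w = 1

theorem mem_relsM {w : List ℕ} (h : w ∈ Data.relsM) :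
    w ∈ Data.relsM.dropLast ∨ w ∈ certM.rels.drop 13 := by
  have hd : Data.relsM.take 13 = Data.relsM.dropLast := by decide +kernel
  rw [← List.take_append_drop 13 Data.relsM, List.mem_append, hd] at h
  exact h

theorem tau_one : tauN 1 < 1920 ∧ tauN 1 ≠ 1 := by
  refine ⟨?_, ?_⟩ <;> decide +kernel

/-- The relations of certificate M hold. -/
theorem Ctx.rels_M {G : Type*} [Group G] {z : G} {f : ℕ → G} (c : Ctx z f) {τ σ : G} (d : TauV f τ)
    (a : SigA f τ σ) (hv : ∃ w ∈ Data.variants, wv (el f) τ σ w = 1) :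
    ∀ w ∈ Data.relsM, wv (el f) τ σ w = 1 := by
  obtain ⟨v, hv, hv1⟩ := hv
  obtain ⟨i, hi, hiv⟩ := List.mem_iff_getElem.1 hv
  obtain ⟨hdl, hdr, hlen⟩ := variant_checks
  have hlc : certAt.length = 24 := rfl
  have hi' : i < certAt.length := by omega
  have e1 : (certAt.getD i certM).rels.drop 13 = [nf v] := by
    have := congrArg (fun l => l.getD i []) hdr
    simp only [List.getD_eq_getElem?_getD, List.getElem?_map, List.getElem?_eq_getElem hi,
      List.getElem?_eq_getElem hi', Option.map_some, Option.getD_some, hiv] at this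
    rwa [List.getD_eq_getElem _ _ hi']
  have e2 : (certAt.getD i certM).rels.dropLast = Data.relsM.dropLast := by
    have := congrArg (fun l => l.getD i []) hdl
    simp only [List.getD_eq_getElem?_getD, List.getElem?_map, List.getElem?_eq_getElem hi',
      Option.map_some, Option.getD_some, List.getElem?_replicate, show i < 24 by omega, if_true] at this
    rwa [List.getD_eq_getElem _ _ hi']
  have hl : ∀ w ∈ (certAt.getD i certM).rels, wv (el f) τ σ w = 1 := by
    intro w hw
    have ht : (certAt.getD i certM).rels.take 13 = Data.relsM.dropLast := by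
      have hlen' : (certAt.getD i certM).rels.length = 14 := by
        have h1 := congrArg List.length e1
        simp only [List.length_drop, List.length_singleton] at h1
        omega
      rw [← e2, List.dropLast_eq_take, hlen']
    rw [← List.take_append_drop 13 (certAt.getD i certM).rels, List.mem_append, ht, e1] at hw
    rcases hw with hw | hw
    · exact a.rels w hw
    · rw [List.mem_singleton.1 hw, nf_value a.sys range_nums, hv1]
  rcases Nat.eq_zero_or_pos i with h0 | h0
  · subst h0
    exact hl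
  · exfalso
    have hz : centralizer ({z} : Set G) = MulAction.stabilizer G (QuotientGroup.mk 1 : G ⧸ centralizer ({z} : Set G)) := by
      ext x
      rw [MulAction.mem_stabilizer_iff, MulAction.Quotient.smul_mk, smul_eq_mul, mul_one, QuotientGroup.eq,
        mul_one, inv_mem_iff]
    have hfix := fix_of_variant a.sys (o := (QuotientGroup.mk 1 : G ⧸ centralizer ({z} : Set G)))
      (fun u hu => MulAction.mem_stabilizer_iff.1 (hz ▸ c.mem hu)) h0 (by omega) hl
    have hmem : τ ∈ centralizer ({z} : Set G) := hz ▸ MulAction.mem_stabilizer_iff.2 hfix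
    have h2 := d.conj 1 (by norm_num) tau_one.1
    rw [c.el1, mem_centralizer_singleton_iff.1 hmem, mul_inv_cancel_right] at h2
    exact tau_one.2 (c.inj tau_one.1 (by norm_num) (h2.symm.trans c.el1.symm))

theorem isoJ3_of_equiv {A B : Type*} [Group A] [Group B] (e : A ≃* B) (h : Cfsg.Spor.IsoJ3 A) :
    Cfsg.Spor.IsoJ3 B := by
  obtain ⟨F, i1, i2, ω, hF, hω, ⟨i⟩⟩ := h
  exact ⟨F, i1, i2, ω, hF, hω, ⟨e.symm.trans i⟩⟩

/-- With coordinates the group is the third Janko group. -/
theorem Ctx.iso {G : Type*} [Group G] [Finite G] [IsSimpleGroup G] {z : G} {f : ℕ → G} (c : Ctx z f)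
    (ht : orderOf z = 2) {τ σ : G} (a : SigA f τ σ) (hr : ∀ w ∈ Data.relsM, wv (el f) τ σ w = 1)
    (W : Witness) : Cfsg.Spor.IsoJ3 G := by
  obtain ⟨M, _, _, g, τ', σ', hM, hg, S, hgr, hgen⟩ := W
  obtain ⟨e⟩ := iso_of_pair hg c.rel S a.sys hgr hr hgen (CfsgLib.J3.card_of_iso hM)
    (fun h => by rw [c.f0] at h; rw [h, orderOf_one] at ht; norm_num at ht)
  set H : Subgroup G := closure (f '' {i | i < 10} ∪ {τ, σ})
  have hH : Cfsg.Spor.IsoJ3 H := isoJ3_of_equiv e hM
  have htop : H = ⊤ := eq_top_of_iso z ht c.hone H hH (c.gen ▸ closure_mono Set.subset_union_left)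
  exact isoJ3_of_equiv ((MulEquiv.subgroupCongr htop).trans Subgroup.topEquiv) hH

/-- The third Janko group from the centralizer of an involution, given the candidates and the coordinates in
the third Janko group. -/
theorem iso_of_hyps_of (W : Witness) {G : Type*} [Group G] [Finite G] [IsSimpleGroup G]
    (V : ∀ (z : G) (f : ℕ → G), Ctx z f → HasVariant z f) (t : G) (ht : orderOf t = 2)
    (Q : Subgroup (centralizer ({t} : Set G))) [Q.Normal]
    (hQ : Cfsg.IsExtraspecial 2 Q) (hcard : Nat.card Q = 32)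
    (h2c : centralizer (Q : Set (centralizer ({t} : Set G))) ≤ Q)
    (e : (centralizer ({t} : Set G)) ⧸ Q ≃* alternatingGroup (Fin 5))
    (hone : ∀ x y : G, orderOf x = 2 → orderOf y = 2 → IsConj x y) : Cfsg.Spor.IsoJ3 G := by
  obtain ⟨f, c⟩ := exists_ctx (setup_of t ht Q hQ hcard h2c e hone) hone
  obtain ⟨τ, d⟩ := c.exists_tau
  obtain ⟨σ, a⟩ := c.exists_sigma d
  exact c.iso ht a (c.rels_M d a (V t f c τ σ d a)) W

end CfsgLib.JThreeUniq
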