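import Cfsg.Agent.Lib.JThreeUniq.Ctx

/-!
The normalizer of a four-group containing the involution: an element of order three.
-/

set_option autoImplicit false
set_option maxRecDepth 100000

namespace CfsgLib.JThreeUniq

open CfsgLib.JTwoUniq CfsgLib.JTwoUniq.Coset Subgroup

/-- A product of images of the three generators. -/
def evN (im : List ℕ) : List ℕ → ℕ
  | [] => 0
  | i :: w => force (evN im w) fun r => mulN (im.getD i 0) r

/-- The image of an element of the centralizer of the four-group. -/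
def imN (im : List ℕ) (u : ℕ) : ℕ := evN im (digs (Data.wordV.getD (Data.domV.idxOf u) 0))

/-- The images allowed by the action on the four-group and one relation. -/
def candB (im : List ℕ) : Bool :=
  evN im Data.wordZ == 2 && evN im Data.wordX == 3 && evN im Data.relV.1 == evN im Data.relV.2

/-- Conjugates of the wanted images. -/
def innB (im : List ℕ) : Bool :=
  Data.domV.any fun d => (List.range 3).all fun i => cjN d (tauN (Data.genV.getD i 0)) == im.getD i 0

/-- The cube is not inner. -/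
def cubeB (im : List ℕ) : Bool :=
  !(Data.domV.any fun d => (List.range 3).all fun i => cjN d (Data.genV.getD i 0) == imN im (imN im (im.getD i 0)))

/-- Elements of `domV` of order three up to conjugation and involutions. -/
def invV : List ℕ := Data.domV.filter fun u => mulN u u == 0 && !(u == 0)

theorem normV_checks :
    Data.domV.all (fun u => Nat.blt u 1920 && Nat.blt (tauN u) 1920 &&
      (evN Data.genV (digs (Data.wordV.getD (Data.domV.idxOf u) 0)) == u) &&
      (imN (Data.genV.map tauN) u == tauN u) &&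
      (digs (Data.wordV.getD (Data.domV.idxOf u) 0)).all (fun i => Nat.blt i 3) &&
      (u == 0 || u == 1 || u == 2 || u == 3 || !((List.range 3).all fun i =>
        mulN u (Data.genV.getD i 0) == mulN (Data.genV.getD i 0) u))) = true ∧
    (List.range 1920).all (fun u => !(Nat.blt (tauN u) 1920) || Data.domV.contains u) = true ∧
    Data.genV.all (fun g => Data.domV.contains g) = true ∧
    (List.range 3).all (fun i => tauN (tauN (tauN (Data.genV.getD i 0))) == Data.genV.getD i 0) = true ∧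
    (Data.wordZ ++ Data.wordX ++ Data.relV.1 ++ Data.relV.2).all (fun i => Nat.blt i 3) = true ∧
    evN Data.genV Data.wordZ = 1 ∧ evN Data.genV Data.wordX = 2 ∧
    evN Data.genV Data.relV.1 = evN Data.genV Data.relV.2 ∧
    tauN 1 = 2 ∧ tauN 2 = 3 ∧ tauN 3 = 1 := by
  refine ⟨?_, ?_, ?_, ?_, ?_, ?_, ?_, ?_, ?_, ?_, ?_⟩ <;> decide +kernel

theorem first_checks : ((Data.domV.filter fun u => mulN u (mulN u u) == 0 && !(u == 0)).all fun u =>
      Data.domV.any fun d => cjN d (Data.genV.getD 0 0) == u || cjN d (mulN (Data.genV.getD 0 0) (Data.genV.getD 0 0)) == u) =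
      true ∧
    mulN (Data.genV.getD 0 0) (mulN (Data.genV.getD 0 0) (Data.genV.getD 0 0)) = 0 ∧
    mulN (Data.genV.getD 1 0) (Data.genV.getD 1 0) = 0 ∧ mulN (Data.genV.getD 2 0) (Data.genV.getD 2 0) = 0 ∧
    Data.genV.length = 3 ∧ Data.genV.all (fun g => !(g == 0)) = true := by
  refine ⟨?_, ?_, ?_, ?_, ?_, ?_⟩ <;> decide +kernel

theorem cand_checks : [Data.genV.getD 0 0, mulN (Data.genV.getD 0 0) (Data.genV.getD 0 0)].all (fun a =>
    invV.all fun b => invV.all fun c => !candB [a, b, c] || innB [a, b, c] || cubeB [a, b, c]) = true := by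
  decide +kernel

theorem k_checks : (Data.domV.all fun k =>
      !((List.range 3).all fun i =>
          cjN k (Data.genV.getD i 0) == cjN 4 (tauN (cjN 4 (tauN (Data.genV.getD i 0))))) ||
      !(mulN (cjN 4 k) (tauN (invN k)) == 0) || k == Data.relK || k == Data.relK') = true ∧
    Data.domV.contains Data.adjV = true ∧ Nat.ble Data.adjV 3 = true ∧
    mulN (mulN (cjN 4 Data.adjV) Data.relK') (tauN (tauN Data.adjV)) = Data.relK ∧
    Data.domV.all (fun u => Nat.blt (cjN 4 u) 1920 && Data.domV.contains (cjN 4 u)) = true ∧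
    mulN 4 4 = 0 ∧ cjN 4 1 = 1 ∧ cjN 4 2 = 3 ∧ cjN 4 3 = 2 := by
  refine ⟨?_, ?_, ?_, ?_, ?_, ?_, ?_, ?_, ?_⟩ <;> decide +kernel

variable {G : Type*} [Group G] {z : G} {f : ℕ → G}

/-- The element of order three normalising the four-group. -/
structure TauV (f : ℕ → G) (τ : G) : Prop where
  conj : ∀ u, u < 1920 → tauN u < 1920 → τ * el f u * τ⁻¹ = el f (tauN u)
  cube : τ * τ * τ = 1
  relk : el f 4 * τ * el f 4 * τ = el f Data.relK

namespace Ctx

variable (c : Ctx z f)
include c

theorem memV {u : ℕ} (hu : u ∈ Data.domV) : u < 1920 ∧ mulN u 2 = mulN 2 u := by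
  rw [← invol_checks.2.1, List.mem_filter, List.mem_range] at hu
  exact ⟨hu.1, beq_iff_eq.1 hu.2⟩

theorem surjV {x : G} (h1 : x * z = z * x) (h2 : x * el f 2 = el f 2 * x) : ∃ u ∈ Data.domV, el f u = x := by
  obtain ⟨a, ha, rfl⟩ := c.surj (mem_centralizer_singleton_iff.2 h1)
  refine ⟨a, ?_, rfl⟩
  rw [← invol_checks.2.1, List.mem_filter]
  exact ⟨List.mem_range.2 ha, beq_iff_eq.2 ((c.comm_iff ha (by norm_num)).1 h2)⟩

theorem hom_eq {n : G} {im : List ℕ} (him : ∀ i < 3, im.getD i 0 < 1920)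
    (h : ∀ i < 3, n * el f (Data.genV.getD i 0) * n⁻¹ = el f (im.getD i 0)) :
    ∀ w : List ℕ, (∀ i ∈ w, i < 3) →
      evN im w < 1920 ∧ evN Data.genV w < 1920 ∧ n * el f (evN Data.genV w) * n⁻¹ = el f (evN im w)
  | [], _ => ⟨by norm_num [evN], by norm_num [evN], by simp [evN, c.one]⟩
  | i :: w, hw => by
    obtain ⟨h1, h2, h3⟩ := hom_eq him h w fun j hj => hw j (List.mem_cons_of_mem _ hj)
    have hi := hw i List.mem_cons_self
    have hg : Data.genV.getD i 0 < 1920 := by
      have := List.all_eq_true.1 normV_checks.2.2.1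
      interval_cases i <;> decide +kernel
    simp only [evN, force_eq]
    refine ⟨range_nums.mul _ _ (him i hi) h1, range_nums.mul _ _ hg h2, ?_⟩
    rw [c.mul (him i hi) h1, c.mul hg h2, ← h i hi, ← h3]
    group

theorem hom_im {n : G} {im : List ℕ} (him : ∀ i < 3, im.getD i 0 < 1920)
    (h : ∀ i < 3, n * el f (Data.genV.getD i 0) * n⁻¹ = el f (im.getD i 0)) {u : ℕ} (hu : u ∈ Data.domV) :
    imN im u < 1920 ∧ n * el f u * n⁻¹ = el f (imN im u) := by
  have hc := List.all_eq_true.1 normV_checks.1 u hu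
  simp only [Bool.and_eq_true, beq_iff_eq, Nat.blt_eq, List.all_eq_true] at hc
  obtain ⟨h1, -, h3⟩ := c.hom_eq him h (digs (Data.wordV.getD (Data.domV.idxOf u) 0)) hc.1.2
  rw [hc.1.1.1.2] at h3
  exact ⟨h1, h3⟩

/-- The element of order three. -/
theorem exists_tau : ∃ τ, TauV f τ := by
  classical
  obtain ⟨hdom, hdom', hgen, hcube, hlt, hwZ, hwX, hwR, t1, t2, t3⟩ := normV_checks
  have hu3 : ∀ u, u < 4 → u ∈ Data.domV := by decide +kernel
  have hmul : mulN 1 2 = 3 ∧ mulN 2 3 = 1 ∧ mulN 1 1 = 0 := by decide +kernel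
  obtain ⟨g, g1, g2⟩ := c.exists_swap (R := 2) (by norm_num) (by norm_num) (by norm_num) (by decide +kernel)
    (n := 192) (by rw [invol_checks.2.1]; exact invol_checks.2.2.2.1) (Or.inl ⟨rfl, rfl⟩)
  set r := el f 4 with hr
  have hr2 : r * r = 1 := by rw [hr, ← c.mul (by norm_num) (by norm_num), k_checks.2.2.2.2.2.1, c.one]
  have hri : r⁻¹ = r := inv_eq_of_mul_eq_one_right hr2
  have rcj : ∀ {u : ℕ}, u < 1920 → r * el f u * r = el f (cjN 4 u) := by
    intro u hu; rw [c.cj (by norm_num) hu, ← hr, hri]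
  obtain ⟨-, -, -, -, -, -, r1, r2, r3⟩ := k_checks
  set n := g * r with hn
  have n1 : n * el f 1 * n⁻¹ = el f 2 := by
    rw [hn, mul_inv_rev, hri, show g * r * el f 1 * (r * g⁻¹) = g * (r * el f 1 * r) * g⁻¹ by group,
      rcj (by norm_num), r1, c.el1, g2]
  have n2 : n * el f 2 * n⁻¹ = el f 3 := by
    rw [hn, mul_inv_rev, hri, show g * r * el f 2 * (r * g⁻¹) = g * (r * el f 2 * r) * g⁻¹ by group,
      rcj (by norm_num), r2, ← hmul.1, c.mul (by norm_num) (by norm_num), c.el1,
      show g * (z * el f 2) * g⁻¹ = (g * z * g⁻¹) * (g * el f 2 * g⁻¹) by group, g1, g2]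
    exact (mem_centralizer_singleton_iff.1 (c.mem (by norm_num)))
  have n3 : n * el f 3 * n⁻¹ = el f 1 := by
    rw [← hmul.1, c.mul (by norm_num) (by norm_num),
      show n * (el f 1 * el f 2) * n⁻¹ = (n * el f 1 * n⁻¹) * (n * el f 2 * n⁻¹) by group, n1, n2,
      ← c.mul (by norm_num) (by norm_num), hmul.2.1]
  -- the images of elements of `C(V)`
  have himg : ∀ {m : G}, (m * el f 1 * m⁻¹ = el f 2) → (m * el f 3 * m⁻¹ = el f 1) →
      ∀ u ∈ Data.domV, ∃ w ∈ Data.domV, el f w = m * el f u * m⁻¹ := by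
    intro m m1 m3 u hu
    obtain ⟨hu', huc⟩ := c.memV hu
    have e1 : el f u * el f 1 = el f 1 * el f u := by
      rw [c.el1]; exact mem_centralizer_singleton_iff.1 (c.mem hu')
    have e2 : el f u * el f 2 = el f 2 * el f u := (c.comm_iff hu' (by norm_num)).2 huc
    have e3 : el f u * el f 3 = el f 3 * el f u := by
      rw [← hmul.1, c.mul (by norm_num) (by norm_num), ← mul_assoc, e1, mul_assoc, e2, mul_assoc]
    refine c.surjV ?_ ?_
    · rw [← c.el1, ← m3, show m * el f u * m⁻¹ * (m * el f 3 * m⁻¹) = m * (el f u * el f 3) * m⁻¹ by group, e3]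
      group
    · rw [← m1, show m * el f u * m⁻¹ * (m * el f 1 * m⁻¹) = m * (el f u * el f 1) * m⁻¹ by group, e1]
      group
  have g0 : ∀ i < 3, Data.genV.getD i 0 ∈ Data.domV := by
    intro i hi; interval_cases i <;> decide +kernel
  obtain ⟨hf3, hc3, hb2, hc2, -, hg0⟩ := first_checks
  -- normalise the image of the first generator
  obtain ⟨wa, hwa, ea⟩ := himg n1 n3 _ (g0 0 (by norm_num))
  have hwa3 : mulN wa (mulN wa wa) = 0 ∧ wa ≠ 0 := by
    have hwl := (c.memV hwa).1
    have hal := (c.memV (g0 0 (by norm_num))).1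
    constructor
    · refine c.inj (range_nums.mul _ _ hwl (range_nums.mul _ _ hwl hwl)) (by norm_num) ?_
      rw [c.mul hwl (range_nums.mul _ _ hwl hwl), c.mul hwl hwl, ea, c.one,
        show ∀ a, n * a * n⁻¹ * (n * a * n⁻¹ * (n * a * n⁻¹)) = n * (a * (a * a)) * n⁻¹ from fun a => by group,
        ← c.mul hal hal, ← c.mul hal (range_nums.mul _ _ hal hal), hc3, c.one]
      group
    · intro h
      rw [h, c.one] at ea
      have h' : el f (Data.genV.getD 0 0) = el f 0 := by rw [c.one]; exact conj_eq_one_iff.1 ea.symm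
      exact absurd (c.inj hal (by norm_num) h') (by decide +kernel)
  have hd := List.all_eq_true.1 hf3 wa (List.mem_filter.2 ⟨hwa, by simp [hwa3.1, hwa3.2]⟩)
  simp only [List.any_eq_true, Bool.or_eq_true, beq_iff_eq] at hd
  obtain ⟨d, hdm, hd⟩ := hd
  obtain ⟨hdl, hdc⟩ := c.memV hdm
  set m := (el f d)⁻¹ * n with hm
  have dfix : ∀ u, u < 4 → (el f d)⁻¹ * el f u * el f d = el f u := by
    intro u hu
    obtain ⟨hul, -⟩ := c.memV (hu3 u hu)
    have hcm : el f u * el f d = el f d * el f u := by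
      interval_cases u
      · rw [c.one]; group
      · rw [c.el1]; exact (mem_centralizer_singleton_iff.1 (c.mem hdl)).symm
      · exact ((c.comm_iff hdl (by norm_num)).2 hdc).symm
      · rw [← hmul.1, c.mul (by norm_num) (by norm_num), mul_assoc,
          ((c.comm_iff hdl (by norm_num)).2 hdc).symm, ← mul_assoc, c.el1,
          ← mem_centralizer_singleton_iff.1 (c.mem hdl), mul_assoc]
    rw [mul_assoc, hcm, inv_mul_cancel_left]
  have m1 : m * el f 1 * m⁻¹ = el f 2 := by
    rw [hm, show (el f d)⁻¹ * n * el f 1 * ((el f d)⁻¹ * n)⁻¹ = (el f d)⁻¹ * (n * el f 1 * n⁻¹) * el f d by group,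
      n1, dfix 2 (by norm_num)]
  have m2 : m * el f 2 * m⁻¹ = el f 3 := by
    rw [hm, show (el f d)⁻¹ * n * el f 2 * ((el f d)⁻¹ * n)⁻¹ = (el f d)⁻¹ * (n * el f 2 * n⁻¹) * el f d by group,
      n2, dfix 3 (by norm_num)]
  have m3 : m * el f 3 * m⁻¹ = el f 1 := by
    rw [hm, show (el f d)⁻¹ * n * el f 3 * ((el f d)⁻¹ * n)⁻¹ = (el f d)⁻¹ * (n * el f 3 * n⁻¹) * el f d by group,
      n3, dfix 1 (by norm_num)]
  obtain ⟨wb, hwb, eb⟩ := himg m1 m3 _ (g0 1 (by norm_num))
  obtain ⟨wc, hwc, ec⟩ := himg m1 m3 _ (g0 2 (by norm_num))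
  set a := if cjN d (Data.genV.getD 0 0) = wa then Data.genV.getD 0 0
    else mulN (Data.genV.getD 0 0) (Data.genV.getD 0 0) with ha
  have hal : a < 1920 := by
    have := (c.memV (g0 0 (by norm_num))).1
    rw [ha]; split_ifs
    exacts [this, range_nums.mul _ _ this this]
  have hma : m * el f (Data.genV.getD 0 0) * m⁻¹ = el f a := by
    have e : cjN d a = wa := by
      rw [ha]; split_ifs with h
      exacts [h, hd.resolve_left h]
    rw [hm, show (el f d)⁻¹ * n * el f (Data.genV.getD 0 0) * ((el f d)⁻¹ * n)⁻¹ =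
        (el f d)⁻¹ * (n * el f (Data.genV.getD 0 0) * n⁻¹) * el f d by group, ← ea, ← e, c.cj hdl hal]
    group
  set im := [a, wb, wc] with him'
  have him : ∀ i < 3, im.getD i 0 < 1920 := fun i hi => by
    interval_cases i
    exacts [hal, (c.memV hwb).1, (c.memV hwc).1]
  have hmim : ∀ i < 3, m * el f (Data.genV.getD i 0) * m⁻¹ = el f (im.getD i 0) := fun i hi => by
    interval_cases i
    exacts [hma, eb.symm, ec.symm]
  have hinv : ∀ {i : ℕ} {w : ℕ}, i < 3 → mulN (Data.genV.getD i 0) (Data.genV.getD i 0) = 0 → w ∈ Data.domV →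
      el f w = m * el f (Data.genV.getD i 0) * m⁻¹ → w ∈ invV := by
    intro i w hi h2 hw e
    have hwl := (c.memV hw).1
    have hgl := (c.memV (g0 i hi)).1
    refine List.mem_filter.2 ⟨hw, ?_⟩
    simp only [Bool.and_eq_true, beq_iff_eq, Bool.not_eq_true', beq_eq_false_iff_ne]
    refine ⟨c.inj (range_nums.mul _ _ hwl hwl) (by norm_num) ?_, fun h => ?_⟩
    · rw [c.mul hwl hwl, e, show ∀ a, m * a * m⁻¹ * (m * a * m⁻¹) = m * (a * a) * m⁻¹ from fun a => by group,
        ← c.mul hgl hgl, h2, c.one]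
      group
    · rw [h, c.one] at e
      have h' := c.inj hgl (by norm_num) ((conj_eq_one_iff.1 e.symm).trans c.one.symm)
      have := List.all_eq_true.1 hg0 _ (show Data.genV.getD i 0 ∈ Data.genV by
        interval_cases i <;> decide +kernel)
      rw [h'] at this
      simp at this
  have hcand : candB im = true := by
    simp only [candB, Bool.and_eq_true, beq_iff_eq]
    simp only [List.all_eq_true, List.mem_append, Nat.blt_eq] at hlt
    obtain ⟨z1, -, z3⟩ := c.hom_eq him hmim Data.wordZ fun i hi => hlt i (by tauto)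
    obtain ⟨x1, -, x3⟩ := c.hom_eq him hmim Data.wordX fun i hi => hlt i (by tauto)
    obtain ⟨p1, -, p3⟩ := c.hom_eq him hmim Data.relV.1 fun i hi => hlt i (by tauto)
    obtain ⟨q1, -, q3⟩ := c.hom_eq him hmim Data.relV.2 fun i hi => hlt i (by tauto)
    rw [hwZ, m1] at z3
    rw [hwX, m2] at x3
    rw [hwR, q3] at p3
    exact ⟨⟨(c.inj (by norm_num) z1 z3).symm, (c.inj (by norm_num) x1 x3).symm⟩, (c.inj q1 p1 p3).symm⟩
  have hcase := List.all_eq_true.1 (List.all_eq_true.1 (List.all_eq_true.1 cand_checks a (by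
      rw [ha]; split_ifs <;> simp)) wb (hinv (i := 1) (by norm_num) hb2 hwb eb)) wc
    (hinv (i := 2) (by norm_num) hc2 hwc ec)
  simp only [← him', hcand, Bool.not_true, Bool.false_or, Bool.or_eq_true] at hcase
  rcases hcase with hi | hcu
  swap
  · exfalso
    simp only [cubeB, Bool.not_eq_true', List.any_eq_false] at hcu
    have cV : ∀ {u : ℕ}, u < 4 → m * (m * (m * el f u * m⁻¹) * m⁻¹) * m⁻¹ = el f u := by
      intro u hu
      interval_cases u
      · rw [c.one]; group
      · rw [m1, m2, m3]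
      · rw [m2, m3, m1]
      · rw [m3, m1, m2]
    have hc' : ∀ {u : ℕ}, u < 4 → m * m * m * el f u = el f u * (m * m * m) := by
      intro u hu
      calc m * m * m * el f u = m * (m * (m * el f u * m⁻¹) * m⁻¹) * m⁻¹ * (m * m * m) := by group
        _ = _ := by rw [cV hu]
    obtain ⟨d, hd', ed⟩ := c.surjV (x := m * m * m) (by rw [← c.el1]; exact hc' (by norm_num)) (hc' (by norm_num))
    refine hcu d hd' (List.all_eq_true.2 fun i hi => ?_)
    rw [List.mem_range] at hi
    rw [beq_iff_eq]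
    obtain ⟨hgl, -⟩ := c.memV (g0 i hi)
    have hdl' := (c.memV hd').1
    have w1 : im.getD i 0 ∈ Data.domV := by
      interval_cases i
      · obtain ⟨w, hw, e⟩ := himg m1 m3 _ (g0 0 (by norm_num))
        rw [hma] at e
        show a ∈ Data.domV
        have e' := c.inj (c.memV hw).1 hal e
        exact e' ▸ hw
      · exact hwb
      · exact hwc
    obtain ⟨l1, e1⟩ := c.hom_im him hmim w1
    obtain ⟨w, hw, e⟩ := himg m1 m3 _ w1
    have hw' : imN im (im.getD i 0) ∈ Data.domV := c.inj (c.memV hw).1 l1 (e.trans e1) ▸ hw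
    obtain ⟨l2, e2⟩ := c.hom_im him hmim hw'
    refine c.inj (cjN_lt hdl' hgl) l2 ?_
    rw [c.cj hdl' hgl, ed, ← e2, ← e1, ← hmim i hi]
    group
  simp only [innB, List.any_eq_true, List.all_eq_true, List.mem_range, beq_iff_eq] at hi
  obtain ⟨e, he, hei⟩ := hi
  obtain ⟨hel, hec⟩ := c.memV he
  set τ := (el f e)⁻¹ * m with hτ
  have tg : ∀ i < 3, τ * el f (Data.genV.getD i 0) * τ⁻¹ = el f ((Data.genV.map tauN).getD i 0) := by
    intro i hi
    have hgl : tauN (Data.genV.getD i 0) < 1920 := by interval_cases i <;> decide +kernel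
    rw [show (Data.genV.map tauN).getD i 0 = tauN (Data.genV.getD i 0) by interval_cases i <;> rfl,
      hτ, show (el f e)⁻¹ * m * el f (Data.genV.getD i 0) * ((el f e)⁻¹ * m)⁻¹ =
        (el f e)⁻¹ * (m * el f (Data.genV.getD i 0) * m⁻¹) * el f e by group, hmim i hi, ← hei i hi, c.cj hel hgl]
    group
  have htim : ∀ i < 3, (Data.genV.map tauN).getD i 0 < 1920 := by
    intro i hi; interval_cases i <;> decide +kernel
  have tconj : ∀ u, u < 1920 → tauN u < 1920 → τ * el f u * τ⁻¹ = el f (tauN u) := by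
    intro u hu ht
    have hud : u ∈ Data.domV := by
      have := List.all_eq_true.1 hdom' u (List.mem_range.2 hu)
      simp only [Bool.or_eq_true, Bool.not_eq_true', List.contains_iff_mem] at this
      exact this.resolve_left (by rw [show (tauN u).blt 1920 = true by rw [Nat.blt_eq]; exact ht]; simp)
    have hcu := List.all_eq_true.1 hdom u hud
    simp only [Bool.and_eq_true, beq_iff_eq] at hcu
    rw [(c.hom_im htim tg hud).2, hcu.1.1.2]
  have hdl3 : ∀ u, u ∈ Data.domV → tauN u < 1920 := by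
    intro u hu
    have := List.all_eq_true.1 hdom u hu
    simp only [Bool.and_eq_true, Nat.blt_eq] at this
    exact this.1.1.1.1.2
  have t1' : τ * el f 1 * τ⁻¹ = el f 2 := by rw [tconj 1 (by norm_num) (by rw [t1]; norm_num), t1]
  have t2' : τ * el f 2 * τ⁻¹ = el f 3 := by rw [tconj 2 (by norm_num) (by rw [t2]; norm_num), t2]
  have t3' : τ * el f 3 * τ⁻¹ = el f 1 := by rw [tconj 3 (by norm_num) (by rw [t3]; norm_num), t3]
  -- the cube
  have tcube : τ * τ * τ = 1 := by
    have ht3 : ∀ {u : ℕ}, u ∈ Data.domV → tauN u ∈ Data.domV → tauN (tauN u) ∈ Data.domV → tauN (tauN (tauN u)) = u →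
        τ * τ * τ * el f u = el f u * (τ * τ * τ) := by
      intro u hu hu' hu'' he
      calc τ * τ * τ * el f u = τ * (τ * (τ * el f u * τ⁻¹) * τ⁻¹) * τ⁻¹ * (τ * τ * τ) := by group
        _ = _ := by
          rw [tconj u (c.memV hu).1 (hdl3 _ hu), tconj _ (c.memV hu').1 (hdl3 _ hu'),
            tconj _ (c.memV hu'').1 (hdl3 _ hu''), he]
    have m3u : ∀ u ∈ Data.domV, tauN u ∈ Data.domV := by
      intro u hu
      obtain ⟨w, hw, e⟩ := himg t1' t3' u hu
      rw [tconj u (c.memV hu).1 (hdl3 u hu)] at e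
      exact c.inj (c.memV hw).1 (hdl3 u hu) e ▸ hw
    have m1' := m3u _ (hu3 1 (by norm_num))
    have m2' := m3u _ (hu3 2 (by norm_num))
    obtain ⟨v, hv, ev⟩ := c.surjV (x := τ * τ * τ)
      (by rw [← c.el1]; exact ht3 (hu3 1 (by norm_num)) m1' (m3u _ m1') (by rw [t1, t2, t3]))
      (ht3 (hu3 2 (by norm_num)) m2' (m3u _ m2') (by rw [t2, t3, t1]))
    have hvl := (c.memV hv).1
    have hcent : ∀ i < 3, mulN v (Data.genV.getD i 0) = mulN (Data.genV.getD i 0) v := by
      intro i hi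
      refine (c.comm_iff hvl (c.memV (g0 i hi)).1).1 ?_
      rw [ev]
      refine ht3 (g0 i hi) (m3u _ (g0 i hi)) (m3u _ (m3u _ (g0 i hi))) ?_
      exact beq_iff_eq.1 (List.all_eq_true.1 hcube i (List.mem_range.2 hi))
    have hcv := List.all_eq_true.1 hdom v hv
    simp only [Bool.and_eq_true, Bool.or_eq_true, beq_iff_eq, Bool.not_eq_true'] at hcv
    have hv4 : v < 4 := by
      rcases hcv.2 with (((rfl | rfl) | rfl) | rfl) | h
      iterate 4 norm_num
      rw [List.all_eq_false] at h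
      obtain ⟨i, hi, hne⟩ := h
      exact absurd (beq_iff_eq.2 (hcent i (List.mem_range.1 hi))) hne
    have hfix : τ * el f v * τ⁻¹ = el f v := by rw [ev]; group
    rw [tconj v hvl (hdl3 v hv)] at hfix
    have := c.inj (hdl3 v hv) hvl hfix
    interval_cases v
    · rw [← ev, c.one]
    all_goals omega
  -- the relation with `r`
  have kV : ∀ {τ' : G}, τ' * el f 1 * τ'⁻¹ = el f 2 → τ' * el f 2 * τ'⁻¹ = el f 3 → τ' * el f 3 * τ'⁻¹ = el f 1 →
      ∃ k ∈ Data.domV, el f k = r * τ' * r * τ' := by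
    intro τ' a1 a2 a3
    have key : ∀ x y w : ℕ, x < 1920 → y < 1920 → w < 1920 → τ' * el f x * τ'⁻¹ = el f y →
        τ' * el f (cjN 4 y) * τ'⁻¹ = el f w → cjN 4 w = x → r * τ' * r * τ' * el f x = el f x * (r * τ' * r * τ') := by
      intro x y w hx hy hw h1 h2 h3
      calc r * τ' * r * τ' * el f x
          = r * (τ' * (r * (τ' * el f x * τ'⁻¹) * r⁻¹) * τ'⁻¹) * r⁻¹ * (r * τ' * r * τ') := by group
        _ = _ := by rw [h1, hri, rcj hy, h2, rcj hw, h3]
    refine c.surjV ?_ ?_
    · rw [← c.el1]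
      exact key 1 2 1 (by norm_num) (by norm_num) (by norm_num) a1 (by rw [r2, a3]) r1
    · exact key 2 3 3 (by norm_num) (by norm_num) (by norm_num) a2 (by rw [r3, a2]) r3
  obtain ⟨k, hk, ek⟩ := kV t1' t2' t3'
  have hkl := (c.memV hk).1
  obtain ⟨hkc, hav, hav3, hadj, hrV, -, -, -, -⟩ := k_checks
  have hkc' := List.all_eq_true.1 hkc k hk
  simp only [List.all_eq_true, Bool.and_eq_true, Nat.blt_eq, List.contains_iff_mem] at hrV
  have hA : ∀ i < 3, cjN k (Data.genV.getD i 0) = cjN 4 (tauN (cjN 4 (tauN (Data.genV.getD i 0)))) := by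
    intro i hi
    have hg := g0 i hi
    obtain ⟨w, hw, e⟩ := himg t1' t3' _ hg
    rw [tconj _ (c.memV hg).1 (hdl3 _ hg)] at e
    have hw1 : tauN (Data.genV.getD i 0) ∈ Data.domV := c.inj (c.memV hw).1 (hdl3 _ hg) e ▸ hw
    have hw2 := (hrV _ hw1).2
    obtain ⟨w', hw', e'⟩ := himg t1' t3' _ hw2
    rw [tconj _ (c.memV hw2).1 (hdl3 _ hw2)] at e'
    have hw3 := (hdl3 _ hw2)
    refine c.inj (cjN_lt hkl (c.memV hg).1) (cjN_lt (by norm_num) hw3) ?_
    rw [c.cj hkl (c.memV hg).1, ek, c.cj (by norm_num) hw3, ← tconj _ (c.memV hw2).1 hw3, c.cj (by norm_num) (c.memV hw1).1,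
      ← tconj _ (c.memV hg).1 (hdl3 _ hg), ← hr]
    group
  have hB : mulN (cjN 4 k) (tauN (invN k)) = 0 := by
    obtain ⟨w, hw, e⟩ := c.surjV (x := (el f k)⁻¹) (by
      rw [← c.el1, inv_mul_eq_iff_eq_mul, ← mul_assoc, c.el1, mem_centralizer_singleton_iff.1 (c.mem hkl),
        mul_inv_cancel_right])
      (by
        rw [inv_mul_eq_iff_eq_mul, ← mul_assoc, (c.comm_iff hkl (by norm_num)).2 (c.memV hk).2, mul_inv_cancel_right])
    rw [← el_inv c.rel hkl] at e
    have hw1 : invN k ∈ Data.domV := c.inj (c.memV hw).1 (range_nums.inv _ hkl) e ▸ hw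
    refine c.inj (range_nums.mul _ _ (cjN_lt (by norm_num) hkl) (hdl3 _ hw1)) (by norm_num) ?_
    rw [c.mul (cjN_lt (by norm_num) hkl) (hdl3 _ hw1), c.cj (by norm_num) hkl, ← hr,
      ← tconj _ (c.memV hw1).1 (hdl3 _ hw1), el_inv c.rel hkl, ek, c.one, hri]
    calc r * (r * τ * r * τ) * r * (τ * (r * τ * r * τ)⁻¹ * τ⁻¹)
        = (r * r) * τ * r * τ * r * τ * (τ⁻¹ * r⁻¹ * τ⁻¹ * r⁻¹) * τ⁻¹ := by group
      _ = (r * r) * τ * r * τ * (r * τ * τ⁻¹ * r⁻¹) * τ⁻¹ * r⁻¹ * τ⁻¹ := by group
      _ = 1 := by rw [hr2]; group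
  simp only [Bool.or_eq_true, Bool.not_eq_true', beq_iff_eq, beq_eq_false_iff_ne, ne_eq] at hkc'
  rcases hkc' with ((h | h) | h) | h
  · simp only [List.all_eq_false, List.mem_range, beq_iff_eq] at h
    obtain ⟨i, hi, hne⟩ := h
    exact absurd (hA i hi) hne
  · exact absurd hB h
  · exact ⟨τ, tconj, tcube, by rw [← h, ek]⟩
  · -- replace `τ` by a multiple
    rw [List.contains_iff_mem] at hav
    rw [Nat.ble_eq] at hav3
    have hvl := (c.memV hav).1
    set v := el f Data.adjV with hv'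
    have vc : ∀ {u : ℕ}, u ∈ Data.domV → v * el f u * v⁻¹ = el f u := by
      intro u hu
      obtain ⟨hul, huc⟩ := c.memV hu
      have e2 : el f u * el f 2 = el f 2 * el f u := (c.comm_iff hul (by norm_num)).2 huc
      have e1 : el f u * el f 1 = el f 1 * el f u := by
        rw [c.el1]; exact mem_centralizer_singleton_iff.1 (c.mem hul)
      have hlt4 : Data.adjV < 4 := by omega
      rw [hv']
      interval_cases Data.adjV
      · rw [c.one]; group
      · rw [← e1]; group
      · rw [← e2]; group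
      · rw [← hmul.1, c.mul (by norm_num) (by norm_num), mul_assoc (el f 1), ← e2, ← mul_assoc, ← e1]; group
    have hvτ : ∀ u, u < 1920 → tauN u < 1920 → v * τ * el f u * (v * τ)⁻¹ = el f (tauN u) := by
      intro u hu ht
      rw [show v * τ * el f u * (v * τ)⁻¹ = v * (τ * el f u * τ⁻¹) * v⁻¹ by group, tconj u hu ht]
      obtain ⟨w, hw, e⟩ := himg t1' t3' u (by
        have := List.all_eq_true.1 hdom' u (List.mem_range.2 hu)
        simp only [Bool.or_eq_true, Bool.not_eq_true', List.contains_iff_mem] at this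
        exact this.resolve_left (by rw [show (tauN u).blt 1920 = true by rw [Nat.blt_eq]; exact ht]; simp))
      rw [tconj u hu ht] at e
      exact vc (c.inj (c.memV hw).1 ht e ▸ hw)
    refine ⟨v * τ, hvτ, ?_, ?_⟩
    · have hta := hdl3 _ hav
      have hth : mulN (mulN Data.adjV (tauN Data.adjV)) (tauN (tauN Data.adjV)) = 0 ∧
          tauN Data.adjV ∈ Data.domV := by decide +kernel
      calc v * τ * (v * τ) * (v * τ) = v * (τ * v * τ⁻¹) * (τ * (τ * v * τ⁻¹) * τ⁻¹) * (τ * τ * τ) := by group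
        _ = 1 := by
          rw [hv', tconj _ hvl hta, tconj _ hta (hdl3 _ hth.2), tcube, mul_one, ← c.mul hvl hta,
            ← c.mul (range_nums.mul _ _ hvl hta) (hdl3 _ hth.2), hth.1, c.one]
    · have hta := hdl3 _ hav
      have hth : tauN Data.adjV ∈ Data.domV := by decide +kernel
      have hkl' : Data.relK' < 1920 := by decide +kernel
      rw [← hadj, c.mul (range_nums.mul _ _ (cjN_lt (by norm_num) hvl) hkl') (hdl3 _ hth),
        c.mul (cjN_lt (by norm_num) hvl) hkl', c.cj (by norm_num) hvl, ← hr, hri, ← h, ek, ← hv']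
      have et : el f (tauN (tauN Data.adjV)) = τ⁻¹ * v * τ := by
        rw [← tconj _ hta (hdl3 _ hth), ← tconj _ hvl hta, ← hv']
        have h2 : τ * τ = τ⁻¹ := eq_inv_of_mul_eq_one_left tcube
        calc τ * (τ * v * τ⁻¹) * τ⁻¹ = (τ * τ) * v * (τ * τ)⁻¹ := by group
          _ = τ⁻¹ * v * τ := by rw [h2, inv_inv]
      rw [et]
      calc r * (v * τ) * r * (v * τ) = r * v * (r * r) * τ * r * v * τ := by rw [hr2]; group
        _ = r * v * r * (r * τ * r * τ) * (τ⁻¹ * v * τ) := by group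

end Ctx

end CfsgLib.JThreeUniq
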