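import Cfsg.Agent.Lib.JThreeUniq.Affine
import Cfsg.Agent.Lib.JThreeUniq.NormV

/-!
The elementary abelian group of order sixteen and the affine maps of elements normalising it.
-/

set_option autoImplicit false
set_option maxRecDepth 100000

namespace CfsgLib.JThreeUniq

open CfsgLib.JTwoUniq CfsgLib.JTwoUniq.Coset Subgroup

theorem aA_checks : (List.range 16).all (fun i => Nat.blt (aA i) 1920 && Data.domV.contains (aA i)) = true ∧
    ((List.range 1920).filter fun a => mulN a Data.outU == mulN Data.outU a).all (fun a =>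
      Data.domA.contains a) = true ∧
    (List.range 16).all (fun i => (List.range 16).all fun j => mulN (aA i) (aA j) == aA (i ^^^ j)) = true ∧
    aA 0 = 0 ∧ aA 1 = Data.outU ∧ aA 8 = 1 ∧ aA 4 = 2 ∧ aA 12 = 3 ∧ Data.domA.length = 16 := by
  refine ⟨?_, ?_, ?_, ?_, ?_, ?_, ?_, ?_, ?_⟩ <;> decide +kernel

theorem act_checks :
    Data.domV.all (fun u => (List.range 16).all fun i => cjN u (aA i) == aA (appP (actU u) i)) = true ∧
    Data.domV.all (fun u => Nat.blt (trU u) 16 &&
      mulN u (mulN Data.omU (mulN (tauN (tauN (invN u))) (invN Data.omU))) == aA (trU u) &&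
      Data.domV.contains (invN u) && Data.domV.contains (tauN u)) = true ∧
    (List.range 16).all (fun i => tauN (aA i) == aA (appP tauP i)) = true ∧
    mulN (tauN Data.omU) (invN Data.omU) = aA tauV ∧ tauV < 16 ∧
    Data.domV.contains Data.omU = true ∧
    mulN Data.omU (mulN (tauN (tauN Data.omU)) (tauN Data.omU)) = 0 ∧
    (List.range 16).all (fun i => cjN Data.omU (tauN (tauN (aA i))) == aA (appP Data.omP i)) = true ∧
    (List.range 16).all (fun i => (i == 0) || !(appP Data.omP i == i)) = true := by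
  refine ⟨?_, ?_, ?_, ?_, ?_, ?_, ?_, ?_, ?_⟩ <;> decide +kernel

theorem appP_lt (p i : ℕ) : appP p i < 16 := by
  unfold appP
  have h : ∀ (b : Bool) x, (if b then x % 16 else 0) < 16 := fun b x => by
    cases b
    · simp
    · exact Nat.mod_lt _ (by norm_num)
  exact Nat.xor_lt_two_pow (n := 4) (Nat.xor_lt_two_pow (n := 4) (Nat.xor_lt_two_pow (n := 4) (h _ _) (h _ _))
    (h _ _)) (h _ _)

theorem mkP_spec {b : ℕ → ℕ} (hb : ∀ i, b i < 16) :
    mkP b % 16 = b 1 ∧ mkP b / 16 % 16 = b 2 ∧ mkP b / 256 % 16 = b 4 ∧ mkP b / 4096 % 16 = b 8 ∧ mkP b < 65536 := by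
  unfold mkP
  have := hb 1; have := hb 2; have := hb 4; have := hb 8
  omega

theorem appP_basis (p : ℕ) :
    appP p 1 = p % 16 ∧ appP p 2 = p / 16 % 16 ∧ appP p 4 = p / 256 % 16 ∧ appP p 8 = p / 4096 % 16 := by
  simp [appP]

theorem appP_comp (p q : ℕ) : ∀ b ∈ [1, 2, 4, 8], appP (compP p q) b = appP p (appP q b) := by
  obtain ⟨h1, h2, h3, h4, -⟩ := mkP_spec (b := fun i => appP p (appP q i)) fun i => appP_lt _ _
  obtain ⟨e1, e2, e3, e4⟩ := appP_basis (compP p q)
  have hc : compP p q = mkP fun i => appP p (appP q i) := by rw [compP, force_eq]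
  intro b hb
  simp only [List.mem_cons, List.not_mem_nil, or_false] at hb
  rcases hb with rfl | rfl | rfl | rfl
  · rw [e1, hc, h1]
  · rw [e2, hc, h2]
  · rw [e3, hc, h3]
  · rw [e4, hc, h4]

/-- Linear maps are determined by their values on the basis. -/
theorem P_ext {p q : ℕ} (hp : p < 65536) (hq : q < 65536)
    (h : ∀ b ∈ [1, 2, 4, 8], appP p b = appP q b) : p = q := by
  obtain ⟨a1, a2, a3, a4⟩ := appP_basis p
  obtain ⟨b1, b2, b3, b4⟩ := appP_basis q
  have h1 := h 1 (by simp); have h2 := h 2 (by simp); have h3 := h 4 (by simp); have h4 := h 8 (by simp)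
  rw [a1, b1] at h1; rw [a2, b2] at h2; rw [a3, b3] at h3; rw [a4, b4] at h4
  omega

theorem compP_lt (p q : ℕ) : compP p q < 65536 := by
  rw [compP, force_eq]; exact (mkP_spec fun i => appP_lt _ _).2.2.2.2

variable {G : Type*} [Group G] {z : G} {f : ℕ → G}

/-- An element of the elementary abelian group. -/
def eA (f : ℕ → G) (i : ℕ) : G := el f (aA i)

/-- The element inducing a scalar. -/
def omG (f : ℕ → G) (τ : G) : G := el f Data.omU * (τ * τ)

/-- The linear part of an element. -/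
def Act (f : ℕ → G) (n : G) (p : ℕ) : Prop :=
  p < 65536 ∧ ∀ b ∈ [1, 2, 4, 8], n * eA f b * n⁻¹ = eA f (appP p b)

/-- The affine map of an element. -/
def Rep (f : ℕ → G) (τ : G) (n : G) (a : ℕ) : Prop :=
  Act f n (a / 16) ∧ n * omG f τ * n⁻¹ = eA f (a % 16) * omG f τ

namespace Ctx

variable (c : Ctx z f)
include c

theorem aA_lt {i : ℕ} (hi : i < 16) : aA i < 1920 := by
  have h := List.all_eq_true.1 aA_checks.1 i (List.mem_range.2 hi)
  simp only [Bool.and_eq_true, Nat.blt_eq] at h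
  exact h.1

theorem aA_mem {i : ℕ} (hi : i < 16) : aA i ∈ Data.domV := by
  have h := List.all_eq_true.1 aA_checks.1 i (List.mem_range.2 hi)
  simp only [Bool.and_eq_true, List.contains_iff_mem] at h
  exact h.2

theorem eA_mul {i j : ℕ} (hi : i < 16) (hj : j < 16) : eA f i * eA f j = eA f (i ^^^ j) := by
  rw [eA, eA, eA, ← c.mul (c.aA_lt hi) (c.aA_lt hj),
    beq_iff_eq.1 (List.all_eq_true.1 (List.all_eq_true.1 aA_checks.2.2.1 i (List.mem_range.2 hi)) j (List.mem_range.2 hj))]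

theorem eA_zero : eA f 0 = 1 := by rw [eA, aA_checks.2.2.2.1, c.one]

theorem eA_inv {i : ℕ} (hi : i < 16) : (eA f i)⁻¹ = eA f i :=
  inv_eq_of_mul_eq_one_right (by rw [c.eA_mul hi hi, Nat.xor_self, c.eA_zero])

theorem eA_comm {i j : ℕ} (hi : i < 16) (hj : j < 16) : eA f i * eA f j = eA f j * eA f i := by
  rw [c.eA_mul hi hj, c.eA_mul hj hi, Nat.xor_comm]

theorem eA_inj {i j : ℕ} (hi : i < 16) (hj : j < 16) (h : eA f i = eA f j) : i = j := by
  have e := c.inj (c.aA_lt hi) (c.aA_lt hj) h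
  have h0 := List.all_eq_true.1 aA_checks.2.2.1 i (List.mem_range.2 hi)
  have hnd : Data.domA.Nodup := by decide +kernel
  have li : i < Data.domA.length := by rw [aA_checks.2.2.2.2.2.2.2.2]; exact hi
  have lj : j < Data.domA.length := by rw [aA_checks.2.2.2.2.2.2.2.2]; exact hj
  simp only [aA, List.getD_eq_getElem _ _ li, List.getD_eq_getElem _ _ lj] at e
  exact hnd.getElem_inj_iff.1 e

theorem eA_z : eA f 8 = z := by rw [eA, aA_checks.2.2.2.2.2.1, c.el1]

/-- The group is self-centralizing. -/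
theorem exists_eA {x : G} (h1 : x * eA f 8 = eA f 8 * x) (h2 : x * eA f 1 = eA f 1 * x) :
    ∃ i < 16, x = eA f i := by
  rw [c.eA_z] at h1
  obtain ⟨a, ha, rfl⟩ := c.surj (mem_centralizer_singleton_iff.2 h1)
  rw [eA, aA_checks.2.2.2.2.1, c.comm_iff ha (by decide +kernel)] at h2
  have hm := List.all_eq_true.1 aA_checks.2.1 a (List.mem_filter.2 ⟨List.mem_range.2 ha, beq_iff_eq.2 h2⟩)
  rw [List.contains_iff_mem] at hm
  obtain ⟨i, hi, rfl⟩ := List.getElem_of_mem hm
  refine ⟨i, by rw [aA_checks.2.2.2.2.2.2.2.2] at hi; exact hi, ?_⟩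
  rw [eA, aA, List.getD_eq_getElem _ _ hi]

theorem act_all {n : G} {p : ℕ} (h : Act f n p) : ∀ i < 16, n * eA f i * n⁻¹ = eA f (appP p i) := by
  intro i hi
  have e : ∀ {j k : ℕ}, j < 16 → k < 16 → n * eA f j * n⁻¹ = eA f (appP p j) → n * eA f k * n⁻¹ = eA f (appP p k) →
      n * eA f (j ^^^ k) * n⁻¹ = eA f (appP p j ^^^ appP p k) := by
    intro j k hj hk hj' hk'
    rw [← c.eA_mul hj hk, ← c.eA_mul (appP_lt _ _) (appP_lt _ _), ← hj', ← hk']; group
  have b1 := h.2 1 (by simp); have b2 := h.2 2 (by simp); have b4 := h.2 4 (by simp); have b8 := h.2 8 (by simp)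
  have b0 : n * eA f 0 * n⁻¹ = eA f 0 := by rw [c.eA_zero]; group
  have key : ∀ (s1 s2 s4 s8 : Bool), n * eA f ((if s1 then 1 else 0) ^^^ (if s2 then 2 else 0) ^^^
      (if s4 then 4 else 0) ^^^ (if s8 then 8 else 0)) * n⁻¹ = eA f ((if s1 then appP p 1 else 0) ^^^
        (if s2 then appP p 2 else 0) ^^^ (if s4 then appP p 4 else 0) ^^^ (if s8 then appP p 8 else 0)) := by
    have hb : ∀ (s : Bool) (x y : ℕ), x < 16 → y < 16 → n * eA f x * n⁻¹ = eA f y →
        n * eA f (if s then x else 0) * n⁻¹ = eA f (if s then y else 0) := by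
      intro s x y _ _ e; cases s
      · exact b0
      · exact e
    have mul' : ∀ {j k j' k' : ℕ}, j < 16 → k < 16 → j' < 16 → k' < 16 → n * eA f j * n⁻¹ = eA f j' →
        n * eA f k * n⁻¹ = eA f k' → n * eA f (j ^^^ k) * n⁻¹ = eA f (j' ^^^ k') := by
      intro j k j' k' hj hk hj' hk' ej ek
      rw [← c.eA_mul hj hk, ← c.eA_mul hj' hk', ← ej, ← ek]; group
    have hl : ∀ (s : Bool) (x : ℕ), x < 16 → (if s then x else 0) < 16 := fun s x hx => by
      cases s <;> simp [hx]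
    intro s1 s2 s4 s8
    have x12 := Nat.xor_lt_two_pow (n := 4) (hl s1 1 (by norm_num)) (hl s2 2 (by norm_num))
    have y12 := Nat.xor_lt_two_pow (n := 4) (hl s1 _ (appP_lt p 1)) (hl s2 _ (appP_lt p 2))
    refine mul' (Nat.xor_lt_two_pow (n := 4) x12 (hl s4 4 (by norm_num))) (hl s8 8 (by norm_num))
      (Nat.xor_lt_two_pow (n := 4) y12 (hl s4 _ (appP_lt p 4))) (hl s8 _ (appP_lt p 8)) ?_
      (hb s8 _ _ (by norm_num) (appP_lt _ _) b8)
    refine mul' x12 (hl s4 4 (by norm_num)) y12 (hl s4 _ (appP_lt p 4)) ?_ (hb s4 _ _ (by norm_num) (appP_lt _ _) b4)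
    exact mul' (hl s1 1 (by norm_num)) (hl s2 2 (by norm_num)) (hl s1 _ (appP_lt p 1)) (hl s2 _ (appP_lt p 2))
      (hb s1 _ _ (by norm_num) (appP_lt _ _) b1) (hb s2 _ _ (by norm_num) (appP_lt _ _) b2)
  have k := key (i % 2 == 1) (i / 2 % 2 == 1) (i / 4 % 2 == 1) (i / 8 % 2 == 1)
  obtain ⟨e1, e2, e3, e4⟩ := appP_basis p
  rw [e1, e2, e3, e4] at k
  have hi' : ((if (i % 2 == 1) = true then 1 else 0) ^^^ (if (i / 2 % 2 == 1) = true then 2 else 0) ^^^
      (if (i / 4 % 2 == 1) = true then 4 else 0) ^^^ (if (i / 8 % 2 == 1) = true then 8 else 0)) = i := by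
    interval_cases i <;> decide
  rw [hi'] at k
  exact k

theorem act_mul {n m : G} {p q : ℕ} (hn : Act f n p) (hm : Act f m q) : Act f (n * m) (compP p q) := by
  refine ⟨compP_lt p q, fun b hb => ?_⟩
  rw [appP_comp p q b hb, ← c.act_all hn _ (appP_lt q b), ← hm.2 b hb]
  group

theorem act_one : Act f (1 : G) idP :=
  ⟨by decide +kernel, fun b hb => by
    rw [one_mul, inv_one, mul_one]
    simp only [List.mem_cons, List.not_mem_nil, or_false] at hb
    rcases hb with rfl | rfl | rfl | rfl <;> rfl⟩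

theorem act_unique {n : G} {p q : ℕ} (hp : Act f n p) (hq : Act f n q) : p = q :=
  P_ext hp.1 hq.1 fun b hb => c.eA_inj (appP_lt _ _) (appP_lt _ _) ((hp.2 b hb).symm.trans (hq.2 b hb))

/-- Elements with the same linear part differ by an element of the group. -/
theorem act_same {n m : G} {p : ℕ} (hn : Act f n p) (hm : Act f m p) : ∃ i < 16, n⁻¹ * m = eA f i := by
  have e : ∀ b ∈ [1, 2, 4, 8], (n⁻¹ * m) * eA f b = eA f b * (n⁻¹ * m) := by
    intro b hb
    have h := (hn.2 b hb).trans (hm.2 b hb).symm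
    calc n⁻¹ * m * eA f b = n⁻¹ * (m * eA f b * m⁻¹) * m := by group
      _ = n⁻¹ * (n * eA f b * n⁻¹) * m := by rw [h]
      _ = _ := by group
  exact c.exists_eA (e 8 (by simp)) (e 1 (by simp))

variable {τ : G} (d : TauV f τ)
include d

theorem tau_cj {u : ℕ} (hu : u ∈ Data.domV) :
    tauN u < 1920 ∧ τ * el f u * τ⁻¹ = el f (tauN u) := by
  have h := List.all_eq_true.1 normV_checks.1 u hu
  simp only [Bool.and_eq_true, Nat.blt_eq] at h
  exact ⟨h.1.1.1.1.2, d.conj u h.1.1.1.1.1 h.1.1.1.1.2⟩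

theorem tau_domV {u : ℕ} (hu : u ∈ Data.domV) : tauN u ∈ Data.domV ∧ invN u ∈ Data.domV := by
  have h := List.all_eq_true.1 act_checks.2.1 u hu
  simp only [Bool.and_eq_true, List.contains_iff_mem] at h
  exact ⟨h.2, h.1.2⟩

theorem om_mem : Data.omU ∈ Data.domV := by
  have := act_checks.2.2.2.2.2.1
  rwa [List.contains_iff_mem] at this

theorem om_act : Act f (omG f τ) Data.omP := by
  refine ⟨by decide +kernel, fun b hb => ?_⟩
  have hb' : b < 16 := by simp only [List.mem_cons, List.not_mem_nil, or_false] at hb; omega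
  have h1 := c.tau_cj d (c.aA_mem hb')
  have h2 := c.tau_cj d (c.tau_domV d (c.aA_mem hb')).1
  have hw := (c.memV (c.om_mem d)).1
  calc omG f τ * eA f b * (omG f τ)⁻¹
      = el f Data.omU * (τ * (τ * el f (aA b) * τ⁻¹) * τ⁻¹) * (el f Data.omU)⁻¹ := by rw [omG, eA]; group
    _ = eA f (appP Data.omP b) := by
        rw [h1.2, h2.2, ← c.cj hw h2.1, beq_iff_eq.1 (List.all_eq_true.1 act_checks.2.2.2.2.2.2.2.1 b
          (List.mem_range.2 hb')), eA]

theorem om_cube : omG f τ * omG f τ * omG f τ = 1 := by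
  have hw := c.om_mem d
  have h1 := c.tau_cj d hw
  have h2 := c.tau_cj d (c.tau_domV d hw).1
  calc omG f τ * omG f τ * omG f τ
      = el f Data.omU * (τ * (τ * el f Data.omU * τ⁻¹) * τ⁻¹) * (τ * τ * τ) * (τ * el f Data.omU * τ⁻¹) *
          (τ * τ * τ) := by rw [omG]; simp only [mul_assoc, mul_inv_rev, inv_mul_cancel_left, mul_inv_cancel_left]
    _ = 1 := by
      rw [d.cube, mul_one, mul_one, h1.2, h2.2, mul_assoc, ← c.mul h2.1 h1.1,
        ← c.mul (c.memV hw).1 (range_nums.mul _ _ h2.1 h1.1), act_checks.2.2.2.2.2.2.1, c.one]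

theorem rep_mul {n m : G} {a b : ℕ} (hn : Rep f τ n a) (hm : Rep f τ m b) : Rep f τ (n * m) (affM a b) := by
  have hl : (a % 16 ^^^ appP (a / 16) (b % 16)) < 16 :=
    Nat.xor_lt_two_pow (n := 4) (Nat.mod_lt _ (by norm_num)) (appP_lt _ _)
  have e1 : affM a b / 16 = compP (a / 16) (b / 16) := by unfold affM; omega
  have e2 : affM a b % 16 = a % 16 ^^^ appP (a / 16) (b % 16) := by unfold affM; omega
  refine ⟨by rw [e1]; exact c.act_mul hn.1 hm.1, ?_⟩
  rw [e2, ← c.eA_mul (Nat.mod_lt _ (by norm_num)) (appP_lt _ _), c.eA_comm (Nat.mod_lt _ (by norm_num)) (appP_lt _ _)]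
  calc n * m * omG f τ * (n * m)⁻¹ = n * (m * omG f τ * m⁻¹) * n⁻¹ := by group
    _ = n * eA f (b % 16) * n⁻¹ * (n * omG f τ * n⁻¹) := by rw [hm.2]; group
    _ = _ := by rw [c.act_all hn.1 _ (Nat.mod_lt _ (by norm_num)), hn.2, mul_assoc]

theorem rep_unique {n m : G} {a : ℕ} (hn : Rep f τ n a) (hm : Rep f τ m a) : n = m := by
  obtain ⟨i, hi, e⟩ := c.act_same hn.1 hm.1
  have hc : eA f i * omG f τ = omG f τ * eA f i := by
    rw [← e]
    have h := hn.2.trans hm.2.symm
    calc n⁻¹ * m * omG f τ = n⁻¹ * (m * omG f τ * m⁻¹) * m := by group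
      _ = n⁻¹ * (n * omG f τ * n⁻¹) * m := by rw [h]
      _ = _ := by group
  have h2 : omG f τ * eA f i * (omG f τ)⁻¹ = eA f i := by rw [← hc]; group
  rw [c.act_all (c.om_act d) i hi] at h2
  have h3 := c.eA_inj (appP_lt _ _) hi h2
  have h4 := List.all_eq_true.1 act_checks.2.2.2.2.2.2.2.2 i (List.mem_range.2 hi)
  simp only [h3, beq_self_eq_true, Bool.not_true, Bool.or_false, beq_iff_eq] at h4
  rw [h4, c.eA_zero] at e
  exact inv_mul_eq_one.1 e

theorem rep_one : Rep f τ (1 : G) (16 * idP) := by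
  refine ⟨by rw [Nat.mul_div_cancel_left _ (by norm_num)]; exact c.act_one, ?_⟩
  rw [Nat.mul_mod_right, c.eA_zero]; group

theorem rep_el {u : ℕ} (hu : u ∈ Data.domV) : Rep f τ (el f u) (trU u + 16 * actU u) := by
  have hul := (c.memV hu).1
  have h := List.all_eq_true.1 act_checks.2.1 u hu
  simp only [Bool.and_eq_true, beq_iff_eq, Nat.blt_eq] at h
  obtain ⟨⟨⟨ht, he⟩, -⟩, -⟩ := h
  have e1 : (trU u + 16 * actU u) / 16 = actU u := by omega
  have e2 : (trU u + 16 * actU u) % 16 = trU u := by omega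
  refine ⟨⟨?_, fun b hb => ?_⟩, ?_⟩
  · rw [e1]
    have hx : ∀ i, idxA (cjN u (aA i)) ≤ 16 := fun i => by
      have := List.idxOf_le_length (a := cjN u (aA i)) (l := Data.domA)
      rwa [aA_checks.2.2.2.2.2.2.2.2] at this
    have hb' : ∀ b ∈ [1, 2, 4, 8], idxA (cjN u (aA b)) < 16 := by
      intro b hb
      have hb'' : b < 16 := by simp only [List.mem_cons, List.not_mem_nil, or_false] at hb; omega
      have := beq_iff_eq.1 (List.all_eq_true.1 (List.all_eq_true.1 act_checks.1 u hu) b (List.mem_range.2 hb''))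
      rw [this, idxA, aA]
      have hl : appP (actU u) b < Data.domA.length := by rw [aA_checks.2.2.2.2.2.2.2.2]; exact appP_lt _ _
      rw [List.getD_eq_getElem _ _ hl]
      exact lt_of_lt_of_eq (List.idxOf_lt_length_iff.2 (List.getElem_mem hl)) aA_checks.2.2.2.2.2.2.2.2
    have := hb' 1 (by simp); have := hb' 2 (by simp); have := hb' 4 (by simp); have := hb' 8 (by simp)
    simp only [actU, mkP]
    omega
  · have hb' : b < 16 := by simp only [List.mem_cons, List.not_mem_nil, or_false] at hb; omega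
    rw [e1, eA, eA, ← c.cj hul (c.aA_lt hb'),
      beq_iff_eq.1 (List.all_eq_true.1 (List.all_eq_true.1 act_checks.1 u hu) b (List.mem_range.2 hb'))]
  · have hi := (c.tau_domV d hu).2
    have h1 := c.tau_cj d hi
    have h2 := c.tau_cj d (c.tau_domV d hi).1
    have hw := (c.memV (c.om_mem d)).1
    have hwi := range_nums.inv _ hw
    rw [e2, eA, ← he, c.mul hul (range_nums.mul _ _ hw (range_nums.mul _ _ h2.1 hwi)),
      c.mul hw (range_nums.mul _ _ h2.1 hwi), c.mul h2.1 hwi, ← h2.2, ← h1.2, el_inv c.rel hw, el_inv c.rel hul, omG]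
    group

theorem rep_tau : Rep f τ τ (tauV + 16 * tauP) := by
  obtain ⟨-, -, hT, hV, hV16, -, -, -, -⟩ := act_checks
  have e1 : (tauV + 16 * tauP) / 16 = tauP := by omega
  have e2 : (tauV + 16 * tauP) % 16 = tauV := by omega
  refine ⟨⟨by rw [e1]; decide +kernel, fun b hb => ?_⟩, ?_⟩
  · have hb' : b < 16 := by simp only [List.mem_cons, List.not_mem_nil, or_false] at hb; omega
    rw [e1, eA, eA, (c.tau_cj d (c.aA_mem hb')).2, beq_iff_eq.1 (List.all_eq_true.1 hT b (List.mem_range.2 hb'))]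
  · have h1 := c.tau_cj d (c.om_mem d)
    have hw := (c.memV (c.om_mem d)).1
    rw [e2, eA, ← hV, c.mul h1.1 (range_nums.inv _ hw), ← h1.2, el_inv c.rel hw, omG]
    group

end Ctx

end CfsgLib.JThreeUniq
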