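import Mathlib
import Cfsg.Agent.Lib.JThreeUniq.Data.Tables

/-!
The centralizer of an involution of the third Janko group as numbers below 1920.
-/

set_option autoImplicit false

namespace CfsgLib.JThreeUniq

/-- An entry of a packed table. -/
def tget (w t i : ℕ) : ℕ := (t >>> (w * i)) % 2 ^ w

/-- Evaluates a number before using it. -/
def force {α : Type} (n : ℕ) (f : ℕ → α) : α :=
  match n with
  | 0 => f 0
  | k + 1 => f (k + 1)

theorem force_eq {α : Type} (n : ℕ) (f : ℕ → α) : force n f = f n := by cases n <;> rfl

/-- The product: sign, mask and permutation. -/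
def mulN (a b : ℕ) : ℕ :=
  force (tget 5 Data.actT (a / 32 * 16 + b / 2 % 16)) fun w =>
  force (tget 5 Data.quadT (a / 2 % 16 * 16 + w / 2)) fun v =>
    (a + b + w + v) % 2 + 2 * (v / 2) + 32 * tget 6 Data.permT (a / 32 * 60 + b / 32)

/-- The inverse. -/
def invN (a : ℕ) : ℕ := tget 11 Data.invT a

/-- Conjugation by the element of order three, or 2047. -/
def tauN (a : ℕ) : ℕ := tget 11 Data.tauT a

/-- Conjugation by its inverse, or 2047. -/
def taiN (a : ℕ) : ℕ := tget 11 Data.taiT a

/-- Conjugation by the involution, or 2047. -/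
def sigN (a : ℕ) : ℕ := tget 11 Data.sigT a

end CfsgLib.JThreeUniq
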