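import Cfsg.Agent.Lib.JThreeUniq.OmegaWords
import Cfsg.Agent.Lib.InvolChar.D8
import Cfsg.Agent.Lib.SmallSimple.Order360

/-!
The centralizer of the scalar element modulo itself is the alternating group of degree six.
-/

set_option autoImplicit false
set_option maxRecDepth 100000
set_option linter.style.haveILetI false

namespace CfsgLib.JThreeUniq

open CfsgLib.JTwoUniq CfsgLib.JTwoUniq.Coset Subgroup

/-- The centralizer of the chosen element of order three in the centralizer of the involution. -/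
def centC : List ℕ := (List.range 1920).filter fun a => mulN a Data.numC == mulN Data.numC a

/-- An element of order four in it. -/
def elA : ℕ := (centC.filter fun a => mulN a a == 1).getD 0 0

/-- An involution inverting it. -/
def elB : ℕ := (centC.filter fun b => mulN b b == 0 && !(b == 0) && cjN b elA == invN elA).getD 0 0

theorem cent_checks : centC.length = 24 ∧ centC.contains elA = true ∧ centC.contains elB = true ∧
    mulN elA elA = 1 ∧ mulN elB elB = 0 ∧ elB ≠ 0 ∧ cjN elB elA = invN elA ∧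
    centC.all (fun x => (List.range 3).any fun i => (List.range 4).any fun j => (List.range 2).any fun k =>
      x == mulN ([0, Data.numC, mulN Data.numC Data.numC].getD i 0)
        (mulN ([0, mulN elB (mulN elB elA), 1, mulN 1 (mulN elB (mulN elB elA))].getD j 0) ([0, elB].getD k 0))) = true ∧
    mulN elB (mulN elB elA) = elA ∧ mulN (mulN elB elA) (mulN elB elA) = 0 ∧
    mulN Data.numC (mulN Data.numC Data.numC) = 0 ∧ Data.numC ≠ 0 ∧
    centC.contains (mulN elB elA) = true ∧
    [0, Data.numC, mulN Data.numC Data.numC].all (fun x => !(x == 1) && !(x == elA) && !(x == mulN elA elA)) = true := by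
  refine ⟨?_, ?_, ?_, ?_, ?_, ?_, ?_, ?_, ?_, ?_, ?_, ?_, ?_, ?_⟩ <;> decide +kernel

theorem three_checks : ((List.range 1920).filter fun R => mulN R (mulN R R) == 0 && !(R == 0)).all (fun R =>
      (List.range 1920).any fun d => cjN d Data.numC == R || cjN d (mulN Data.numC Data.numC) == R) = true := by
  decide +kernel

variable {G : Type*} [Group G] [Finite G] {z : G} {f : ℕ → G} {τ σ h E T : G}

namespace Ctx

variable (c : Ctx z f) (d : TauV f τ) (a : SigA f τ σ) (o : OmegaData f τ σ h E T)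
include c d a o

omit d a in
/-- The centralizer of an involution commuting with the scalar element. -/
theorem exists_move {y : G} (hy2 : y * y = 1) (hy1 : y ≠ 1) (hyc : y * omG f τ = omG f τ * y) :
    ∃ m : G, m * y * m⁻¹ = z ∧ ∀ x : G, (x * omG f τ = omG f τ * x ∧ x * y = y * x) ↔
      ∃ R ∈ centC, m * x * m⁻¹ = el f R := by
  have hC : Data.numC < 1920 := by decide +kernel
  have hyo : orderOf y = 2 := orderOf_eq_prime (by rw [pow_two, hy2]) hy1
  have hzo : orderOf z = 2 := by rw [← c.el1]; exact c.order_two (by norm_num) (by decide +kernel) one_ne_zero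
  obtain ⟨g, hg⟩ := isConj_iff.1 (c.hone y z hyo hzo)
  obtain ⟨R, hR, eR⟩ := c.surj (x := g * omG f τ * g⁻¹) (by
    rw [mem_centralizer_singleton_iff, ← hg,
      show g * omG f τ * g⁻¹ * (g * y * g⁻¹) = g * (omG f τ * y) * g⁻¹ by group,
      show g * y * g⁻¹ * (g * omG f τ * g⁻¹) = g * (y * omG f τ) * g⁻¹ by group, hyc])
  have h3 : omG f τ * (omG f τ * omG f τ) = 1 := by
    have e : h * (omG f τ * (omG f τ * omG f τ)) * h⁻¹ = 1 := by
      rw [show h * (omG f τ * (omG f τ * omG f τ)) * h⁻¹ =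
        (h * omG f τ * h⁻¹) * ((h * omG f τ * h⁻¹) * (h * omG f τ * h⁻¹)) by group, o.hom, ← c.mul hC hC,
        ← c.mul hC (range_nums.mul _ _ hC hC), cent_checks.2.2.2.2.2.2.2.2.2.2.1, c.one]
    exact conj_eq_one_iff.1 e
  have hR3 : mulN R (mulN R R) = 0 ∧ R ≠ 0 := by
    constructor
    · refine c.inj (range_nums.mul _ _ hR (range_nums.mul _ _ hR hR)) (by norm_num) ?_
      rw [c.mul hR (range_nums.mul _ _ hR hR), c.mul hR hR, eR, c.one,
        show g * omG f τ * g⁻¹ * (g * omG f τ * g⁻¹ * (g * omG f τ * g⁻¹)) =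
          g * (omG f τ * (omG f τ * omG f τ)) * g⁻¹ by group, h3]
      group
    · rintro rfl
      rw [c.one] at eR
      have e := o.hom
      rw [conj_eq_one_iff.1 eR.symm, mul_one, mul_inv_cancel] at e
      exact cent_checks.2.2.2.2.2.2.2.2.2.2.2.1 (c.inj hC (by norm_num) (e.symm.trans c.one.symm))
  have hd := List.all_eq_true.1 three_checks R (List.mem_filter.2 ⟨List.mem_range.2 hR, by simp [hR3.1, hR3.2]⟩)
  simp only [List.any_eq_true, List.mem_range, Bool.or_eq_true, beq_iff_eq] at hd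
  obtain ⟨e, he, hd⟩ := hd
  refine ⟨(el f e)⁻¹ * g, ?_, fun x => ?_⟩
  · rw [show (el f e)⁻¹ * g * y * ((el f e)⁻¹ * g)⁻¹ = (el f e)⁻¹ * (g * y * g⁻¹) * el f e by group, hg, mul_assoc,
      ← mem_centralizer_singleton_iff.1 (c.mem he), inv_mul_cancel_left]
  set m := (el f e)⁻¹ * g with hm
  have hmy : m * y * m⁻¹ = z := by
    rw [hm, show (el f e)⁻¹ * g * y * ((el f e)⁻¹ * g)⁻¹ = (el f e)⁻¹ * (g * y * g⁻¹) * el f e by group, hg, mul_assoc,
      ← mem_centralizer_singleton_iff.1 (c.mem he), inv_mul_cancel_left]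
  have hmw : m * omG f τ * m⁻¹ = el f Data.numC ∨ m * omG f τ * m⁻¹ = el f (mulN Data.numC Data.numC) := by
    have key : ∀ {C : ℕ}, C < 1920 → cjN e C = R → m * omG f τ * m⁻¹ = el f C := by
      intro C hC' h'
      rw [hm, show (el f e)⁻¹ * g * omG f τ * ((el f e)⁻¹ * g)⁻¹ = (el f e)⁻¹ * (g * omG f τ * g⁻¹) * el f e by group,
        ← eR, ← h', c.cj he hC']
      group
    exact hd.imp (key hC) (key (range_nums.mul _ _ hC hC))
  have hx : x * omG f τ = omG f τ * x ↔ m * x * m⁻¹ * el f Data.numC = el f Data.numC * (m * x * m⁻¹) := by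
    have e1 : ∀ y : G, x * y = y * x ↔ m * x * m⁻¹ * (m * y * m⁻¹) = m * y * m⁻¹ * (m * x * m⁻¹) := by
      intro y
      rw [show m * x * m⁻¹ * (m * y * m⁻¹) = m * (x * y) * m⁻¹ by group,
        show m * y * m⁻¹ * (m * x * m⁻¹) = m * (y * x) * m⁻¹ by group]
      exact ⟨fun h => by rw [h], fun h => mul_left_cancel (mul_right_cancel h)⟩
    rcases hmw with h' | h'
    · rw [e1, h']
    · rw [e1, h', c.mul hC hC]
      generalize m * x * m⁻¹ = u
      have hn3 : el f Data.numC * (el f Data.numC * el f Data.numC) = 1 := by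
        rw [← c.mul hC hC, ← c.mul hC (range_nums.mul _ _ hC hC), cent_checks.2.2.2.2.2.2.2.2.2.2.1, c.one]
      constructor
      · intro hu
        have e4 : el f Data.numC * el f Data.numC * (el f Data.numC * el f Data.numC) = el f Data.numC := by
          rw [show el f Data.numC * el f Data.numC * (el f Data.numC * el f Data.numC) =
            el f Data.numC * (el f Data.numC * el f Data.numC) * el f Data.numC by group, hn3, one_mul]
        have hu' : Commute u (el f Data.numC * el f Data.numC) := hu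
        have h4 := Commute.mul_right hu' hu'
        rw [e4] at h4
        exact h4.eq
      · intro hu
        have hu' : Commute u (el f Data.numC) := hu
        exact (Commute.mul_right hu' hu').eq
  have hy' : x * y = y * x ↔ m * x * m⁻¹ ∈ centralizer ({z} : Set G) := by
    rw [mem_centralizer_singleton_iff, ← hmy, show m * x * m⁻¹ * (m * y * m⁻¹) = m * (x * y) * m⁻¹ by group,
      show m * y * m⁻¹ * (m * x * m⁻¹) = m * (y * x) * m⁻¹ by group]
    exact ⟨fun h => by rw [h], fun h => mul_left_cancel (mul_right_cancel h)⟩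
  rw [hx, hy']
  constructor
  · rintro ⟨hw, hz⟩
    obtain ⟨S, hS, eS⟩ := c.surj hz
    refine ⟨S, List.mem_filter.2 ⟨List.mem_range.2 hS, beq_iff_eq.2 ((c.comm_iff hS hC).1 ?_)⟩, eS.symm⟩
    rw [eS]; exact hw
  · rintro ⟨S, hS, eS⟩
    obtain ⟨hS', hS''⟩ := List.mem_filter.1 hS
    rw [List.mem_range] at hS'
    rw [eS]
    exact ⟨(c.comm_iff hS' hC).2 (beq_iff_eq.1 hS''), c.mem hS'⟩

/-- The map onto even permutations of six points, with the kernel generated by the scalar element. -/
theorem exists_six : ∃ φ : centralizer ({omG f τ} : Set G) →* Equiv.Perm (Fin 6),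
    (∀ x, Equiv.Perm.sign (φ x) = 1) ∧
      ∀ x, φ x = 1 ↔ (x : G) = 1 ∨ (x : G) = omG f τ ∨ (x : G) = omG f τ * omG f τ := by
  classical
  set K := centralizer ({omG f τ} : Set G) with hK
  set w : K := ⟨omG f τ, mem_centralizer_singleton_iff.2 rfl⟩ with hw
  have mK : ∀ {x : G}, x * omG f τ = omG f τ * x → x ∈ K := fun h => mem_centralizer_singleton_iff.2 h
  have kc : ∀ x : K, (x : G) * omG f τ = omG f τ * x := fun x => mem_centralizer_singleton_iff.1 x.2
  set W : Subgroup K := zpowers w with hW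
  haveI hWn : W.Normal := ⟨fun n hn g => by
    obtain ⟨i, rfl⟩ := mem_zpowers_iff.1 hn
    have : g * w = w * g := Subtype.ext (kc g)
    rw [(Commute.zpow_right this i).eq, mul_inv_cancel_right]
    exact mem_zpowers_iff.2 ⟨i, rfl⟩⟩
  have hC : Data.numC < 1920 := by decide +kernel
  obtain ⟨k24, kA, kB, hA2, hB2, hB0, hBA, hgen, hBBA, hBA2, hC3, hC0, kBA, hne⟩ := cent_checks
  rw [List.contains_iff_mem] at kA kB kBA
  have hlt : ∀ {R}, R ∈ centC → R < 1920 := fun hR => List.mem_range.1 (List.mem_filter.1 hR).1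
  have hA := hlt kA
  have hB := hlt kB
  set u0 := el f (Data.numU.getD 0 0) with hu0
  have hu0l : Data.numU.getD 0 0 < 1920 := by decide +kernel
  have u2 : u0 * u0 = 1 := by rw [hu0, ← c.mul hu0l hu0l, number_checks.2.2.2.2.2.2.2.2.1, c.one]
  have u1 : u0 ≠ 1 := fun e => by
    have := o.hu
    rw [← hu0, e, mul_one, mul_inv_cancel] at this
    exact absurd (c.inj (by norm_num) (by norm_num) (c.one.trans this)) (by norm_num)
  have hw3 : omG f τ * (omG f τ * omG f τ) = 1 := by rw [← mul_assoc]; exact c.om_cube d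
  have hwW : ∀ x : K, x ∈ W ↔ (x : G) = 1 ∨ (x : G) = omG f τ ∨ (x : G) = omG f τ * omG f τ := by
    intro x
    constructor
    · intro hx
      obtain ⟨i, rfl⟩ := mem_zpowers_iff.1 hx
      have h3 : w ^ (3 : ℤ) = 1 := Subtype.ext (by
        rw [Subgroup.coe_zpow, Subgroup.coe_one, show (3 : ℤ) = ((3 : ℕ) : ℤ) from rfl, zpow_natCast, pow_three]
        exact hw3)
      rw [← Int.emod_add_mul_ediv i 3, zpow_add, zpow_mul, h3, one_zpow, mul_one]
      have := Int.emod_nonneg i (show (3 : ℤ) ≠ 0 by norm_num)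
      have := Int.emod_lt_of_pos i (show (0 : ℤ) < 3 by norm_num)
      interval_cases i % 3
      · left; simp
      · right; left; simp [hw]
      · right; right; rw [Subgroup.coe_zpow, show (2 : ℤ) = ((2 : ℕ) : ℤ) from rfl, zpow_natCast, pow_two]
    · rintro (h' | h' | h')
      · rw [show x = 1 from Subtype.ext h']; exact one_mem _
      · rw [show x = w from Subtype.ext h']; exact mem_zpowers w
      · rw [show x = w * w from Subtype.ext h']; exact mul_mem (mem_zpowers w) (mem_zpowers w)
  obtain ⟨m, hm, hmem⟩ := c.exists_move o u2 u1 o.cU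
  -- pull back elements of the centralizer
  have pull : ∀ {R}, R ∈ centC → ∃ x : K, m * (x : G) * m⁻¹ = el f R ∧ (x : G) * u0 = u0 * x := by
    intro R hR
    obtain ⟨h1, h2⟩ := (hmem (m⁻¹ * el f R * m)).2 ⟨R, hR, by group⟩
    exact ⟨⟨_, mK h1⟩, by group, h2⟩
  obtain ⟨xa, ea, ca⟩ := pull kA
  obtain ⟨xb, eb, cb⟩ := pull kB
  let π := QuotientGroup.mk' W
  set U : K := ⟨u0, mK o.cU⟩ with hU
  have piEq : ∀ {x y : K}, π x = π y → (x : G) * u0 = u0 * x → (y : G) * u0 = u0 * y := by
    intro x y e hx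
    obtain ⟨v, hv, hxy⟩ := (QuotientGroup.mk'_eq_mk' W).1 e
    rw [← hxy, Subgroup.coe_mul]
    have hvc : (v : G) * u0 = u0 * v := by
      rcases (hwW v).1 hv with h' | h' | h' <;> rw [h']
      · group
      · exact o.cU.symm
      · rw [mul_assoc, ← o.cU, ← mul_assoc, ← o.cU, mul_assoc]
    rw [mul_assoc, hvc, ← mul_assoc, hx, mul_assoc]
  have hW3 : Nat.card W = 3 := by
    haveI : Fact (Nat.Prime 3) := ⟨Nat.prime_three⟩
    rw [hW, Nat.card_zpowers]
    refine orderOf_eq_prime (Subtype.ext (by rw [Subgroup.coe_pow, pow_three]; exact hw3)) fun e => ?_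
    have := o.hom
    rw [show omG f τ = 1 from congrArg Subtype.val e, mul_one, mul_inv_cancel] at this
    exact hC0 (c.inj hC (by norm_num) (this.symm.trans c.one.symm))
  -- the centralizer of the involution in the quotient
  have hcentX : centralizer ({π U} : Set (K ⧸ W)) = (centralizer ({U} : Set K)).map π := by
    ext q
    constructor
    · intro hq
      obtain ⟨x, rfl⟩ := QuotientGroup.mk'_surjective W q
      refine ⟨x, mem_centralizer_singleton_iff.2 (Subtype.ext ?_), rfl⟩
      rw [mem_centralizer_singleton_iff, ← map_mul, ← map_mul] at hq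
      obtain ⟨v, hv, hxv⟩ := (QuotientGroup.mk'_eq_mk' W).1 hq
      have e : (x : G) * u0 * v = u0 * x := congrArg Subtype.val hxv
      have hv' : Commute (x : G) v ∧ Commute u0 (v : G) := by
        rcases (hwW v).1 hv with h' | h' | h' <;> rw [h']
        · exact ⟨Commute.one_right _, Commute.one_right _⟩
        · exact ⟨kc x, o.cU⟩
        · exact ⟨Commute.mul_right (kc x) (kc x), Commute.mul_right o.cU o.cU⟩
      have e1 : (x : G) * u0 * (x : G)⁻¹ = u0 * (v : G)⁻¹ := by
        rw [show (x : G) * u0 = u0 * x * (v : G)⁻¹ by rw [← e]; group, mul_assoc u0, hv'.1.inv_right.eq]; group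
      have hsq : ((v : G) * v) = 1 := by
        have e3 : u0 * (v : G)⁻¹ * (u0 * (v : G)⁻¹) = 1 := by
          rw [← e1, show (x : G) * u0 * (x : G)⁻¹ * ((x : G) * u0 * (x : G)⁻¹) = x * (u0 * u0) * (x : G)⁻¹ by group, u2]
          group
        rw [show u0 * (v : G)⁻¹ * (u0 * (v : G)⁻¹) = u0 * ((v : G)⁻¹ * u0) * (v : G)⁻¹ by group,
          ← hv'.2.inv_right.eq, show u0 * (u0 * (v : G)⁻¹) * (v : G)⁻¹ = u0 * u0 * ((v : G) * v)⁻¹ by group, u2, one_mul,
          inv_eq_one] at e3
        exact e3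
      have hv1 : (v : G) = 1 := by
        have hv3 : (v : G) * (v * v) = 1 := by
          rcases (hwW v).1 hv with h' | h' | h' <;> rw [h']
          · group
          · exact hw3
          · calc omG f τ * omG f τ * (omG f τ * omG f τ * (omG f τ * omG f τ))
                = (omG f τ * (omG f τ * omG f τ)) * (omG f τ * (omG f τ * omG f τ)) := by group
              _ = 1 := by rw [hw3, one_mul]
        rwa [hsq, mul_one] at hv3
      rw [hv1, mul_one] at e
      exact e
    · rintro ⟨x, hx, rfl⟩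
      rw [mem_centralizer_singleton_iff, ← map_mul, ← map_mul, mem_centralizer_singleton_iff.1 hx]
  have hcard8 : Nat.card ↥(centralizer ({π U} : Set (K ⧸ W))) = 8 := by
    have h24 : Nat.card ↥(centralizer ({U} : Set K)) = 24 := by
      have key := c.card_cent (R := Data.numC) hC k24
      rw [← key]
      refine Nat.card_congr
        { toFun := fun x => ⟨m * ((x : K) : G) * m⁻¹, ?_⟩
          invFun := fun x => ⟨⟨m⁻¹ * x * m, ?_⟩, ?_⟩
          left_inv := fun x => Subtype.ext (Subtype.ext (by simp [mul_assoc]))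
          right_inv := fun x => Subtype.ext (by simp [mul_assoc]) }
      · have hx : ((x : K) : G) * u0 = u0 * (x : K) := congrArg Subtype.val (mem_centralizer_singleton_iff.1 x.2)
        obtain ⟨R, hR, e⟩ := (hmem _).1 ⟨kc x, hx⟩
        obtain ⟨hR1, hR2⟩ := List.mem_filter.1 hR
        rw [List.mem_range] at hR1
        exact mem_inf.2 ⟨e ▸ c.mem hR1, mem_centralizer_singleton_iff.2 (e ▸ (c.comm_iff hR1 hC).2 (beq_iff_eq.1 hR2))⟩
      · obtain ⟨h1, h2⟩ := mem_inf.1 x.2
        obtain ⟨R, hR, eR⟩ := c.surj h1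
        rw [mem_centralizer_singleton_iff, ← eR, c.comm_iff hR hC] at h2
        exact mK ((hmem _).2 ⟨R, List.mem_filter.2 ⟨List.mem_range.2 hR, beq_iff_eq.2 h2⟩, by rw [eR]; group⟩).1
      · obtain ⟨h1, h2⟩ := mem_inf.1 x.2
        obtain ⟨R, hR, eR⟩ := c.surj h1
        rw [mem_centralizer_singleton_iff, ← eR, c.comm_iff hR hC] at h2
        exact mem_centralizer_singleton_iff.2 (Subtype.ext
          ((hmem _).2 ⟨R, List.mem_filter.2 ⟨List.mem_range.2 hR, beq_iff_eq.2 h2⟩, by rw [eR]; group⟩).2)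
    have hle : W ≤ centralizer ({U} : Set K) := fun v hv => mem_centralizer_singleton_iff.2 (Subtype.ext (by
      rcases (hwW v).1 hv with h' | h' | h' <;> simp only [Subgroup.coe_mul, h', hU]
      · group
      · exact o.cU.symm
      · rw [mul_assoc, ← o.cU, ← mul_assoc, ← o.cU, mul_assoc]))
    have hker : (π.subgroupMap (centralizer ({U} : Set K))).ker = W.subgroupOf (centralizer ({U} : Set K)) := by
      ext x
      simp [mem_subgroupOf, π, MonoidHom.mem_ker, Subtype.ext_iff, QuotientGroup.eq_one_iff]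
    have hcount := card_mul_index (π.subgroupMap (centralizer ({U} : Set K))).ker
    rw [index_ker, MonoidHom.range_eq_top.2 (π.subgroupMap_surjective _), card_top, h24, hker,
      Nat.card_congr (subgroupOfEquivOfLe hle).toEquiv, hW3] at hcount
    rw [hcentX]
    omega
  -- a subgroup of index two would contain everything
  have hG : ∀ H : Subgroup (K ⧸ W), H.index ≠ 2 := by
    intro H hH
    set H' : Subgroup K := H.comap π with hH'
    have hH'2 : H'.index = 2 := by rw [hH', index_comap_of_surjective H (QuotientGroup.mk'_surjective W), hH]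
    have hsqH : ∀ x : K, x * x ∈ H' := fun x => by
      haveI := normal_of_index_eq_two hH'2
      rw [← pow_two, ← hH'2]
      exact H'.pow_index_mem x
    have hwH : ∀ v ∈ W, v ∈ H' := fun v hv => by
      show π v ∈ H
      rw [show π v = 1 from (QuotientGroup.eq_one_iff v).2 hv]
      exact one_mem _
    have hinv : ∀ y : K, y * y = 1 → y ∈ H' := by
      intro y hy
      by_cases hy1 : y = 1
      · rw [hy1]; exact one_mem _
      obtain ⟨n, hn, hnmem⟩ := c.exists_move o (y := (y : G)) (congrArg Subtype.val hy)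
        (fun e => hy1 (Subtype.ext e)) (kc y)
      obtain ⟨h1, -⟩ := (hnmem (n⁻¹ * el f elA * n)).2 ⟨elA, kA, by group⟩
      have e : (⟨n⁻¹ * el f elA * n, mK h1⟩ : K) * ⟨n⁻¹ * el f elA * n, mK h1⟩ = y := Subtype.ext (by
        show n⁻¹ * el f elA * n * (n⁻¹ * el f elA * n) = y
        rw [show n⁻¹ * el f elA * n * (n⁻¹ * el f elA * n) = n⁻¹ * (el f elA * el f elA) * n by group,
          ← c.mul hA hA, hA2, c.el1, ← hn]
        group)
      rw [← e]; exact hsqH _
    have hcy : ∀ y : K, y * y = 1 → y ≠ 1 → ∀ x : K, x * y = y * x → x ∈ H' := by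
      intro y hy hy1 x hx
      obtain ⟨n, hn, hnmem⟩ := c.exists_move o (y := (y : G)) (congrArg Subtype.val hy)
        (fun e => hy1 (Subtype.ext e)) (kc y)
      obtain ⟨R, hR, eR⟩ := (hnmem x).1 ⟨kc x, congrArg Subtype.val hx⟩
      have hin : ∀ {S}, S ∈ centC → mulN S S = 0 ∨ mulN S (mulN S S) = 0 →
          ∀ y : K, n * (y : G) * n⁻¹ = el f S → y ∈ H' := by
        intro S hS hor y' ey'
        have hS' := hlt hS
        rcases hor with h0 | h0
        · refine hinv y' (Subtype.ext ((conj_eq_one_iff (a := n)).1 ?_))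
          rw [Subgroup.coe_mul, show n * ((y' : G) * y') * n⁻¹ = (n * y' * n⁻¹) * (n * y' * n⁻¹) by group, ey',
            ← c.mul hS' hS', h0, c.one]
        · have e3 : y' * y' * (y' * y') = y' := Subtype.ext (by
            have : n * ((y' : G) * y' * y') * n⁻¹ = 1 := by
              rw [show n * ((y' : G) * y' * y') * n⁻¹ = (n * y' * n⁻¹) * ((n * y' * n⁻¹) * (n * y' * n⁻¹)) by group,
                ey', ← c.mul hS' hS', ← c.mul hS' (range_nums.mul _ _ hS' hS'), h0, c.one]
            show (y' : G) * y' * (y' * y') = y'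
            rw [← mul_assoc ((y' : G) * y'), conj_eq_one_iff.1 this, one_mul])
          rw [← e3]; exact hsqH _
      obtain ⟨hR1, -⟩ := List.mem_filter.1 hR
      have hg := List.all_eq_true.1 hgen R hR
      simp only [List.any_eq_true, List.mem_range, beq_iff_eq] at hg
      obtain ⟨i, hi, j, hj, k, hk, hRe⟩ := hg
      have hCm : Data.numC ∈ centC := List.mem_filter.2 ⟨List.mem_range.2 hC, beq_self_eq_true _⟩
      have h1m : 1 ∈ centC := by decide +kernel
      obtain ⟨xC, eC⟩ : ∃ x : K, n * (x : G) * n⁻¹ = el f Data.numC :=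
        ⟨⟨_, mK ((hnmem (n⁻¹ * el f Data.numC * n)).2 ⟨_, hCm, by group⟩).1⟩, by group⟩
      obtain ⟨xB, eB⟩ : ∃ x : K, n * (x : G) * n⁻¹ = el f elB :=
        ⟨⟨_, mK ((hnmem (n⁻¹ * el f elB * n)).2 ⟨_, kB, by group⟩).1⟩, by group⟩
      obtain ⟨xBA, eBA⟩ : ∃ x : K, n * (x : G) * n⁻¹ = el f (mulN elB elA) :=
        ⟨⟨_, mK ((hnmem (n⁻¹ * el f (mulN elB elA) * n)).2 ⟨_, kBA, by group⟩).1⟩, by group⟩
      obtain ⟨xZ, eZ⟩ : ∃ x : K, n * (x : G) * n⁻¹ = el f 1 :=
        ⟨⟨_, mK ((hnmem (n⁻¹ * el f 1 * n)).2 ⟨_, h1m, by group⟩).1⟩, by group⟩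
      have pC := hin hCm (Or.inr hC3) xC eC
      have pB := hin kB (Or.inl hB2) xB eB
      have pBA := hin kBA (Or.inl hBA2) xBA eBA
      have pZ := hin h1m (Or.inl (by decide +kernel)) xZ eZ
      have m1 : ∀ p q : K, ∀ {P Q : ℕ}, P < 1920 → Q < 1920 → n * (p : G) * n⁻¹ = el f P →
          n * (q : G) * n⁻¹ = el f Q → n * ((p * q : K) : G) * n⁻¹ = el f (mulN P Q) := by
        intro p q P Q hP hQ ep eq
        rw [c.mul hP hQ, ← ep, ← eq, Subgroup.coe_mul]; group
      have e0 : n * ((1 : K) : G) * n⁻¹ = el f 0 := by rw [Subgroup.coe_one, c.one]; group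
      obtain ⟨p, hpH, hp⟩ : ∃ p ∈ H', n * (p : G) * n⁻¹ = el f ([0, Data.numC, mulN Data.numC Data.numC].getD i 0) := by
        interval_cases i
        exacts [⟨1, one_mem _, e0⟩, ⟨xC, pC, eC⟩, ⟨xC * xC, mul_mem pC pC, m1 _ _ hC hC eC eC⟩]
      have hlBA := hlt kBA
      have eBBA := m1 _ _ hB hlBA eB eBA
      obtain ⟨q, hqH, hq⟩ : ∃ q ∈ H', n * (q : G) * n⁻¹ =
          el f ([0, mulN elB (mulN elB elA), 1, mulN 1 (mulN elB (mulN elB elA))].getD j 0) := by
        interval_cases j
        exacts [⟨1, one_mem _, e0⟩, ⟨xB * xBA, mul_mem pB pBA, eBBA⟩, ⟨xZ, pZ, eZ⟩,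
          ⟨xZ * (xB * xBA), mul_mem pZ (mul_mem pB pBA), m1 _ _ (by norm_num) (range_nums.mul _ _ hB hlBA) eZ eBBA⟩]
      obtain ⟨r, hrH, hr⟩ : ∃ r ∈ H', n * (r : G) * n⁻¹ = el f ([0, elB].getD k 0) := by
        interval_cases k
        exacts [⟨1, one_mem _, e0⟩, ⟨xB, pB, eB⟩]
      have l1 : [0, Data.numC, mulN Data.numC Data.numC].getD i 0 < 1920 := by interval_cases i <;> decide +kernel
      have l2 : [0, mulN elB (mulN elB elA), 1, mulN 1 (mulN elB (mulN elB elA))].getD j 0 < 1920 := by
        interval_cases j <;> decide +kernel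
      have l3 : [0, elB].getD k 0 < 1920 := by interval_cases k <;> decide +kernel
      have efin := m1 _ _ l1 (range_nums.mul _ _ l2 l3) hp (m1 _ _ l2 l3 hq hr)
      have : x = p * (q * r) := Subtype.ext (mul_left_cancel (mul_right_cancel ((eR.trans (hRe ▸ rfl)).trans efin.symm)))
      rw [this]
      exact mul_mem hpH (mul_mem hqH hrH)
    obtain ⟨x, hx⟩ : ∃ x : K, x ∉ H' := by
      by_contra hcon
      push Not at hcon
      rw [show H' = ⊤ from eq_top_iff.2 fun x _ => hcon x, index_top] at hH'2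
      norm_num at hH'2
    obtain ⟨k, s, hs, hk⟩ := Nat.exists_eq_two_pow_mul_odd (orderOf_pos x).ne'
    obtain ⟨t, rfl⟩ := hs
    have hx' : x ^ (2 * t + 1) ∉ H' := fun hmem' => hx (by
      have h2 : x ^ (2 * t) ∈ H' := by rw [two_mul, pow_add]; exact hsqH _
      rw [pow_succ] at hmem'
      exact (H'.mul_mem_cancel_left h2).1 hmem')
    set x' := x ^ (2 * t + 1) with hxd
    have hord : x' ^ 2 ^ k = 1 := by rw [hxd, ← pow_mul, mul_comm, ← hk, pow_orderOf_eq_one]
    obtain ⟨j, hjo, hjn⟩ : ∃ j, x' ^ 2 ^ (j + 1) = 1 ∧ x' ^ 2 ^ j ≠ 1 := by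
      clear hk
      induction k with
      | zero => exact absurd (by simpa using hord) (fun e : x' = 1 => hx' (e ▸ one_mem _))
      | succ k ih =>
        by_cases e : x' ^ 2 ^ k = 1
        · exact ih e
        · exact ⟨k, hord, e⟩
    refine hx' (hcy (x' ^ 2 ^ j) ?_ hjn x' (Commute.self_pow x' (2 ^ j)).eq)
    rw [← pow_add, ← two_mul, ← pow_succ', hjo]
  have mW : ∀ v ∈ W, ∃ R ∈ [0, Data.numC, mulN Data.numC Data.numC],
      m * (v : G) * m⁻¹ = el f R := by
    intro v hv
    have hwm : ∃ R ∈ [Data.numC, mulN Data.numC Data.numC], m * omG f τ * m⁻¹ = el f R := by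
      obtain ⟨R, hR, eR⟩ := (hmem (omG f τ)).1 ⟨rfl, o.cU.symm⟩
      have hR' := hlt hR
      have h3 : mulN R (mulN R R) = 0 := c.inj (range_nums.mul _ _ hR' (range_nums.mul _ _ hR' hR')) (by norm_num) (by
        rw [c.mul hR' (range_nums.mul _ _ hR' hR'), c.mul hR' hR', ← eR, c.one,
          show m * omG f τ * m⁻¹ * (m * omG f τ * m⁻¹ * (m * omG f τ * m⁻¹)) =
            m * (omG f τ * (omG f τ * omG f τ)) * m⁻¹ by group, hw3]
        group)
      have hR0 : R ≠ 0 := by
        rintro rfl
        rw [c.one, conj_eq_one_iff] at eR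
        have := o.hom
        rw [eR, mul_one, mul_inv_cancel] at this
        exact hC0 (c.inj hC (by norm_num) (this.symm.trans c.one.symm))
      have hall : (centC.filter fun R => mulN R (mulN R R) == 0 && !(R == 0)).all
          (fun R => [Data.numC, mulN Data.numC Data.numC].contains R) = true := by decide +kernel
      exact ⟨R, List.contains_iff_mem.1 (List.all_eq_true.1 hall R
        (List.mem_filter.2 ⟨hR, by simp [h3, hR0]⟩)), eR⟩
    obtain ⟨R, hR, eR⟩ := hwm
    rcases (hwW v).1 hv with h' | h' | h' <;> rw [h']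
    · exact ⟨0, by simp, (by rw [c.one]; group)⟩
    · exact ⟨R, List.mem_cons_of_mem _ hR, eR⟩
    · refine ⟨mulN R R, ?_, ?_⟩
      · simp only [List.mem_cons, List.not_mem_nil, or_false] at hR ⊢
        rcases hR with rfl | rfl
        · exact Or.inr (Or.inr rfl)
        · exact Or.inr (Or.inl (by decide +kernel))
      · have hR' : R < 1920 := by
          simp only [List.mem_cons, List.not_mem_nil, or_false] at hR
          rcases hR with rfl | rfl <;> decide +kernel
        rw [c.mul hR' hR', ← eR]; group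
  have nW : ∀ {x : K} {R : ℕ}, R < 1920 → m * (x : G) * m⁻¹ = el f R → R ∉ [0, Data.numC, mulN Data.numC Data.numC] →
      π x ≠ 1 := by
    intro x R hR ex hnot e
    obtain ⟨S, hS, hor⟩ := mW x ((QuotientGroup.eq_one_iff x).1 e)
    have hS' : S < 1920 := by
      simp only [List.mem_cons, List.not_mem_nil, or_false] at hS
      rcases hS with rfl | rfl | rfl <;> decide +kernel
    exact hnot (c.inj hR hS' (ex.symm.trans hor) ▸ hS)
  haveI : Fact (Nat.Prime 2) := ⟨Nat.prime_two⟩
  have hne' : ∀ R ∈ [1, elA, mulN elA elA], R ∉ [0, Data.numC, mulN Data.numC Data.numC] := by decide +kernel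
  have eA2 : m * ((xa * xa : K) : G) * m⁻¹ = el f 1 := by
    rw [← hA2, c.mul hA hA, ← ea, Subgroup.coe_mul]; group
  have eA4 : (xa * xa) * (xa * xa) = (1 : K) := Subtype.ext ((conj_eq_one_iff (a := m)).1 (by
    rw [Subgroup.coe_mul, show m * (((xa * xa : K) : G) * ((xa * xa : K) : G)) * m⁻¹ =
      (m * ((xa * xa : K) : G) * m⁻¹) * (m * ((xa * xa : K) : G) * m⁻¹) by group, eA2,
      ← c.mul (by norm_num) (by norm_num), show mulN 1 1 = 0 by decide +kernel, c.one]))
  obtain ⟨hsimp, hcard⟩ := CfsgLib.InvolChar.dihedral_eight hG (z := π U) (a := π xa) (b := π xb) hcard8 (by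
      refine orderOf_eq_prime ?_ ?_
      · rw [← map_pow, pow_two, show U * U = 1 from Subtype.ext u2, map_one]
      · refine nW (R := 1) (by norm_num) ?_ (hne' 1 (by simp))
        rw [hU, c.el1]; exact hm)
    (by rw [hcentX]; exact mem_map_of_mem π (mem_centralizer_singleton_iff.2 (Subtype.ext ca)))
    (by
      refine orderOf_eq_prime_pow (p := 2) (n := 1) ?_ ?_
      · rw [show 2 ^ 1 = 2 from rfl, ← map_pow, pow_two]
        exact nW (R := 1) (by norm_num) eA2 (hne' 1 (by simp))
      · rw [show 2 ^ (1 + 1) = 2 * 2 from rfl, pow_mul, ← map_pow, pow_two xa, ← map_pow, pow_two, eA4, map_one])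
    (by rw [hcentX]; exact mem_map_of_mem π (mem_centralizer_singleton_iff.2 (Subtype.ext cb)))
    (by
      refine orderOf_eq_prime ?_ ?_
      · rw [← map_pow, pow_two, show xb * xb = 1 from Subtype.ext ((conj_eq_one_iff (a := m)).1 (by
          rw [Subgroup.coe_mul, show m * ((xb : G) * xb) * m⁻¹ = (m * xb * m⁻¹) * (m * xb * m⁻¹) by group, eb,
            ← c.mul hB hB, hB2, c.one])), map_one]
      · refine nW hB eb ?_
        decide +kernel)
    (by
      rw [← map_inv, ← map_mul, ← map_mul, ← map_inv]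
      refine congrArg π (Subtype.ext (mul_left_cancel (a := m) (mul_right_cancel (b := m⁻¹) ?_)))
      rw [Subgroup.coe_mul, Subgroup.coe_mul, Subgroup.coe_inv, Subgroup.coe_inv,
        show m * ((xb : G) * xa * (xb : G)⁻¹) * m⁻¹ = (m * xb * m⁻¹) * (m * xa * m⁻¹) * (m * xb * m⁻¹)⁻¹ by group,
        show m * (xa : G)⁻¹ * m⁻¹ = (m * xa * m⁻¹)⁻¹ by group, ea, eb, ← el_inv c.rel hA, ← c.cj hB hA, hBA])
  have h360 : Nat.card (K ⧸ W) = 360 := by
    refine hcard.resolve_left fun h168 => ?_
    -- an element of order five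
    set s : K := ⟨σ, mK o.cS⟩ * ⟨el f (Data.numU.getD 1 0), mK o.cV⟩ with hs
    have hr := a.rels _ (List.contains_iff_mem.1 letter_bounds.2.2.1)
    have hU1 : Data.numU.getD 1 0 < 1920 := by decide +kernel
    have hsG : (s : G) = σ * el f (Data.numU.getD 1 0) := rfl
    have hs5 : (s : G) ^ 5 = 1 := by
      rw [← hr, hsG]
      simp only [wv_cons, wv_nil, lv_el hU1, show lv (el f) τ σ 1922 = σ from rfl, pow_succ, pow_zero, one_mul,
        mul_one, mul_assoc]
    have h5 : (π s) ^ 5 = 1 := by rw [← map_pow, show s ^ 5 = 1 from Subtype.ext (by rw [Subgroup.coe_pow]; exact hs5), map_one]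
    have hne1 : (s : G) ≠ 1 := by
      intro e
      have hword := a.word [1922, Data.numU.getD 1 0] (by decide +kernel)
      rw [show wv (el f) τ σ [1922, Data.numU.getD 1 0] = (s : G) by
        rw [wv_cons, wv_cons, wv_nil, lv_el hU1, mul_one, hsG]; rfl, e] at hword
      have := c.act_unique hword.1 (c.rep_one d).1
      revert this
      decide +kernel
    have hn5 : π s ≠ 1 := by
      intro e
      have h3 : (s : G) ^ 3 = 1 := by
        rcases (hwW s).1 ((QuotientGroup.eq_one_iff s).1 e) with h' | h' | h' <;> rw [h']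
        · exact one_pow 3
        · rw [pow_three]; exact hw3
        · rw [pow_three]
          calc omG f τ * omG f τ * (omG f τ * omG f τ * (omG f τ * omG f τ))
              = (omG f τ * (omG f τ * omG f τ)) * (omG f τ * (omG f τ * omG f τ)) := by group
            _ = 1 := by rw [hw3, one_mul]
      apply hne1
      calc (s : G) = ((s : G) ^ 3) ^ 2 * ((s : G) ^ 5)⁻¹ := by group
        _ = 1 := by rw [h3, hs5]; group
    haveI : Fact (Nat.Prime 5) := ⟨by norm_num⟩
    have := orderOf_eq_prime h5 hn5 ▸ orderOf_dvd_natCard (π s)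
    rw [h168] at this
    norm_num at this
  haveI := hsimp
  haveI : IsSimpleGroup ↥(alternatingGroup (Fin 6)) := alternatingGroup.isSimpleGroup (by simp)
  obtain ⟨e1⟩ := CfsgLib.SmallSimple.O360.nonempty_iso h360
  obtain ⟨e2⟩ := CfsgLib.SmallSimple.O360.nonempty_iso (G := ↥(alternatingGroup (Fin 6))) (by
    rw [nat_card_alternatingGroup, Nat.card_fin]; rfl)
  let e := e1.trans e2.symm
  refine ⟨(alternatingGroup (Fin 6)).subtype.comp (e.toMonoidHom.comp π), fun x => (e (π x)).2, fun x => ?_⟩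
  rw [MonoidHom.comp_apply, MonoidHom.comp_apply, ← hwW, ← QuotientGroup.eq_one_iff]
  constructor
  · intro h'
    exact e.injective (Subtype.ext (h'.trans (by simp)))
  · intro h'
    simp [π, h']

end Ctx

end CfsgLib.JThreeUniq
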