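import Cfsg.Agent.Lib.JThreeUniq.NormA
import Cfsg.Agent.Lib.JThreeUniq.Data.Six

/-!
Words for the centralizer of the scalar element: the facts that follow from the centralizer of the involution and
the normalizer of the group of order sixteen.
-/

set_option autoImplicit false
set_option maxRecDepth 100000

namespace CfsgLib.JThreeUniq

open CfsgLib.JTwoUniq CfsgLib.JTwoUniq.Coset Subgroup

/-- The inverse of a word. -/
def invL (w : List ℕ) : List ℕ := w.reverse.map linv

/-- The conjugate of the scalar element under the fourth generator, as a word. -/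
def rOmW : List ℕ := [cjN 4 Data.omU, Data.relK, 1921, Data.relK, 1921]

/-- Equal affine maps of two words. -/
def sameB (v w : List ℕ) : Bool := v.all letA && w.all letA && repW v == repW w

theorem omega_checks :
    sameB (Data.wordG ++ rOmW ++ invL Data.wordG) [Data.numC] = true ∧
    sameB (Data.wordG ++ [cjN 4 (Data.numU.getD 0 0)] ++ invL Data.wordG) [1] = true ∧
    sameB (Data.wordG ++ [cjN 4 (Data.numU.getD 1 0)] ++ invL Data.wordG) [3] = true ∧
    sameB (Data.wordG ++ [cjN 4 (Data.numU.getD 2 0)] ++ invL Data.wordG) [2] = true ∧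
    sameB (Data.wordOm ++ [Data.numU.getD 0 0]) ([Data.numU.getD 0 0] ++ Data.wordOm) = true ∧
    sameB (Data.wordOm ++ [Data.numU.getD 1 0]) ([Data.numU.getD 1 0] ++ Data.wordOm) = true ∧
    sameB (Data.wordOm ++ [1922]) ([1922] ++ Data.wordOm) = true ∧
    sameB Data.wordP ([Data.numU.getD 2 0] ++ Data.wordOm ++ Data.wordOm) = true ∧
    sameB (Data.wordO ++ [invN Data.numC]) ([invN Data.numC] ++ Data.wordO) = true ∧
    sameB (Data.wordO ++ [1]) ([2] ++ Data.wordO) = true ∧
    sameB (Data.wordO ++ [2]) ([3] ++ Data.wordO) = true := by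
  refine ⟨?_, ?_, ?_, ?_, ?_, ?_, ?_, ?_, ?_, ?_, ?_⟩ <;> decide +kernel

theorem number_checks : Data.wordH = Data.wordG ++ [4] ∧ Data.wordHi = [4] ++ invL Data.wordG ∧
    Data.wordE = Data.wordHi ++ [4] ++ Data.wordH ∧
    Data.wordT = Data.wordHi ++ [Data.numS] ++ Data.wordO ++ [invN Data.numS] ++ Data.wordH ∧
    Data.wordF = Data.wordP ++ [1922] ++ Data.wordE ++ [1922] ∧
    Data.wordF1 = Data.wordP ++ [1922] ++ Data.wordE ++ [Data.numU.getD 0 0, 1922] ∧
    Data.wordOm = [Data.omU, 1920, 1920] ∧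
    mulN (Data.numU.getD 0 0) (Data.numU.getD 1 0) = Data.numU.getD 2 0 ∧
    mulN (Data.numU.getD 0 0) (Data.numU.getD 0 0) = 0 ∧ mulN (Data.numU.getD 1 0) (Data.numU.getD 1 0) = 0 ∧
    mulN 4 Data.numC = mulN Data.numC 4 ∧ mulN 4 4 = 0 ∧ cjN 4 1 = 1 ∧ cjN 4 3 = 2 ∧ cjN 4 2 = 3 ∧
    cjN (invN Data.numS) Data.numC = invN Data.numC ∧ cjN (invN Data.numS) 1 = 1 ∧
    cjN Data.numS 2 = 4 ∧ cjN (invN Data.numS) 4 = 2 ∧ cjN Data.numS 3 = mulN 1 4 := by
  refine ⟨?_, ?_, ?_, ?_, ?_, ?_, ?_, ?_, ?_, ?_, ?_, ?_, ?_, ?_, ?_, ?_, ?_, ?_, ?_, ?_⟩ <;> decide +kernel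

theorem letter_bounds : (Data.numS :: Data.numC :: Data.numU).all (fun u => Nat.blt u 1920) = true ∧
    Data.relsM.dropLast.contains [1922, Data.numU.getD 0 0, 1922, Data.numU.getD 0 0, 1922, Data.numU.getD 0 0] =
      true ∧
    Data.relsM.dropLast.contains [1922, Data.numU.getD 1 0, 1922, Data.numU.getD 1 0, 1922, Data.numU.getD 1 0,
      1922, Data.numU.getD 1 0, 1922, Data.numU.getD 1 0] = true ∧
    Data.relsM.dropLast.contains [1922, Data.numU.getD 2 0, 1922, Data.numU.getD 2 0, 1922, Data.numU.getD 2 0,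
      1922, Data.numU.getD 2 0, 1922, Data.numU.getD 2 0] = true := by
  refine ⟨?_, ?_, ?_, ?_⟩ <;> decide +kernel

variable {G : Type*} [Group G] {z : G} {f : ℕ → G} {τ σ : G}

/-- The facts about the scalar element `w`, the involutions `U`, `V`, the conjugate `E` and the element `T`. -/
structure OmegaData (f : ℕ → G) (τ σ : G) (h E T : G) : Prop where
  hom : h * omG f τ * h⁻¹ = el f Data.numC
  hu : h * el f (Data.numU.getD 0 0) * h⁻¹ = el f 1
  cU : el f (Data.numU.getD 0 0) * omG f τ = omG f τ * el f (Data.numU.getD 0 0)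
  cV : el f (Data.numU.getD 1 0) * omG f τ = omG f τ * el f (Data.numU.getD 1 0)
  cS : σ * omG f τ = omG f τ * σ
  cE : E * omG f τ = omG f τ * E
  cT : T * omG f τ = omG f τ * T
  E2 : E * E = 1
  EU : E * el f (Data.numU.getD 0 0) = el f (Data.numU.getD 0 0) * E
  EV : E * (el f (Data.numU.getD 1 0) * E) = el f (Data.numU.getD 0 0) * el f (Data.numU.getD 1 0)
  TU : T * el f (Data.numU.getD 0 0) = E * T
  TE : T * E = el f (Data.numU.getD 0 0) * E * T
  eE : wv (el f) τ σ Data.wordE = E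
  eT : wv (el f) τ σ Data.wordT = T
  eP : wv (el f) τ σ Data.wordP = el f (Data.numU.getD 0 0) * el f (Data.numU.getD 1 0) * (omG f τ * omG f τ)
  eW : wv (el f) τ σ Data.wordOm = omG f τ

namespace Ctx

variable (c : Ctx z f) (d : TauV f τ) (a : SigA f τ σ)
include c d a

theorem same_words {v w : List ℕ} (h : sameB v w = true) : wv (el f) τ σ v = wv (el f) τ σ w := by
  simp only [sameB, Bool.and_eq_true, beq_iff_eq] at h
  have h1 := a.word v h.1.1
  rw [h.2] at h1
  exact c.rep_unique d h1 (a.word w h.1.2)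

theorem exists_omegaData : ∃ h E T, OmegaData f τ σ h E T := by
  obtain ⟨k1, k2, k3, k4, k5, k6, k7, k8, k9, k10, k11⟩ := omega_checks
  obtain ⟨eH, eHi, eE, eT, -, -, eW, huv, hu0, hu1, h4c, h44, c1, c3, c2, s1, s2, s3, s4, s5⟩ := number_checks
  have hb := letter_bounds.1
  simp only [List.all_cons, Bool.and_eq_true, Nat.blt_eq, List.all_eq_true] at hb
  obtain ⟨hS, hC, hUs⟩ := hb
  have hU : ∀ i, i < 3 → Data.numU.getD i 0 < 1920 := fun i hi => by interval_cases i <;> decide +kernel
  have hom : wv (el f) τ σ Data.wordOm = omG f τ := by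
    rw [eW]
    simp [wv, lv, omG, show Data.omU < 1920 from (c.memV (c.om_mem d)).1, mul_assoc]
  set g := wv (el f) τ σ Data.wordG with hg
  have hginv : wv (el f) τ σ (invL Data.wordG) = g⁻¹ := wv_inverse a.sys range_nums _
  set r := el f 4 with hr
  have hr2 : r * r = 1 := by rw [hr, ← c.mul (by norm_num) (by norm_num), h44, c.one]
  have hri : r⁻¹ = r := inv_eq_of_mul_eq_one_right hr2
  have one_el : ∀ {u : ℕ}, u < 1920 → wv (el f) τ σ [u] = el f u := fun hu => by
    simp [wv, lv_el hu]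
  have rcj : ∀ {u : ℕ}, u < 1920 → r * el f u * r = el f (cjN 4 u) := fun {u} hu => by
    rw [c.cj (by norm_num) hu, ← hr, hri]
  have hw := (c.memV (c.om_mem d)).1
  have hK : Data.relK < 1920 := by decide +kernel
  have rtr : r * τ * r = el f Data.relK * τ⁻¹ := by rw [← d.relk, ← hr]; group
  have rom : r * omG f τ * r = wv (el f) τ σ rOmW := by
    simp only [rOmW, wv, List.map_cons, List.map_nil, List.prod_cons, List.prod_nil, mul_one,
      lv_el (cjN_lt (show 4 < 1920 by norm_num) hw), lv_el hK, show lv (el f) τ σ 1921 = τ⁻¹ from rfl]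
    rw [← rcj hw, omG]
    calc r * (el f Data.omU * (τ * τ)) * r = r * el f Data.omU * (r * r) * τ * (r * r) * τ * r := by
          rw [hr2]; group
      _ = r * el f Data.omU * r * (r * τ * r) * (r * τ * r) := by group
      _ = _ := by rw [rtr]; group
  set h := g * r with hh
  have hi : h⁻¹ = r * g⁻¹ := by rw [hh, mul_inv_rev, hri]
  have conjG : ∀ {v : List ℕ} {u : ℕ}, u < 1920 → sameB (Data.wordG ++ v ++ invL Data.wordG) [u] = true →
      g * wv (el f) τ σ v * g⁻¹ = el f u := by
    intro v u hu e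
    have := c.same_words d a e
    rwa [wv_append, wv_append, hginv, one_el hu] at this
  have hconj : ∀ x : G, h * x * h⁻¹ = g * (r * x * r) * g⁻¹ := fun x => by rw [hi, hh]; group
  have e1 : h * omG f τ * h⁻¹ = el f Data.numC := by rw [hconj, rom]; exact conjG hC k1
  have eU : ∀ {i u : ℕ}, i < 3 → u < 1920 →
      sameB (Data.wordG ++ [cjN 4 (Data.numU.getD i 0)] ++ invL Data.wordG) [u] = true →
      h * el f (Data.numU.getD i 0) * h⁻¹ = el f u := by
    intro i u hi' hu e
    rw [hconj, rcj (hU i hi')]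
    have := conjG (v := [cjN 4 (Data.numU.getD i 0)]) hu e
    rwa [one_el (cjN_lt (by norm_num) (hU i hi'))] at this
  have u0 := eU (i := 0) (by norm_num) (by norm_num) k2
  have u1 := eU (i := 1) (by norm_num) (by norm_num) k3
  have u2 := eU (i := 2) (by norm_num) (by norm_num) k4
  have comm : ∀ {u : ℕ}, u < 1920 → sameB (Data.wordOm ++ [u]) ([u] ++ Data.wordOm) = true →
      el f u * omG f τ = omG f τ * el f u := by
    intro u hu e
    have := c.same_words d a e
    rw [wv_append, wv_append, one_el hu, hom] at this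
    exact this.symm
  have hE : wv (el f) τ σ Data.wordE = h⁻¹ * r * h := by
    rw [eE, eHi, eH, wv_append, wv_append, wv_append, wv_append, hginv, one_el (by norm_num), hi, hh]
  set E := h⁻¹ * r * h with hEdef
  have hconjE : h * E * h⁻¹ = r := by rw [hEdef]; group
  set y := el f Data.numS with hy
  set o := wv (el f) τ σ Data.wordO with ho
  have hT : wv (el f) τ σ Data.wordT = h⁻¹ * (y * o * y⁻¹) * h := by
    rw [eT, eHi, eH]
    simp only [wv_append, hginv, one_el (show 4 < 1920 by norm_num), one_el hS,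
      one_el (range_nums.inv _ hS), el_inv c.rel hS, hi, hh, mul_inv_rev, hri, ← hr, ← hg, ← ho, ← hy]
    group
  set T := h⁻¹ * (y * o * y⁻¹) * h with hTdef
  have hconjT : h * T * h⁻¹ = y * o * y⁻¹ := by rw [hTdef]; group
  have ocomm : ∀ {u v : ℕ}, u < 1920 → v < 1920 → sameB (Data.wordO ++ [u]) ([v] ++ Data.wordO) = true →
      o * el f u = el f v * o := by
    intro u v hu hv e
    have := c.same_words d a e
    rwa [wv_append, wv_append, one_el hu, one_el hv] at this
  have yconj : ∀ {u v : ℕ}, u < 1920 → cjN (invN Data.numS) u = v → y⁻¹ * el f u * y = el f v := by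
    intro u v hu e
    rw [← e, c.cj (range_nums.inv _ hS) hu, el_inv c.rel hS, inv_inv]
  have inj_h : ∀ {x x' : G}, h * x * h⁻¹ = h * x' * h⁻¹ → x = x' := fun e => mul_left_cancel (mul_right_cancel e)
  have r1 : r * el f 1 = el f 1 * r := by
    rw [c.el1]; exact mem_centralizer_singleton_iff.1 (c.mem (by norm_num))
  refine ⟨h, E, T, e1, u0, comm (hU 0 (by norm_num)) k5, comm (hU 1 (by norm_num)) k6, ?_, ?_, ?_, ?_, ?_, ?_, ?_,
    ?_, hE, hT, ?_, hom⟩
  · have := c.same_words d a k7
    rw [wv_append, wv_append, hom, show wv (el f) τ σ [1922] = σ by simp [wv, lv]] at this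
    exact this.symm
  · refine inj_h ?_
    rw [show h * (E * omG f τ) * h⁻¹ = (h * E * h⁻¹) * (h * omG f τ * h⁻¹) by group,
      show h * (omG f τ * E) * h⁻¹ = (h * omG f τ * h⁻¹) * (h * E * h⁻¹) by group, hconjE, e1, hr]
    exact (c.comm_iff (by norm_num) hC).2 h4c
  · refine inj_h ?_
    rw [show h * (T * omG f τ) * h⁻¹ = (h * T * h⁻¹) * (h * omG f τ * h⁻¹) by group,
      show h * (omG f τ * T) * h⁻¹ = (h * omG f τ * h⁻¹) * (h * T * h⁻¹) by group, hconjT, e1]
    have hy' := yconj hC s1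
    have ho' := ocomm (range_nums.inv _ hC) (range_nums.inv _ hC) k9
    calc y * o * y⁻¹ * el f Data.numC = y * (o * (y⁻¹ * el f Data.numC * y)) * y⁻¹ := by group
      _ = y * (el f (invN Data.numC) * o) * y⁻¹ := by rw [hy', ho']
      _ = _ := by rw [← hy']; group
  · refine inj_h ?_
    rw [show h * (E * E) * h⁻¹ = (h * E * h⁻¹) * (h * E * h⁻¹) by group, hconjE, hr2]
    group
  · refine inj_h ?_
    rw [show h * (E * el f (Data.numU.getD 0 0)) * h⁻¹ = (h * E * h⁻¹) * (h * el f (Data.numU.getD 0 0) * h⁻¹) by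
        group, show h * (el f (Data.numU.getD 0 0) * E) * h⁻¹ =
        (h * el f (Data.numU.getD 0 0) * h⁻¹) * (h * E * h⁻¹) by group, hconjE, u0]
    exact r1
  · rw [← c.mul (hU 0 (by norm_num)) (hU 1 (by norm_num)), huv]
    refine inj_h ?_
    rw [show h * (E * (el f (Data.numU.getD 1 0) * E)) * h⁻¹ =
      (h * E * h⁻¹) * (h * el f (Data.numU.getD 1 0) * h⁻¹) * (h * E * h⁻¹) by group, hconjE, u1, u2,
      rcj (by norm_num), c3]
  · refine inj_h ?_
    rw [show h * (T * el f (Data.numU.getD 0 0)) * h⁻¹ = (h * T * h⁻¹) * (h * el f (Data.numU.getD 0 0) * h⁻¹) by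
      group, show h * (E * T) * h⁻¹ = (h * E * h⁻¹) * (h * T * h⁻¹) by group, hconjT, u0, hconjE]
    calc y * o * y⁻¹ * el f 1 = y * (o * (y⁻¹ * el f 1 * y)) * y⁻¹ := by group
      _ = y * el f 2 * y⁻¹ * (y * o * y⁻¹) := by
        rw [yconj (by norm_num) s2, ocomm (by norm_num) (by norm_num) k10]; group
      _ = _ := by rw [hy, ← c.cj hS (by norm_num), s3]
  · refine inj_h ?_
    rw [show h * (T * E) * h⁻¹ = (h * T * h⁻¹) * (h * E * h⁻¹) by group,
      show h * (el f (Data.numU.getD 0 0) * E * T) * h⁻¹ =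
        (h * el f (Data.numU.getD 0 0) * h⁻¹) * (h * E * h⁻¹) * (h * T * h⁻¹) by group, hconjT, hconjE, u0]
    calc y * o * y⁻¹ * r = y * (o * (y⁻¹ * el f 4 * y)) * y⁻¹ := by rw [hr]; group
      _ = y * el f 3 * y⁻¹ * (y * o * y⁻¹) := by
        rw [yconj (by norm_num) s4, ocomm (by norm_num) (by norm_num) k11]; group
      _ = _ := by rw [hy, ← c.cj hS (by norm_num), s5, c.mul (by norm_num) (by norm_num)]
  · rw [c.same_words d a k8, wv_append, wv_append, one_el (hU 2 (by norm_num)), hom,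
      ← c.mul (hU 0 (by norm_num)) (hU 1 (by norm_num)), huv, mul_assoc]

end Ctx

end CfsgLib.JThreeUniq
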