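import Cfsg.Agent.Lib.JThreeUniq.Certs
import Cfsg.Agent.Lib.JThreeUniq.Data.Six

/-!
The candidates for the last relation and the last relators of the certificates.
-/

set_option autoImplicit false
set_option maxRecDepth 100000

namespace CfsgLib.JThreeUniq

/-- The certificates, in the order of the candidates. -/
def certAt : List Dce :=
  [certM, certK1_, certK2_, certK3_, certK4_, certK5_, certK6_, certK7_, certK8_, certK9_, certK10_, certK11_,
    certK12_, certK13_, certK14_, certK15_, certK16_, certK17_, certK18_, certK19_, certK20_, certK21_, certK22_,
    certK23_]

theorem variant_checks : certAt.map (fun c => c.rels.dropLast) = List.replicate 24 Data.relsM.dropLast ∧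
    certAt.map (fun c => c.rels.drop 13) = Data.variants.map (fun w => [nf w]) ∧
    Data.variants.length = 24 := by
  refine ⟨?_, ?_, ?_⟩ <;> decide +kernel

end CfsgLib.JThreeUniq
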